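import Mathlib.GroupTheory.Index
import Mathlib.GroupTheory.Subgroup.Centralizer
import Mathlib.Tactic.Ring
import Mathlib.Tactic.GCongr
import Mathlib.Tactic.Group

/-!
Counting lemmas for subgroups of finite groups (product formula inequality).
-/

set_option autoImplicit false

namespace CfsgLib.LocEven

variable {G : Type*} [Group G]

theorem card_mul_relIndex' {H K : Subgroup G} (h : H ≤ K) :
    Nat.card H * H.relIndex K = Nat.card K := by
  have := Subgroup.relIndex_mul_relIndex (⊥ : Subgroup G) H K bot_le h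
  rwa [Subgroup.relIndex_bot_left, Subgroup.relIndex_bot_left] at this

/-- `|H||K| ≤ |H ∩ K||L|` for subgroups `H, K` of a finite subgroup `L`. -/
theorem card_mul_card_le_card_inf_mul [Finite G] {H K L : Subgroup G} (hH : H ≤ L) (hK : K ≤ L) :
    Nat.card H * Nat.card K ≤ Nat.card ↥(H ⊓ K) * Nat.card L := by
  have h1 := card_mul_relIndex' (inf_le_right : H ⊓ K ≤ K)
  rw [Subgroup.inf_relIndex_right] at h1
  have h2 := card_mul_relIndex' hH
  have h3 : H.relIndex K ≤ H.relIndex L :=
    Subgroup.relIndex_le_of_le_right hK (by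
      intro h0
      rw [h0, Nat.mul_zero] at h2
      exact Nat.card_pos.ne' h2.symm)
  calc Nat.card H * Nat.card K = Nat.card ↥(H ⊓ K) * (Nat.card H * H.relIndex K) := by
        rw [← h1]; ring
    _ ≤ Nat.card ↥(H ⊓ K) * (Nat.card H * H.relIndex L) := by gcongr
    _ = Nat.card ↥(H ⊓ K) * Nat.card L := by rw [h2]

theorem card_mul_card_le_card_inf_mul_sup [Finite G] (H K : Subgroup G) :
    Nat.card H * Nat.card K ≤ Nat.card ↥(H ⊓ K) * Nat.card ↥(H ⊔ K) :=
  card_mul_card_le_card_inf_mul le_sup_left le_sup_right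

end CfsgLib.LocEven
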