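import Cfsg.Prelude.Def_PLocal
import Cfsg.Agent.Lib.LocEven.Card
import Mathlib.GroupTheory.Nilpotent

/-!
Thompson replacement for abelian subgroups of largest order.
-/

set_option autoImplicit false

namespace CfsgLib.LocEven

open Cfsg
open scoped commutatorElement

variable {G : Type*} [Group G]

theorem commute_of_comm {A : Subgroup G} (h : IsMulCommutative A) {a b : G} (ha : a ∈ A)
    (hb : b ∈ A) : a * b = b * a :=
  congrArg Subtype.val (h.is_comm.comm (⟨a, ha⟩ : A) ⟨b, hb⟩)

theorem le_centralizer_self {A : Subgroup G} (h : IsMulCommutative A) :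
    A ≤ Subgroup.centralizer (A : Set G) :=
  fun _ ha _ hb => commute_of_comm h hb ha

theorem comm_of_le_centralizer {A : Subgroup G} (h : A ≤ Subgroup.centralizer (A : Set G)) :
    IsMulCommutative A :=
  ⟨⟨fun a b => Subtype.ext (h b.2 a a.2)⟩⟩

theorem comm_sup {A B : Subgroup G} (hA : IsMulCommutative A) (hB : IsMulCommutative B)
    (h : A ≤ Subgroup.centralizer (B : Set G)) : IsMulCommutative ↥(A ⊔ B) := by
  apply comm_of_le_centralizer
  refine sup_le ?_ ?_
  · rw [Subgroup.le_centralizer_iff]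
    exact sup_le (le_centralizer_self hA) (Subgroup.le_centralizer_iff.mp h)
  · rw [Subgroup.le_centralizer_iff]
    exact sup_le h (le_centralizer_self hB)

theorem centralizer_eq_of_mem_maxAbelian [Finite G] {A : Subgroup G}
    (hA : A ∈ maxAbelianSubgroups G) : Subgroup.centralizer (A : Set G) = A := by
  refine le_antisymm ?_ (le_centralizer_self hA.1)
  intro x hx
  have hc : IsMulCommutative ↥(A ⊔ Subgroup.zpowers x) := by
    refine comm_sup hA.1 inferInstance ?_
    rw [Subgroup.le_centralizer_iff, Subgroup.zpowers_le]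
    exact hx
  have h : A = A ⊔ Subgroup.zpowers x := Subgroup.eq_of_le_of_card_ge le_sup_left (hA.2 _ hc)
  rw [h]
  exact (le_sup_right : Subgroup.zpowers x ≤ A ⊔ Subgroup.zpowers x) (Subgroup.mem_zpowers x)

theorem exists_maxAbelian [Finite G] : ∃ A, A ∈ maxAbelianSubgroups G := by
  obtain ⟨A, hA, hmax⟩ := Set.exists_max_image {A : Subgroup G | IsMulCommutative A}
    (fun A => Nat.card A) (Set.toFinite _) ⟨⊥, show IsMulCommutative ↥(⊥ : Subgroup G) from inferInstance⟩
  exact ⟨A, hA, hmax⟩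

theorem maxAbelian_map_equiv {H : Type*} [Group H] (e : G ≃* H) {A : Subgroup G}
    (hA : A ∈ maxAbelianSubgroups G) : A.map e.toMonoidHom ∈ maxAbelianSubgroups H := by
  refine ⟨?_, fun B hB => ?_⟩
  · haveI := hA.1
    infer_instance
  · have h1 : IsMulCommutative ↥(B.map e.symm.toMonoidHom) := by
      haveI := hB
      infer_instance
    have := hA.2 _ h1
    rwa [Subgroup.card_map_of_injective e.symm.injective,
      ← Subgroup.card_map_of_injective (K := A) (f := e.toMonoidHom) e.injective] at this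

/-- Thompson replacement. -/
theorem thompson_replacement_abelian [Finite G] [Group.IsNilpotent G] {A : Subgroup G}
    (hA : A ∈ maxAbelianSubgroups G) {D : Subgroup G} [D.Normal] (hD : IsMulCommutative D)
    (hnot : ¬ D ≤ Subgroup.normalizer (A : Set G)) :
    ∃ B ∈ maxAbelianSubgroups G, A ⊓ D < B ⊓ D ∧ B ≤ Subgroup.normalizer (A : Set G) ∧
      B ≤ D ⊔ A ∧ B ≤ Subgroup.normalClosure (A : Set G) := by
  set D0 := D ⊓ Subgroup.normalizer (A : Set G) with hD0
  have hD0A : A ≤ Subgroup.normalizer (D0 : Set G) := by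
    refine le_trans (le_inf ?_ ?_) Subgroup.inf_normalizer_le_normalizer_inf
    · exact le_top.trans_eq (Subgroup.normalizer_eq_top_iff.mpr inferInstance).symm
    · exact le_trans Subgroup.le_normalizer Subgroup.le_normalizer
  -- an element of `D` outside `D0` that is fixed by `A` modulo `D0`
  obtain ⟨x, hxD, hxA, hx⟩ : ∃ x ∈ D, x ∉ Subgroup.normalizer (A : Set G) ∧
      ∀ a ∈ A, a * x * a⁻¹ * x⁻¹ ∈ D0 := by
    let H := D ⊔ A
    let K := (D0 ⊔ A).subgroupOf H
    have hKtop : K ≠ ⊤ := by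
      intro h
      rw [Subgroup.subgroupOf_eq_top] at h
      exact hnot (le_trans (le_trans le_sup_left h) (sup_le inf_le_right Subgroup.le_normalizer))
    obtain ⟨⟨h, hH⟩, hhN, hhK⟩ :=
      SetLike.exists_of_lt (Group.normalizerCondition_of_isNilpotent K (lt_top_iff_ne_top.mpr hKtop))
    obtain ⟨x, hx, a', ha', rfl⟩ := (Subgroup.mem_sup_of_normal_left (s := D)).mp hH
    have hxA : x ∉ Subgroup.normalizer (A : Set G) := fun hn =>
      hhK (Subgroup.mem_subgroupOf.mpr (mul_mem (le_sup_left (a := D0) ⟨hx, hn⟩ : x ∈ D0 ⊔ A)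
        ((le_sup_right : A ≤ D0 ⊔ A) ha')))
    refine ⟨x, hx, hxA, fun a ha => ?_⟩
    have hconj : x * a * x⁻¹ ∈ D0 ⊔ A := by
      have h1 := (Subgroup.mem_normalizer_iff.mp hhN
        ⟨a'⁻¹ * a * a', (le_sup_right : A ≤ H) (mul_mem (mul_mem (inv_mem ha') ha) ha')⟩).mp
        (Subgroup.mem_subgroupOf.mpr ((le_sup_right : A ≤ D0 ⊔ A)
          (mul_mem (mul_mem (inv_mem ha') ha) ha')))
      have h2 := Subgroup.mem_subgroupOf.mp h1
      simpa [mul_assoc] using h2
    have hc : a * x * a⁻¹ * x⁻¹ ∈ D0 ⊔ A := by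
      have h2 : a * (x * a⁻¹ * x⁻¹) ∈ D0 ⊔ A := by
        refine mul_mem ((le_sup_right : A ≤ D0 ⊔ A) ha) ?_
        simpa [mul_assoc] using inv_mem hconj
      simpa [mul_assoc] using h2
    have hcD : a * x * a⁻¹ * x⁻¹ ∈ D :=
      mul_mem ((inferInstance : D.Normal).conj_mem x hx a) (inv_mem hx)
    exact ⟨hcD, sup_le inf_le_right Subgroup.le_normalizer hc⟩
  let M := Subgroup.closure {g : G | ∃ a ∈ A, g = a * x * a⁻¹ * x⁻¹}
  let C := A ⊓ Subgroup.centralizer (M : Set G)
  have hMD0 : M ≤ D0 := by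
    rw [Subgroup.closure_le]
    rintro _ ⟨a, ha, rfl⟩
    exact hx a ha
  have hMD : M ≤ D := hMD0.trans inf_le_left
  have hMc : IsMulCommutative M :=
    comm_of_le_centralizer ((hMD.trans (le_centralizer_self hD)).trans
      (Subgroup.centralizer_le hMD))
  have hCc : IsMulCommutative C :=
    comm_of_le_centralizer ((inf_le_left.trans (le_centralizer_self hA.1)).trans
      (Subgroup.centralizer_le (fun y (hy : y ∈ C) => hy.1)))
  have hBc : IsMulCommutative ↥(M ⊔ C) := by
    refine comm_sup hMc hCc ?_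
    rw [Subgroup.le_centralizer_iff]
    exact inf_le_right
  have hADC : A ⊓ D ≤ C := le_inf inf_le_left
    ((inf_le_right.trans (le_centralizer_self hD)).trans (Subgroup.centralizer_le hMD))
  have hcard : Nat.card A ≤ Nat.card ↥(M ⊔ C) := by
    have h1 := card_mul_card_le_card_inf_mul_sup M C
    have hMC : M ⊓ C = M ⊓ A := by
      apply le_antisymm (inf_le_inf_left M inf_le_left)
      exact le_inf inf_le_left (le_inf inf_le_right
        (inf_le_left.trans (le_centralizer_self hMc)))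
    rw [hMC] at h1
    -- the map `A/C → M/(M ∩ A)`
    let f : A ⧸ C.subgroupOf A → M ⧸ A.subgroupOf M := fun q =>
      QuotientGroup.mk (⟨(q.out : G) * x * (q.out : G)⁻¹ * x⁻¹,
        Subgroup.subset_closure ⟨q.out, q.out.2, rfl⟩⟩ : M)
    have hf : Function.Injective f := by
      intro q r hqr
      have hA' := Subgroup.mem_subgroupOf.mp (QuotientGroup.eq.mp hqr)
      rw [← q.out_eq, ← r.out_eq]
      apply QuotientGroup.eq.mpr
      rw [Subgroup.mem_subgroupOf]
      set a := (q.out : G) with ha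
      set a' := (r.out : G) with ha'
      have haA : a ∈ A := q.out.2
      have ha'A : a' ∈ A := r.out.2
      simp only [Subgroup.coe_mul, InvMemClass.coe_inv, ← ha, ← ha'] at hA' ⊢
      refine Subgroup.mem_inf.mpr ⟨mul_mem (inv_mem haA) ha'A, ?_⟩
      set e := (a * x * a⁻¹ * x⁻¹)⁻¹ * (a' * x * a'⁻¹ * x⁻¹) with he
      set b := a⁻¹ * a'
      have heD : e ∈ D := mul_mem (inv_mem (hx a haA).1) (hx a' ha'A).1
      have hea : a * e = e * a := commute_of_comm hA.1 haA hA'
      have hb : b * x * b⁻¹ = e * x := by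
        have h : a' * x * a'⁻¹ = a * x * a⁻¹ * x⁻¹ * e * x := by rw [he]; group
        have h2 : a * x * a⁻¹ * x⁻¹ * e = e * (a * x * a⁻¹ * x⁻¹) :=
          commute_of_comm hD (hx a haA).1 heD
        rw [h2] at h
        calc b * x * b⁻¹ = a⁻¹ * (a' * x * a'⁻¹) * a := by simp only [b]; group
          _ = a⁻¹ * (e * (a * x * a⁻¹ * x⁻¹) * x) * a := by rw [h]
          _ = a⁻¹ * (e * a) * x := by group
          _ = e * x := by rw [← hea]; group
      show b ∈ Subgroup.centralizer (M : Set G)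
      rw [Subgroup.centralizer_closure, Subgroup.mem_centralizer_iff]
      rintro _ ⟨c, hc, rfl⟩
      have hbc : b * c = c * b := commute_of_comm hA.1 (mul_mem (inv_mem haA) ha'A) hc
      have hec : c * e = e * c := commute_of_comm hA.1 hc hA'
      have hkey : b * (c * x * c⁻¹ * x⁻¹) * b⁻¹ = c * x * c⁻¹ * x⁻¹ := by
        have hce : c⁻¹ * e = e * c⁻¹ := by
          calc c⁻¹ * e = c⁻¹ * (e * c) * c⁻¹ := by group
            _ = c⁻¹ * (c * e) * c⁻¹ := by rw [hec]
            _ = e * c⁻¹ := by group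
        have hbc' : b * c⁻¹ * b⁻¹ = c⁻¹ := by
          calc b * c⁻¹ * b⁻¹ = c⁻¹ * (c * b) * c⁻¹ * b⁻¹ := by group
            _ = c⁻¹ * (b * c) * c⁻¹ * b⁻¹ := by rw [hbc]
            _ = c⁻¹ := by group
        calc b * (c * x * c⁻¹ * x⁻¹) * b⁻¹
            = (b * c * b⁻¹) * (b * x * b⁻¹) * (b * c⁻¹ * b⁻¹) * (b * x * b⁻¹)⁻¹ := by group
          _ = c * (e * x) * c⁻¹ * (e * x)⁻¹ := by rw [hb, hbc', hbc]; group
          _ = (c * e) * (x * c⁻¹ * x⁻¹) * e⁻¹ := by group
          _ = e * (c * x * c⁻¹ * x⁻¹) * e⁻¹ := by rw [hec]; group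
          _ = (c * x * c⁻¹ * x⁻¹) * e * e⁻¹ := by
              rw [commute_of_comm hD heD (hx c hc).1]
          _ = c * x * c⁻¹ * x⁻¹ := by group
      calc c * x * c⁻¹ * x⁻¹ * b = b * (c * x * c⁻¹ * x⁻¹) * b⁻¹ * b := by rw [hkey]
        _ = b * (c * x * c⁻¹ * x⁻¹) := by group
    have h2 : C.relIndex A ≤ A.relIndex M := Nat.card_le_card_of_injective f hf
    have h3 := card_mul_relIndex' (inf_le_left : C ≤ A)
    have h4 := card_mul_relIndex' (inf_le_left : M ⊓ A ≤ M)
    rw [inf_comm M A, Subgroup.inf_relIndex_right] at h4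
    rw [inf_comm M A] at h1
    refine Nat.le_of_mul_le_mul_left ?_ (Nat.card_pos (α := ↥(A ⊓ M)))
    refine le_trans ?_ h1
    calc Nat.card ↥(A ⊓ M) * Nat.card A = Nat.card ↥(A ⊓ M) * (Nat.card C * C.relIndex A) := by
          rw [h3]
      _ ≤ Nat.card ↥(A ⊓ M) * (Nat.card C * A.relIndex M) := by gcongr
      _ = Nat.card M * Nat.card C := by rw [← h4]; ring
  refine ⟨M ⊔ C, ⟨hBc, fun B hB => (hA.2 B hB).trans hcard⟩, ?_, ?_, ?_, ?_⟩
  · refine lt_of_le_of_ne (le_inf (hADC.trans le_sup_right) inf_le_right) ?_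
    intro heq
    apply hxA
    have hMA : M ≤ A := fun m hm =>
      (heq.ge (show m ∈ (M ⊔ C) ⊓ D from ⟨(le_sup_left : M ≤ M ⊔ C) hm, hMD hm⟩)).1
    have hfwd : ∀ a ∈ A, x * a * x⁻¹ ∈ A := by
      intro a ha
      have h1 : a⁻¹ * x * a⁻¹⁻¹ * x⁻¹ ∈ A :=
        hMA (Subgroup.subset_closure ⟨a⁻¹, inv_mem ha, rfl⟩)
      have := mul_mem ha h1
      simpa [mul_assoc] using this
    have hmap : A.map (MulAut.conj x).toMonoidHom = A :=
      Subgroup.eq_of_le_of_card_ge (by rintro _ ⟨a, ha, rfl⟩; exact hfwd a ha)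
        (Subgroup.card_map_of_injective (MulAut.conj x).injective).ge
    rw [Subgroup.mem_normalizer_iff]
    intro a
    conv_rhs => rw [← hmap]
    exact (Subgroup.mem_map_iff_mem (f := (MulAut.conj x).toMonoidHom)
      (MulAut.conj x).injective).symm
  · exact sup_le (hMD0.trans inf_le_right) (inf_le_left.trans Subgroup.le_normalizer)
  · exact sup_le (hMD.trans le_sup_left) (inf_le_left.trans le_sup_right)
  · refine sup_le ?_ (inf_le_left.trans Subgroup.le_normalClosure)
    rw [Subgroup.closure_le]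
    rintro _ ⟨a, ha, rfl⟩
    have h1 : a ∈ Subgroup.normalClosure (A : Set G) := Subgroup.le_normalClosure ha
    have h2 : x * a⁻¹ * x⁻¹ ∈ Subgroup.normalClosure (A : Set G) :=
      Subgroup.normalClosure_normal.conj_mem _ (inv_mem h1) x
    simpa [mul_assoc] using mul_mem h1 h2

end CfsgLib.LocEven
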