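import Mathlib.GroupTheory.GroupAction.Quotient
import Mathlib.Data.Set.Finite.Lemmas
import Mathlib.Algebra.Group.Subgroup.Finite
import Cfsg.Agent.Lib.LocEven.Card

/-!
Chermak–Delgado type inequalities for centralizers inside finite groups.
-/

set_option autoImplicit false

namespace CfsgLib.LocEven

variable {G : Type*} [Group G]

theorem centralizer_sup (H K : Subgroup G) :
    Subgroup.centralizer ((H ⊔ K : Subgroup G) : Set G) =
      Subgroup.centralizer (H : Set G) ⊓ Subgroup.centralizer (K : Set G) := by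
  apply le_antisymm
  · exact le_inf (Subgroup.centralizer_le (fun x hx => SetLike.le_def.mp le_sup_left hx))
      (Subgroup.centralizer_le (fun x hx => SetLike.le_def.mp le_sup_right hx))
  · rw [← Subgroup.le_centralizer_iff]
    apply sup_le
    · rw [Subgroup.le_centralizer_iff]; exact inf_le_left
    · rw [Subgroup.le_centralizer_iff]; exact inf_le_right

/-- `|C_L(H)| |C_L(K)| ≤ |C_L(H ∩ K)| |C_L(⟨H,K⟩)|`. -/
theorem card_inf_centralizer_mul_le [Finite G] (L H K : Subgroup G) :
    Nat.card ↥(L ⊓ Subgroup.centralizer (H : Set G)) * Nat.card ↥(L ⊓ Subgroup.centralizer (K : Set G)) ≤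
      Nat.card ↥(L ⊓ Subgroup.centralizer ((H ⊔ K : Subgroup G) : Set G)) *
        Nat.card ↥(L ⊓ Subgroup.centralizer ((H ⊓ K : Subgroup G) : Set G)) := by
  have h := card_mul_card_le_card_inf_mul
    (inf_le_inf_left L (Subgroup.centralizer_le (fun x (hx : x ∈ H ⊓ K) => hx.1)) :
      L ⊓ Subgroup.centralizer (H : Set G) ≤ L ⊓ Subgroup.centralizer ((H ⊓ K : Subgroup G) : Set G))
    (inf_le_inf_left L (Subgroup.centralizer_le (fun x (hx : x ∈ H ⊓ K) => hx.2)) :
      L ⊓ Subgroup.centralizer (K : Set G) ≤ L ⊓ Subgroup.centralizer ((H ⊓ K : Subgroup G) : Set G))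
  rwa [← inf_inf_distrib_left, ← centralizer_sup] at h

/-- If `|H : H ∩ K| ...` is as large as possible then `G = KH` as sets. -/
theorem exists_mul_of_card_eq [Finite G] {H K : Subgroup G}
    (h : Nat.card H * Nat.card K = Nat.card ↥(H ⊓ K) * Nat.card G) (g : G) :
    ∃ k ∈ K, ∃ x ∈ H, g = k * x := by
  have h1 := card_mul_relIndex' (inf_le_right : H ⊓ K ≤ K)
  rw [Subgroup.inf_relIndex_right] at h1
  have h2 := H.card_mul_index
  have h3 : H.relIndex K = H.index := by
    have hp : 0 < Nat.card H * Nat.card ↥(H ⊓ K) := Nat.mul_pos Nat.card_pos Nat.card_pos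
    refine Nat.eq_of_mul_eq_mul_left hp ?_
    calc Nat.card H * Nat.card ↥(H ⊓ K) * H.relIndex K
        = Nat.card H * Nat.card K := by rw [← h1]; ring
      _ = Nat.card ↥(H ⊓ K) * (Nat.card H * H.index) := by rw [h, h2]
      _ = Nat.card H * Nat.card ↥(H ⊓ K) * H.index := by ring
  have hst : MulAction.stabilizer K ((1 : G) : G ⧸ H) = H.subgroupOf K := by
    ext k
    rw [MulAction.mem_stabilizer_iff, Subgroup.mem_subgroupOf,
      show k • ((1 : G) : G ⧸ H) = ((k : G) * 1 : G) from rfl, mul_one, QuotientGroup.eq]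
    simp
  have h4 := MulAction.index_stabilizer K ((1 : G) : G ⧸ H)
  rw [hst, show (H.subgroupOf K).index = H.relIndex K from rfl, h3] at h4
  have h5 : MulAction.orbit K ((1 : G) : G ⧸ H) = Set.univ := by
    apply Set.eq_of_subset_of_ncard_le (Set.subset_univ _)
    rw [Set.ncard_univ, ← h4]
    rfl
  obtain ⟨k, hk⟩ : (g : G ⧸ H) ∈ MulAction.orbit K ((1 : G) : G ⧸ H) := h5 ▸ Set.mem_univ _
  refine ⟨k, k.2, (k : G)⁻¹ * g, ?_, by group⟩
  have hk' : (((k : G) * 1 : G) : G ⧸ H) = (g : G ⧸ H) := hk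
  rw [mul_one, QuotientGroup.eq] at hk'
  exact hk'

theorem centralizer_map_conj (H : Subgroup G) (g : G) :
    Subgroup.centralizer ((H.map (MulAut.conj g).toMonoidHom : Subgroup G) : Set G) =
      (Subgroup.centralizer (H : Set G)).map (MulAut.conj g).toMonoidHom := by
  ext x
  constructor
  · intro hx
    refine ⟨g⁻¹ * x * g, ?_, by simp [mul_assoc]⟩
    intro h hh
    have := hx (g * h * g⁻¹) ⟨h, hh, rfl⟩
    calc h * (g⁻¹ * x * g) = g⁻¹ * (g * h * g⁻¹ * x) * g := by group
      _ = g⁻¹ * (x * (g * h * g⁻¹)) * g := by rw [this]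
      _ = g⁻¹ * x * g * h := by group
  · rintro ⟨c, hc, rfl⟩ y ⟨h, hh, rfl⟩
    simp only [MulEquiv.coe_toMonoidHom, ← map_mul]
    rw [hc h hh]

theorem card_map_conj (H : Subgroup G) (g : G) :
    Nat.card ↥(H.map (MulAut.conj g).toMonoidHom) = Nat.card H :=
  Subgroup.card_map_of_injective (MulAut.conj g).injective

theorem normalizer_mem_map_eq {N : Subgroup G} {g : G} (hg : g ∈ Subgroup.normalizer (N : Set G)) :
    N.map (MulAut.conj g).toMonoidHom = N := by
  ext x
  constructor
  · rintro ⟨n, hn, rfl⟩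
    exact (Subgroup.mem_normalizer_iff.mp hg n).mp hn
  · intro hx
    refine ⟨g⁻¹ * x * g, ?_, by simp [mul_assoc]⟩
    apply (Subgroup.mem_normalizer_iff.mp hg _).mpr
    simpa [mul_assoc] using hx

end CfsgLib.LocEven
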