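import Mathlib.GroupTheory.IsSubnormal
import Mathlib.GroupTheory.Sylow
import Cfsg.Agent.Lib.LocEven.Card
import Cfsg.Agent.Lib.Solvable.Basic

/-!
A Sylow subgroup meets a subnormal subgroup in a Sylow subgroup of it.
-/

set_option autoImplicit false

namespace CfsgLib.LocEven

variable {G : Type*} [Group G] [Finite G] {p : ℕ} [Fact p.Prime]

theorem relIndex_dvd_of_le_normalizer {T H K : Subgroup G} (hT : T ≤ K) (hH : H ≤ K)
    (hn : K ≤ Subgroup.normalizer (H : Set G)) : T.relIndex H ∣ T.relIndex K := by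
  have h1 := CfsgLib.Solvable.relIndex_sup_of_le_normalizer (N := H) (H := T) (hT.trans hn)
  have h2 := card_mul_relIndex' (le_sup_left : H ≤ H ⊔ T)
  have h3 := card_mul_relIndex' (inf_le_right : H ⊓ T ≤ T)
  rw [Subgroup.inf_relIndex_right] at h3
  have h4 := card_mul_relIndex' (inf_le_right : T ⊓ H ≤ H)
  rw [Subgroup.inf_relIndex_right] at h4
  have h5 := card_mul_relIndex' (le_sup_right : T ≤ H ⊔ T)
  have h6 := card_mul_relIndex' (sup_le hH hT)
  have h7 := card_mul_relIndex' hT
  have e : T.relIndex H = T.relIndex (H ⊔ T) := by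
    refine Nat.eq_of_mul_eq_mul_left (Nat.card_pos (α := T)) ?_
    rw [h5, ← h2, h1, ← h4, ← h3, inf_comm]
    ring
  refine ⟨(H ⊔ T).relIndex K, ?_⟩
  rw [e]
  refine Nat.eq_of_mul_eq_mul_left (Nat.card_pos (α := T)) ?_
  rw [← mul_assoc, h7, h5, h6]

theorem not_dvd_relIndex_of_subnormal (S : Sylow p G) {H : Subgroup G} (hH : H.IsSubnormal) :
    ¬ p ∣ (S : Subgroup G).relIndex H := by
  induction hH with
  | top => rw [Subgroup.relIndex_top_right]; exact S.not_dvd_index
  | step H K hle _ hN ih =>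
    intro h
    apply ih
    have hn := (Subgroup.normal_subgroupOf_iff_le_normalizer hle).mp hN
    have h1 := relIndex_dvd_of_le_normalizer (T := (S : Subgroup G) ⊓ K) inf_le_right hle hn
    rw [Subgroup.inf_relIndex_right] at h1
    refine (dvd_trans h ?_).trans h1
    rw [← Subgroup.inf_relIndex_right ((S : Subgroup G) ⊓ K) H, inf_assoc, inf_eq_right.mpr hle,
      Subgroup.inf_relIndex_right]

/-- `S ∩ H` as a Sylow subgroup of the subnormal subgroup `H`. -/
theorem exists_sylow_eq_inf (S : Sylow p G) {H : Subgroup G} (hH : H.IsSubnormal) :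
    ∃ T : Sylow p H, (T : Subgroup H) = (S : Subgroup G).subgroupOf H := by
  have hp : IsPGroup p ((S : Subgroup G).subgroupOf H) :=
    S.isPGroup'.comap_of_injective _ H.subtype_injective
  exact ⟨hp.toSylow (not_dvd_relIndex_of_subnormal S hH), IsPGroup.toSylow_coe _ _⟩

theorem eq_of_isPGroup_of_subnormal (S : Sylow p G) {H U : Subgroup G} (hH : H.IsSubnormal)
    (hle : (S : Subgroup G) ⊓ H ≤ U) (hUH : U ≤ H) (hU : IsPGroup p U) :
    (S : Subgroup G) ⊓ H = U := by
  obtain ⟨T, hT⟩ := exists_sylow_eq_inf S hH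
  have h : U.subgroupOf H = (T : Subgroup H) := by
    refine T.is_maximal' (hU.comap_of_injective _ H.subtype_injective) ?_
    rw [hT]
    intro x hx
    exact Subgroup.mem_subgroupOf.mpr (hle (Subgroup.mem_inf.mpr ⟨Subgroup.mem_subgroupOf.mp hx, x.2⟩))
  rw [hT] at h
  have h' := congrArg (Subgroup.map H.subtype) h
  rw [Subgroup.subgroupOf_map_subtype, Subgroup.subgroupOf_map_subtype, inf_eq_left.mpr hUH] at h'
  exact h'.symm

end CfsgLib.LocEven
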