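import Cfsg.Agent.Lib.Fusion.ZJFusion

/-!
Control of fusion on centric subgroups by `N(Z(J(P)))`, given control inside the normalizers of the
subgroups of `P` containing `Z(P)`.
-/

namespace CfsgLib.LocEven.FusionCentric

open CfsgLib.ZJCenter CfsgLib.NPC CfsgLib.GlaubermanThompson
open CfsgLib.ZJFusion (exists_tame_conj lt_inf_normalizer)

universe u

variable {G : Type u} [Group G] {p : ℕ}

/-- The centre of `P`, inside `G`. -/
def zS (P : Subgroup G) : Subgroup G := P ⊓ Subgroup.centralizer (P : Set G)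

/-- Every conjugate of `D` in `P` contains `Z(P)`. -/
def CentD (P D : Subgroup G) : Prop :=
  ∀ h : G, D.map (MulAut.conj h).toMonoidHom ≤ P → zS P ≤ D.map (MulAut.conj h).toMonoidHom

/-- Every element moving `N_P(W)` into `P` moves `W` over `Z(P)`. -/
def GoodW (P W : Subgroup G) : Prop :=
  ∀ h : G, (P ⊓ Subgroup.normalizer (W : Set G)).map (MulAut.conj h).toMonoidHom ≤ P →
    zS P ≤ W.map (MulAut.conj h).toMonoidHom

theorem CentD.mono {P D U : Subgroup G} (h : CentD P D) (hle : D ≤ U) : CentD P U := fun g hg =>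
  (h g ((Subgroup.map_mono hle).trans hg)).trans (Subgroup.map_mono hle)

theorem map_conj_conj (D : Subgroup G) (a b : G) :
    (D.map (MulAut.conj a).toMonoidHom).map (MulAut.conj b).toMonoidHom =
      D.map (MulAut.conj (b * a)).toMonoidHom := by
  rw [Subgroup.map_map]
  congr 1
  ext x
  simp [mul_assoc]

theorem CentD.conj {P D : Subgroup G} (h : CentD P D) (a : G) :
    CentD P (D.map (MulAut.conj a).toMonoidHom) := by
  intro b hb
  rw [map_conj_conj] at hb ⊢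
  exact h _ hb

theorem CentD.good {P D : Subgroup G} (h : CentD P D) (hD : D ≤ P) : GoodW P D := fun g hg =>
  h g ((Subgroup.map_mono (le_inf hD Subgroup.le_normalizer)).trans hg)

theorem GoodW.centD {P W : Subgroup G} (h : GoodW P W) (hW : W ≤ P) :
    CentD P (P ⊓ Subgroup.normalizer (W : Set G)) := fun g hg =>
  (h g hg).trans (Subgroup.map_mono (le_inf hW Subgroup.le_normalizer))

theorem mem_zj_zero [Finite G] {P T : Subgroup G} (hTP : T ≤ P) {z : G} (hz : z ∈ zS P) (hzT : z ∈ T) :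
    z ∈ zj 0 T := by
  have hc : ∀ a ∈ T, a * z = z * a := fun a ha => Subgroup.mem_centralizer_iff.1 hz.2 a (hTP ha)
  refine ⟨?_, Subgroup.mem_centralizer_iff.2 fun a ha => hc a (CfsgLib.PLoc.joinMaxAb_le 0 T ha)⟩
  obtain ⟨A, hA⟩ := CfsgLib.PLoc.exists_isMaxAb 0 T
  exact le_sSup (α := Subgroup G) hA
    (CfsgLib.PLoc.mem_of_commute hA hzT (pow_zero z) fun a ha => hc a (hA.le ha))

/-- The next subgroup in a chain of normalizers. -/
theorem GoodW.next [Finite G] {P W : Subgroup G} (hG : GoodW P W) (hW : W ≤ P) {h : G} {T : Subgroup G}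
    (hUT : (P ⊓ Subgroup.normalizer (W : Set G)).map (MulAut.conj h⁻¹).toMonoidHom ≤ T)
    (hT : T ≤ P ⊓ Subgroup.normalizer (zj 0 T : Set G)) : GoodW P (zj 0 T) := by
  intro k hk z hz
  have hTk : T.map (MulAut.conj k).toMonoidHom ≤ P := (Subgroup.map_mono hT).trans hk
  have hUk : (P ⊓ Subgroup.normalizer (W : Set G)).map (MulAut.conj (k * h⁻¹)).toMonoidHom ≤
      T.map (MulAut.conj k).toMonoidHom := by
    rw [← map_conj_conj]
    exact Subgroup.map_mono hUT
  rw [zj_map (MulAut.conj k).injective]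
  exact mem_zj_zero hTk hz (hUk (Subgroup.map_mono (le_inf hW Subgroup.le_normalizer)
    (hG _ (hUk.trans hTk) hz)))

/-- Control inside normalizers of subgroups of `P` containing `Z(P)`. -/
def LocCentric (p : ℕ) (P : Subgroup G) : Prop :=
  ∀ W : Subgroup G, W ≤ P → zS P ≤ W →
    ¬ p ∣ (P ⊓ Subgroup.normalizer (W : Set G)).relIndex (Subgroup.normalizer (W : Set G)) →
    ∀ A : Subgroup G, A ≤ P ⊓ Subgroup.normalizer (W : Set G) →
    ∀ g ∈ Subgroup.normalizer (W : Set G), (∀ a ∈ A, g⁻¹ * a * g ∈ P ⊓ Subgroup.normalizer (W : Set G)) →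
      ∃ n ∈ Subgroup.normalizer (W : Set G),
        n ∈ Subgroup.normalizer (zj 0 (P ⊓ Subgroup.normalizer (W : Set G)) : Set G) ∧
        ∀ a ∈ A, n⁻¹ * a * n = g⁻¹ * a * g

variable [Finite G] [hp : Fact p.Prime]

/-- Fusion on centric subgroups. -/
theorem controls_of_centric (P : Sylow p G) (hloc : LocCentric p (P : Subgroup G)) :
    ∀ D : Subgroup G, D ≤ (P : Subgroup G) → CentD (P : Subgroup G) D → ∀ g : G,
      (∀ d ∈ D, g⁻¹ * d * g ∈ (P : Subgroup G)) →
      ∃ n ∈ Subgroup.normalizer (zj 0 (P : Subgroup G) : Set G), ∀ d ∈ D, n⁻¹ * d * n = g⁻¹ * d * g := by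
  set NZ := Subgroup.normalizer (zj 0 (P : Subgroup G) : Set G) with hNZ
  intro D
  induction hk : Nat.card (P : Subgroup G) - Nat.card D using Nat.strong_induction_on generalizing D with
  | _ k ih =>
  intro hD hcD g hg
  have hbig : ∀ U : Subgroup G, U ≤ (P : Subgroup G) → CentD (P : Subgroup G) U → Nat.card D < Nat.card U →
      ∀ h : G, (∀ u ∈ U, h⁻¹ * u * h ∈ (P : Subgroup G)) →
      ∃ n ∈ NZ, ∀ u ∈ U, n⁻¹ * u * n = h⁻¹ * u * h := by
    intro U hU hcU hlt h hh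
    exact ih (Nat.card (P : Subgroup G) - Nat.card U)
      (by have := Subgroup.card_le_of_le hU; omega) U rfl hU hcU h hh
  rcases eq_or_ne D ⊥ with rfl | hDb
  · exact ⟨1, one_mem _, fun d hd => by rw [Subgroup.mem_bot] at hd; simp [hd]⟩
  rcases eq_or_ne D (P : Subgroup G) with rfl | hDP
  · refine ⟨g, ?_, fun _ _ => rfl⟩
    apply normalizer_le_normalizer_zj
    have : g⁻¹ ∈ Subgroup.normalizer ((P : Subgroup G) : Set G) :=
      Subgroup.mem_normalizer_fintype fun d hd => by rw [inv_inv]; exact hg d hd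
    simpa using inv_mem this
  -- elements normalizing a nontrivial subgroup of `P`
  have hPsi : ∀ k : ℕ, ∀ W : Subgroup G, W ≤ (P : Subgroup G) → GoodW (P : Subgroup G) W →
      Nat.card (P : Subgroup G) - Nat.card ((P : Subgroup G) ⊓ Subgroup.normalizer (W : Set G) : Subgroup G) = k →
      Nat.card D < Nat.card ((P : Subgroup G) ⊓ Subgroup.normalizer (W : Set G) : Subgroup G) →
      ∀ D' : Subgroup G, D' ≤ (P : Subgroup G) ⊓ Subgroup.normalizer (W : Set G) →
      ∀ y ∈ Subgroup.normalizer (W : Set G),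
        (∀ d ∈ D', y⁻¹ * d * y ∈ (P : Subgroup G)) →
        (∀ d ∈ D', y⁻¹ * d * y ∈ Subgroup.normalizer (W : Set G)) →
        ∃ n ∈ NZ, ∀ d ∈ D', n⁻¹ * d * n = y⁻¹ * d * y := by
    intro k
    induction k using Nat.strong_induction_on with
    | _ k ihk =>
    intro W hWP hGW hkW hlt D' hD' y hy hyP hyN
    set U := (P : Subgroup G) ⊓ Subgroup.normalizer (W : Set G) with hU
    obtain ⟨h, hhU, hW'P, hsyl⟩ := exists_tame_conj P hWP
    set W' := W.map (MulAut.conj h⁻¹).toMonoidHom with hW'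
    set L := Subgroup.normalizer (W' : Set G) with hL
    set T := (P : Subgroup G) ⊓ L with hT
    obtain ⟨n0, hn0, hn0U⟩ := hbig U inf_le_left (hGW.centD hWP) hlt h fun u hu => (hhU u hu).1
    have hW'Z : zS (P : Subgroup G) ≤ W' := hGW h⁻¹ (by
      rintro _ ⟨u, hu, rfl⟩
      show (MulAut.conj h⁻¹) u ∈ (P : Subgroup G)
      rw [MulAut.conj_apply, inv_inv]
      exact (hhU u hu).1)
    have hy1 : h⁻¹ * y * h ∈ L := by
      have hmem : (MulAut.conj h⁻¹) y ∈
          (Subgroup.normalizer (W : Set G)).map (MulAut.conj h⁻¹).toMonoidHom := ⟨y, hy, rfl⟩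
      have h9 : (MulAut.conj h⁻¹) y ∈ L := Subgroup.le_normalizer_map _ hmem
      rwa [MulAut.conj_apply, inv_inv] at h9
    set D1 := D'.map (MulAut.conj h⁻¹).toMonoidHom with hD1
    have hD1T : D1 ≤ T := by
      rintro _ ⟨d, hd, rfl⟩
      simpa using hhU d (hD' hd)
    have hy1T : ∀ d ∈ D1, (h⁻¹ * y * h)⁻¹ * d * (h⁻¹ * y * h) ∈ T := by
      rintro _ ⟨d, hd, rfl⟩
      have h1 := hhU _ ⟨hyP d hd, hyN d hd⟩
      convert h1 using 1
      simp only [MulEquiv.coe_toMonoidHom, MulAut.conj_apply]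
      group
    obtain ⟨z, hzL, hzN, hz⟩ := hloc W' hW'P hW'Z hsyl
      D1 hD1T _ hy1 hy1T
    have hfin : ∀ n1 ∈ NZ, (∀ d ∈ D1, n1⁻¹ * d * n1 = z⁻¹ * d * z) →
        ∃ n ∈ NZ, ∀ d ∈ D', n⁻¹ * d * n = y⁻¹ * d * y := by
      intro n1 hn1 hn1d
      refine ⟨n0 * n1 * n0⁻¹, mul_mem (mul_mem hn0 hn1) (inv_mem hn0), fun d hd => ?_⟩
      have e1 : n0⁻¹ * d * n0 = h⁻¹ * d * h := hn0U d (hD' hd)
      have hdm : h⁻¹ * d * h ∈ D1 := ⟨d, hd, by simp⟩
      have e2 : n1⁻¹ * (h⁻¹ * d * h) * n1 = (h⁻¹ * y * h)⁻¹ * (h⁻¹ * d * h) * (h⁻¹ * y * h) := by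
        rw [hn1d _ hdm, hz _ hdm]
      have e3 : n0⁻¹ * (y⁻¹ * d * y) * n0 = h⁻¹ * (y⁻¹ * d * y) * h := hn0U _ ⟨hyP d hd, hyN d hd⟩
      calc (n0 * n1 * n0⁻¹)⁻¹ * d * (n0 * n1 * n0⁻¹)
          = n0 * (n1⁻¹ * (n0⁻¹ * d * n0) * n1) * n0⁻¹ := by group
        _ = n0 * (h⁻¹ * (y⁻¹ * d * y) * h) * n0⁻¹ := by rw [e1, e2]; group
        _ = y⁻¹ * d * y := by rw [← e3]; group
    by_cases hTP : T = (P : Subgroup G)
    · rw [← hT, hTP] at hzN
      exact hfin z hzN fun _ _ => rfl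
    have hW'T : W' ≤ T := le_inf hW'P Subgroup.le_normalizer
    have hUmap : U.map (MulAut.conj h⁻¹).toMonoidHom ≤ T := by
      rintro _ ⟨u, hu, rfl⟩; simpa using hhU u hu
    have hTp : IsPGroup p T := P.isPGroup'.to_le inf_le_left
    set W'' := zj 0 T with hW''
    set U' := (P : Subgroup G) ⊓ Subgroup.normalizer (W'' : Set G) with hU'
    have hTU' : T < U' := lt_of_lt_of_le (lt_inf_normalizer P inf_le_left hTP)
      (inf_le_inf_left _ (normalizer_le_normalizer_zj 0 T))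
    have hUT : Nat.card U ≤ Nat.card T := by
      have hle : U.map (MulAut.conj h⁻¹).toMonoidHom ≤ T := by
        rintro _ ⟨u, hu, rfl⟩; simpa using hhU u hu
      calc Nat.card U = Nat.card (U.map (MulAut.conj h⁻¹).toMonoidHom) :=
            (Subgroup.card_map_of_injective (MulAut.conj h⁻¹).injective).symm
        _ ≤ Nat.card T := Subgroup.card_le_of_le hle
    have hTlt : Nat.card T < Nat.card U' :=
      lt_of_not_ge fun hge => hTU'.ne (Subgroup.eq_of_le_of_card_ge hTU'.le hge)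
    obtain ⟨n1, hn1, hn1d⟩ := ihk (Nat.card (P : Subgroup G) - Nat.card U')
      (by
        have h5 : Nat.card U' ≤ Nat.card (P : Subgroup G) := Subgroup.card_le_of_le inf_le_left
        omega) W'' ((zj_le 0 T).trans inf_le_left) (hGW.next hWP hUmap hTU'.le) rfl (lt_of_lt_of_le hlt (hUT.trans hTlt.le))
      D1 (hD1T.trans hTU'.le) z hzN
      (fun d hd => by rw [hz d hd]; exact (hy1T d hd).1)
      (fun d hd => by
        rw [hz d hd]
        exact normalizer_le_normalizer_zj 0 T (Subgroup.le_normalizer (hy1T d hd)))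
    exact hfin n1 hn1 hn1d
  set E := D.map (MulAut.conj g⁻¹).toMonoidHom with hE
  have hEP : E ≤ (P : Subgroup G) := by rintro _ ⟨d, hd, rfl⟩; simpa using hg d hd
  have hEcard : Nat.card E = Nat.card D := Subgroup.card_map_of_injective (MulAut.conj g⁻¹).injective
  obtain ⟨h, hhU, hD0P, hsyl⟩ := exists_tame_conj P hD
  set D0 := D.map (MulAut.conj h⁻¹).toMonoidHom with hD0
  set H := Subgroup.normalizer (D0 : Set G) with hH
  set T := (P : Subgroup G) ⊓ H with hT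
  have hD0card : Nat.card D0 = Nat.card D := Subgroup.card_map_of_injective (MulAut.conj h⁻¹).injective
  have hUD := lt_inf_normalizer P hD hDP
  have hUDlt : Nat.card D < Nat.card ((P : Subgroup G) ⊓ Subgroup.normalizer (D : Set G) : Subgroup G) :=
    lt_of_not_ge fun hge => hUD.ne (Subgroup.eq_of_le_of_card_ge hUD.le hge)
  obtain ⟨nD, hnD, hnDU⟩ := hbig _ inf_le_left (hcD.mono (le_inf hD Subgroup.le_normalizer)) hUDlt h fun u hu => (hhU u hu).1
  have hEne : E ≠ (P : Subgroup G) := fun h' => hDP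
    (Subgroup.eq_of_le_of_card_ge hD (by rw [← hEcard, h']))
  set UE := (P : Subgroup G) ⊓ Subgroup.normalizer (E : Set G) with hUE
  have hUE' : E < UE := lt_inf_normalizer P hEP hEne
  have hUElt : Nat.card D < Nat.card UE :=
    hEcard ▸ lt_of_not_ge fun hge => hUE'.ne (Subgroup.eq_of_le_of_card_ge hUE'.le hge)
  -- conjugate `UE` into `T`
  have hED0 : E.map (MulAut.conj (h⁻¹ * g)).toMonoidHom = D0 := by
    rw [hE, Subgroup.map_map, hD0]
    congr 1
    ext x
    simp [mul_assoc]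
  have hUH : UE.map (MulAut.conj (h⁻¹ * g)).toMonoidHom ≤ H :=
    calc UE.map (MulAut.conj (h⁻¹ * g)).toMonoidHom
        ≤ (Subgroup.normalizer (E : Set G)).map (MulAut.conj (h⁻¹ * g)).toMonoidHom :=
          Subgroup.map_mono inf_le_right
      _ ≤ Subgroup.normalizer (E.map (MulAut.conj (h⁻¹ * g)).toMonoidHom : Set G) :=
          Subgroup.le_normalizer_map _
      _ = H := by rw [hED0]
  obtain ⟨S, hS⟩ := IsPGroup.exists_le_sylow (P := (UE.map (MulAut.conj (h⁻¹ * g)).toMonoidHom).subgroupOf H)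
    ((((P.isPGroup'.to_le inf_le_left).map _)).of_equiv (Subgroup.subgroupOfEquivOfLe hUH).symm)
  have hTH : IsPGroup p (T.subgroupOf H) :=
    (P.isPGroup'.to_le inf_le_left).of_equiv (Subgroup.subgroupOfEquivOfLe inf_le_right).symm
  have hsyl' : ¬ p ∣ (T.subgroupOf H).index := hsyl
  obtain ⟨w, hw⟩ := MulAction.exists_smul_eq H S (hTH.toSylow hsyl')
  set y := ((w : G))⁻¹ with hy
  set z := g⁻¹ * h * y with hz
  have hzU : ∀ u ∈ UE, z⁻¹ * u * z ∈ T := by
    intro u hu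
    have h1 : (⟨(h⁻¹ * g) * u * (h⁻¹ * g)⁻¹, hUH ⟨u, hu, rfl⟩⟩ : H) ∈ (S : Subgroup H) :=
      hS (Subgroup.mem_subgroupOf.2 ⟨u, hu, rfl⟩)
    have h2 : w * (⟨(h⁻¹ * g) * u * (h⁻¹ * g)⁻¹, hUH ⟨u, hu, rfl⟩⟩ : H) * w⁻¹ ∈
        ((hTH.toSylow hsyl' : Sylow p H) : Subgroup H) := by
      rw [← hw, Sylow.coe_subgroup_smul]
      exact ⟨_, h1, rfl⟩
    rw [IsPGroup.toSylow_coe, Subgroup.mem_subgroupOf] at h2
    convert h2 using 1
    rw [hz, hy]
    push_cast
    group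
  obtain ⟨n2, hn2, hn2U⟩ := hbig UE inf_le_left ((hcD.conj g⁻¹).mono hUE'.le) hUElt z fun u hu => (hzU u hu).1
  have hyH : y ∈ H := inv_mem w.2
  have hD0y : ∀ d ∈ D0, y⁻¹ * d * y ∈ D0 := fun d hd => by
    have := (Subgroup.mem_normalizer_iff.1 (inv_mem hyH) d).1 hd
    simpa using this
  have hD0T : D0 ≤ T := le_inf hD0P Subgroup.le_normalizer
  have hTlt : Nat.card D < Nat.card T := by
    refine lt_of_lt_of_le hUDlt ?_
    rw [← Subgroup.card_map_of_injective (f := (MulAut.conj h⁻¹).toMonoidHom) (MulAut.conj h⁻¹).injective]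
    refine Subgroup.card_le_of_le ?_
    rintro _ ⟨u, hu, rfl⟩
    simpa using hhU u hu
  obtain ⟨n3, hn3, hn3d⟩ := hPsi _ D0 hD0P ((hcD.conj h⁻¹).good hD0P) rfl hTlt D0 hD0T y hyH
    (fun d hd => hD0P (hD0y d hd)) (fun d hd => Subgroup.le_normalizer (hD0y d hd))
  refine ⟨nD * n3 * n2⁻¹, mul_mem (mul_mem hnD hn3) (inv_mem hn2), fun d hd => ?_⟩
  have e1 := hnDU d ⟨hD hd, Subgroup.le_normalizer hd⟩
  have e2 := hn3d (h⁻¹ * d * h) ⟨d, hd, by simp⟩
  have hgd : g⁻¹ * d * g ∈ E := ⟨d, hd, by simp⟩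
  have e3 := hn2U (g⁻¹ * d * g) ⟨hEP hgd, Subgroup.le_normalizer hgd⟩
  calc (nD * n3 * n2⁻¹)⁻¹ * d * (nD * n3 * n2⁻¹)
      = n2 * (n3⁻¹ * (nD⁻¹ * d * nD) * n3) * n2⁻¹ := by group
    _ = n2 * (z⁻¹ * (g⁻¹ * d * g) * z) * n2⁻¹ := by rw [e1, e2, hz]; group
    _ = g⁻¹ * d * g := by rw [← e3]; group


end CfsgLib.LocEven.FusionCentric
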