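import Cfsg.Agent.Lib.Fusion.ZJCenter
import Cfsg.Agent.Lib.PLocal.ZJTheorem
import Cfsg.Agent.Lib.PLocal.StableQuotient
import Cfsg.Prelude.Def_LocalEven
import Cfsg.Prelude.Def_TwoFusion

/-!
`Z(J(D))` for a strongly closed subgroup `D` of a Sylow subgroup, and the elementwise form of
`p`-stability in the normalizer sense.
-/

namespace CfsgLib.LocEven.ZJClosed

open CfsgLib.ZJCenter CfsgLib.PLoc
open scoped commutatorElement

variable {G : Type*} [Group G] {p : ℕ}

/-- Quadratic elements of a normalizer lie in a normal subgroup of it inducing a `p`-group. -/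
def NStable (p : ℕ) (G : Type*) [Group G] : Prop :=
  ∀ B : Subgroup G, IsPGroup p B → ∀ a ∈ Subgroup.normalizer (B : Set G),
    (∀ b ∈ B, ⁅⁅b, a⁆, a⁆ = 1) →
    ∃ K : Subgroup G, a ∈ K ∧ K ≤ Subgroup.normalizer (B : Set G) ∧
      (∀ n ∈ Subgroup.normalizer (B : Set G), ∀ k ∈ K, n * k * n⁻¹ ∈ K) ∧
      ∀ k ∈ K, ∃ j : ℕ, k ^ p ^ j ∈ Subgroup.centralizer (B : Set G)

theorem quad_of_elements {B : Subgroup G} {a : G}
    (h : ∀ b ∈ B, ⁅⁅b, a⁆, a⁆ = 1) :
    ⁅⁅B, Subgroup.zpowers a⁆, Subgroup.zpowers a⁆ = ⊥ := by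
  rw [Subgroup.commutator_eq_bot_iff_le_centralizer, Subgroup.commutator_le]
  intro b hb c hc
  obtain ⟨i, rfl⟩ := Subgroup.mem_zpowers_iff.mp hc
  rw [Subgroup.mem_centralizer_iff]
  intro d hd
  have hcm : Commute a ⁅b, a⁆ := (commutatorElement_eq_one_iff_commute.mp (h b hb)).symm
  -- `⁅b, a ^ i⁆` is a power of `⁅b, a⁆`
  have hpow : ∀ j : ℤ, ⁅b, a ^ j⁆ = ⁅b, a⁆ ^ j := by
    intro j
    induction j using Int.induction_on with
    | zero => simp
    | succ j ih =>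
      have e : ⁅b, a ^ ((j : ℤ) + 1)⁆ = ⁅b, a⁆ * (a * ⁅b, a ^ (j : ℤ)⁆ * a⁻¹) := by
        rw [zpow_add, zpow_one, (Commute.zpow_self a (j : ℤ)).eq]
        simp only [commutatorElement_def]; group
      rw [e, ih, (hcm.zpow_right (j : ℤ)).eq, mul_inv_cancel_right, ← zpow_one_add, add_comm]
    | pred j ih =>
      have e : ⁅b, a ^ (-(j : ℤ) - 1)⁆ = a⁻¹ * (⁅b, a⁆⁻¹ * ⁅b, a ^ (-(j : ℤ))⁆) * a := by
        simp only [commutatorElement_def]; group
      rw [e, ih, ← zpow_neg_one ⁅b, a⁆, ← zpow_add, mul_assoc,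
        ← ((hcm.zpow_right _).eq), ← mul_assoc, inv_mul_cancel, one_mul]
      congr 1
      omega
  rw [hpow]
  obtain ⟨k, rfl⟩ := Subgroup.mem_zpowers_iff.mp hd
  exact ((hcm.zpow_right i).zpow_left k).eq

theorem nStable_of_isNormalizerPStable (h : Cfsg.IsNormalizerPStable p G) : NStable p G := by
  intro B hB a ha hq
  have hmem := h B hB a ha (quad_of_elements hq)
  set N := Subgroup.normalizer (B : Set G)
  set C := (Subgroup.centralizer (B : Set G)).subgroupOf N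
  set K0 := (Cfsg.pCore p (↥N ⧸ C)).comap (QuotientGroup.mk' C) with hK0
  refine ⟨K0.map N.subtype, ⟨⟨a, ha⟩, hmem, rfl⟩, Subgroup.map_subtype_le _, ?_, ?_⟩
  · rintro n hn _ ⟨k, hk, rfl⟩
    have hn' : K0.Normal := Subgroup.Normal.comap (CfsgLib.Solvable.pCore_normal p _) _
    exact ⟨⟨n, hn⟩ * k * ⟨n, hn⟩⁻¹, hn'.conj_mem k hk _, by simp⟩
  · rintro _ ⟨k, hk, rfl⟩
    obtain ⟨j, hj⟩ := CfsgLib.Solvable.pCore_isPGroup p (↥N ⧸ C) ⟨_, hk⟩
    refine ⟨j, ?_⟩
    have hj' : QuotientGroup.mk' C (k ^ p ^ j) = 1 := by rw [map_pow]; exact congrArg Subtype.val hj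
    exact Subgroup.mem_subgroupOf.mp ((QuotientGroup.eq_one_iff _).mp hj')

theorem pStableNormal (h : NStable p G) [Finite G] [Fact p.Prime] : PStableNormal p G := by
  intro P hPn hP a ha
  have hN : Subgroup.normalizer (P : Set G) = ⊤ := Subgroup.normalizer_eq_top_iff.mpr hPn
  obtain ⟨K, haK, -, hKn, hK⟩ := h P hP a (hN ▸ Subgroup.mem_top a) fun b hb => by
    have := Subgroup.commutator_mem_commutator
      (Subgroup.commutator_mem_commutator hb (Subgroup.mem_zpowers a)) (Subgroup.mem_zpowers a)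
    rwa [ha, Subgroup.mem_bot] at this
  haveI : K.Normal := ⟨fun k hk n => hKn n (hN ▸ Subgroup.mem_top n) k hk⟩
  set C := Subgroup.centralizer (P : Set G)
  refine CfsgLib.Solvable.le_pCore (N := K.map (QuotientGroup.mk' C))
    (Subgroup.Normal.map inferInstance _ (QuotientGroup.mk'_surjective C)) ?_ ⟨a, haK, rfl⟩
  rintro ⟨_, k, hk, rfl⟩
  obtain ⟨j, hj⟩ := hK k hk
  refine ⟨j, Subtype.ext ?_⟩
  rw [SubgroupClass.coe_pow, ← map_pow]
  exact (QuotientGroup.eq_one_iff _).mpr hj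

theorem stable (h : NStable p G) [Finite G] [Fact p.Prime] (P : Sylow p G) :
    Stable p (P : Subgroup G) := by
  intro B hBn hBP _ a _ ha
  have hN : Subgroup.normalizer (B : Set G) = ⊤ := Subgroup.normalizer_eq_top_iff.mpr hBn
  obtain ⟨K, haK, -, hKn, hK⟩ := h B (P.isPGroup'.to_le hBP) a (hN ▸ Subgroup.mem_top a) fun b hb => by
    have h1 := ha b hb
    rw [commutatorElement_eq_one_iff_commute] at h1 ⊢
    rw [← commutatorElement_inv a b]
    exact h1.symm.inv_left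
  exact ⟨K, ⟨fun k hk n => hKn n (hN ▸ Subgroup.mem_top n) k hk⟩, haK, hK⟩

theorem NStable.subgroup (h : NStable p G) (H : Subgroup G) : NStable p H := by
  intro B hB a ha hq
  set B' := B.map H.subtype
  have hN : ∀ n : H, n ∈ Subgroup.normalizer (B : Set H) → (n : G) ∈ Subgroup.normalizer (B' : Set G) := by
    intro n hn
    exact Subgroup.le_normalizer_map H.subtype ⟨n, hn, rfl⟩
  have hC : ∀ n : H, (n : G) ∈ Subgroup.centralizer (B' : Set G) → n ∈ Subgroup.centralizer (B : Set H) :=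
    fun n hn b hb => Subtype.ext (hn b ⟨b, hb, rfl⟩)
  obtain ⟨K, haK, -, hKn, hK⟩ := h B' (hB.map _) a (hN a ha) (by
    rintro _ ⟨b, hb, rfl⟩
    exact congrArg Subtype.val (hq b hb))
  refine ⟨K.subgroupOf H ⊓ Subgroup.normalizer (B : Set H), ⟨haK, ha⟩, inf_le_right, fun n hn k hk => ⟨?_, ?_⟩,
    fun k hk => ?_⟩
  · exact hKn n (hN n hn) k hk.1
  · exact Subgroup.mul_mem _ (Subgroup.mul_mem _ hn hk.2) (Subgroup.inv_mem _ hn)
  · obtain ⟨j, hj⟩ := hK k hk.1
    exact ⟨j, hC _ hj⟩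

/-- Images modulo a normal `p'`-subgroup. -/
theorem NStable.of_surjective [Finite G] [Fact p.Prime] (h : NStable p G) {H : Type*} [Group H]
    (f : G →* H) (hf : Function.Surjective f) (hker : (Nat.card f.ker).Coprime p) : NStable p H := by
  haveI : Finite H := Finite.of_surjective f hf
  intro B hB a ha hq
  obtain ⟨A, -, hAp, hAB⟩ := exists_pgroup_lift (f := f) (L := ⊤) hB
    (le_top.trans (Subgroup.map_top_of_surjective f hf).ge)
  subst hAB
  have hN := normalizer_map_eq hf hker hAp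
  rw [hN] at ha ⊢
  obtain ⟨a', ha', rfl⟩ := ha
  have hdis := disjoint_of_pgroup_coprime hAp hker
  obtain ⟨K, haK, hKN, hKn, hK⟩ := h A hAp a' ha' (by
    intro b hb
    have h1 : ⁅⁅b, a'⁆, a'⁆ ∈ A := by
      have hm : ∀ c ∈ A, ⁅c, a'⁆ ∈ A := fun c hc => by
        rw [commutatorElement_def, mul_assoc c a', mul_assoc c]
        exact mul_mem hc ((Subgroup.mem_normalizer_iff.mp ha' _).mp (inv_mem hc))
      exact hm _ (hm b hb)
    have h2 : ⁅⁅b, a'⁆, a'⁆ ∈ A ⊓ f.ker := ⟨h1, by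
      show f _ = 1
      rw [map_commutatorElement, map_commutatorElement]
      exact hq _ ⟨b, hb, rfl⟩⟩
    rwa [hdis, Subgroup.mem_bot] at h2)
  refine ⟨K.map f, ⟨a', haK, rfl⟩, Subgroup.map_mono hKN, ?_, ?_⟩
  · rintro _ ⟨n, hn, rfl⟩ _ ⟨k, hk, rfl⟩
    exact ⟨n * k * n⁻¹, hKn n hn k hk, by simp⟩
  · rintro _ ⟨k, hk, rfl⟩
    obtain ⟨j, hj⟩ := hK k hk
    refine ⟨j, ?_⟩
    rintro _ ⟨b, hb, rfl⟩
    rw [← map_pow, ← map_mul, ← map_mul, hj b hb]

theorem stronglyClosedIn_of {P D : Subgroup G} (h : Cfsg.IsStronglyClosed D P) :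
    StronglyClosedIn P D := h

theorem centerThompsonAOf_eq_zj [Finite G] (D : Subgroup G) :
    Cfsg.centerThompsonAOf D = zj 0 D := by
  rw [CfsgLib.PLoc.centerThompsonAOf_eq, ← centerJ_zero_eq]; rfl

theorem centerThompsonOf_eq_zj (D : Subgroup G) : Cfsg.centerThompsonOf p D = zj p D := by
  rw [CfsgLib.PLoc.centerThompsonOf_eq]; rfl

theorem normalizer_le_normalizer_omegaOne [Finite G] (W : Subgroup G) :
    Subgroup.normalizer (W : Set G) ≤ Subgroup.normalizer (Cfsg.omegaOne p W : Set G) := by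
  intro g hg
  refine Subgroup.mem_normalizer_fintype fun x hx => ?_
  induction hx using Subgroup.closure_induction with
  | mem y hy =>
    exact Subgroup.subset_closure ⟨(Subgroup.mem_normalizer_iff.mp hg y).mp hy.1, by
      rw [conj_pow, hy.2, mul_one, mul_inv_cancel]⟩
  | one => simp
  | mul u v _ _ hu hv =>
    rw [show g * (u * v) * g⁻¹ = g * u * g⁻¹ * (g * v * g⁻¹) by group]
    exact mul_mem hu hv
  | inv u _ hu =>
    rw [show g * u⁻¹ * g⁻¹ = (g * u * g⁻¹)⁻¹ by group]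
    exact inv_mem hu

/-- **The ZJ theorem relative to a strongly closed subgroup.** -/
theorem zj_normal [Finite G] [Fact p.Prime] (hp : p ≠ 2)
    (hc : Subgroup.centralizer (Cfsg.pCore p G : Set G) ≤ Cfsg.pCore p G) (hst : NStable p G)
    {e : ℕ} (he : e = 0 ∨ e = p) (P : Sylow p G) {D : Subgroup G}
    (hD : StronglyClosedIn (P : Subgroup G) D) : (zj e D).Normal := by
  haveI := CfsgLib.Solvable.pCore_normal p G
  set Q := Cfsg.pCore p G
  have hQP : Q ≤ (P : Subgroup G) := CfsgLib.Solvable.pCore_le_sylow P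
  have hPD : (P : Subgroup G) ≤ Subgroup.normalizer (D : Set G) := fun g hg =>
    Subgroup.mem_normalizer_fintype fun d hd =>
      hD.2 d hd g (mul_mem (mul_mem hg (hD.1 hd)) (inv_mem hg))
  have hle : zj e D ≤ Q :=
    abelian_normal_in_sylow_le_pCore hc (pStableNormal hst) P
      (IsMulCommutative.of_setLike_mul_comm fun u hu v hv => hv.2 u hu.1)
      ((zj_le e D).trans hD.1) (hPD.trans (normalizer_le_normalizer_zj e D))
  have hBn : (D ⊓ Q).Normal := ⟨fun x hx g => by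
    have hQ := (inferInstance : Q.Normal).conj_mem x hx.2 g
    exact ⟨hD.2 x hx.1 g (hQP hQ), hQ⟩⟩
  have h := zj_inf_normal_rel hp P he (stable hst P) hD (D ⊓ Q) hBn inf_le_left
  rwa [inf_eq_left.mpr (le_inf (zj_le e D) hle)] at h

end CfsgLib.LocEven.ZJClosed
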