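import Cfsg.Agent.Lib.Fusion.ZJFusion
import Cfsg.Agent.Lib.LocEven.ZJClosed
import Cfsg.Agent.Lib.Fusion.GlaubermanThompson

/-!
Control of fusion in `P` by `N(Z(J(D)))` for a subgroup `D` strongly closed in `P`.
The arguments follow those of `CfsgLib.ZJFusion` for `D = P`.
-/

set_option linter.style.haveILetI false

namespace CfsgLib.LocEven.FusionRel

open CfsgLib.ZJCenter CfsgLib.NPC CfsgLib.GlaubermanThompson
open CfsgLib.ZJFusion (Controls controls_top exists_tame_conj lt_inf_normalizer pow_mem_centralizer_of_sup)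
open scoped commutatorElement

universe u

variable {G : Type u} [Group G] {p : ℕ}

theorem normalizer_le [Finite G] {P D : Subgroup G} (h : StronglyClosedIn P D) :
    Subgroup.normalizer (P : Set G) ≤ Subgroup.normalizer (D : Set G) := fun g hg =>
  Subgroup.mem_normalizer_fintype fun d hd =>
    h.2 d hd g ((Subgroup.mem_normalizer_iff.1 hg d).1 (h.1 hd))

theorem inf_normalizer_le [Finite G] {P D : Subgroup G} (h : StronglyClosedIn P D) (T : Subgroup G) :
    P ⊓ Subgroup.normalizer (T : Set G) ≤ Subgroup.normalizer ((D ⊓ T : Subgroup G) : Set G) :=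
  (le_inf (inf_le_left.trans (Subgroup.le_normalizer.trans (normalizer_le h))) inf_le_right).trans
    Subgroup.inf_normalizer_le_normalizer_inf

/-- Control inside normalizers of nontrivial subgroups of `P` with Sylow subgroup in `P`. -/
def LocHyp (p e : ℕ) (P D : Subgroup G) : Prop :=
  ∀ W : Subgroup G, W ≤ P → W ≠ ⊥ →
    ¬ p ∣ (P ⊓ Subgroup.normalizer (W : Set G)).relIndex (Subgroup.normalizer (W : Set G)) →
    ∀ A : Subgroup G, A ≤ P ⊓ Subgroup.normalizer (W : Set G) →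
    ∀ g ∈ Subgroup.normalizer (W : Set G), (∀ a ∈ A, g⁻¹ * a * g ∈ P ⊓ Subgroup.normalizer (W : Set G)) →
      ∃ n ∈ Subgroup.normalizer (W : Set G),
        n ∈ Subgroup.normalizer (zj e (D ⊓ (P ⊓ Subgroup.normalizer (W : Set G))) : Set G) ∧
        ∀ a ∈ A, n⁻¹ * a * n = g⁻¹ * a * g

/-- Control inside proper subgroups with Sylow subgroup in `P`, as given by induction. -/
def RecRel (p e : ℕ) (P D : Subgroup G) : Prop :=
  ∀ L : Subgroup G, L ≠ ⊤ → ∀ T : Subgroup G, T ≤ L → T ≤ P → ¬ p ∣ T.relIndex L →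
    ∀ A : Subgroup G, A ≤ T → ∀ g ∈ L, (∀ a ∈ A, g⁻¹ * a * g ∈ T) →
      ∃ n ∈ L, n ∈ Subgroup.normalizer (zj e (D ⊓ T) : Set G) ∧ ∀ a ∈ A, n⁻¹ * a * n = g⁻¹ * a * g

theorem RecRel.locHyp {e : ℕ} {P D : Subgroup G} (h : RecRel p e P D)
    (hcore : ∀ W : Subgroup G, W.Normal → W ≤ P → W = ⊥) : LocHyp p e P D := by
  intro W hWP hW hsyl
  exact h _ (fun h' => hW (hcore W (Subgroup.normalizer_eq_top_iff.1 h') hWP)) _ inf_le_right
    inf_le_left hsyl

variable [Finite G] [hp : Fact p.Prime]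

/-- A nontrivial strongly closed subgroup meets every subgroup containing `Z(P)`. -/
theorem inf_ne_bot (P : Sylow p G) {D : Subgroup G} (h : StronglyClosedIn (P : Subgroup G) D)
    (hD : D ≠ ⊥) (T : Subgroup G)
    (hT : (P : Subgroup G) ⊓ Subgroup.centralizer ((P : Subgroup G) : Set G) ≤ T) : D ⊓ T ≠ ⊥ := by
  have hn : (D.subgroupOf (P : Subgroup G)).Normal :=
    (Subgroup.normal_subgroupOf_iff_le_normalizer h.1).2 (Subgroup.le_normalizer.trans (normalizer_le h))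
  have hb : D.subgroupOf (P : Subgroup G) ≠ ⊥ := fun h' => hD (by
    rw [← Subgroup.map_subgroupOf_eq_of_le h.1, h', Subgroup.map_bot])
  obtain ⟨z, hz, hzc, hzo⟩ := CfsgLib.PGroup.exists_central_orderOf_eq P.isPGroup' _ hb
  intro hbot
  have hzT : (z : G) ∈ T := hT ⟨z.2, Subgroup.mem_centralizer_iff.2 fun u hu =>
    congrArg Subtype.val (Subgroup.mem_center_iff.1 hzc ⟨u, hu⟩)⟩
  have h1 : (z : G) ∈ D ⊓ T := ⟨hz, hzT⟩
  rw [hbot, Subgroup.mem_bot] at h1
  rw [show z = 1 from Subtype.ext h1, orderOf_one] at hzo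
  exact hp.out.ne_one hzo.symm

theorem rec_sylow {e : ℕ} (P : Sylow p G) {Dc : Subgroup G}
    (hDc : StronglyClosedIn (P : Subgroup G) Dc) (hrec : RecRel p e (P : Subgroup G) Dc)
    {L : Subgroup G} (hPL : (P : Subgroup G) ≤ L) (hL : L ≠ ⊤) {D : Subgroup G}
    (hD : D ≤ (P : Subgroup G)) {g : G}
    (hg : g ∈ L) (hDg : ∀ d ∈ D, g⁻¹ * d * g ∈ (P : Subgroup G)) :
    ∃ n ∈ Subgroup.normalizer (zj e Dc : Set G), ∀ d ∈ D, n⁻¹ * d * n = g⁻¹ * d * g := by
  obtain ⟨n, _, hn, h⟩ := hrec L hL P hPL le_rfl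
    (fun hd => P.not_dvd_index (hd.trans (Subgroup.relIndex_dvd_index_of_le hPL))) D hD g hg hDg
  rw [inf_eq_left.2 hDc.1] at hn
  exact ⟨n, hn, h⟩

/-- The case without a nontrivial normal p-subgroup. -/
theorem controls_of_core_eq_bot {e : ℕ} (he : e = 0 ∨ e = p) (P : Sylow p G) {Dc : Subgroup G}
    (hDc : StronglyClosedIn (P : Subgroup G) Dc) (hloc : LocHyp p e (P : Subgroup G) Dc) :
    Controls (Subgroup.normalizer (zj e Dc : Set G)) (P : Subgroup G) := by
  rcases eq_or_ne Dc ⊥ with hb | hDcb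
  · refine controls_top _ (Subgroup.normalizer_eq_top_iff.2 ?_)
    rw [hb, le_bot_iff.1 (zj_le e (⊥ : Subgroup G))]
    infer_instance
  set NZ := Subgroup.normalizer (zj e Dc : Set G) with hNZ
  intro D
  induction hk : Nat.card (P : Subgroup G) - Nat.card D using Nat.strong_induction_on generalizing D with
  | _ k ih =>
  intro hD g hg
  have hbig : ∀ U : Subgroup G, U ≤ (P : Subgroup G) → Nat.card D < Nat.card U →
      ∀ h : G, (∀ u ∈ U, h⁻¹ * u * h ∈ (P : Subgroup G)) →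
      ∃ n ∈ NZ, ∀ u ∈ U, n⁻¹ * u * n = h⁻¹ * u * h := by
    intro U hU hlt h hh
    exact ih (Nat.card (P : Subgroup G) - Nat.card U)
      (by have := Subgroup.card_le_of_le hU; omega) U rfl hU h hh
  rcases eq_or_ne D ⊥ with rfl | hDb
  · exact ⟨1, one_mem _, fun d hd => by rw [Subgroup.mem_bot] at hd; simp [hd]⟩
  rcases eq_or_ne D (P : Subgroup G) with rfl | hDP
  · refine ⟨g, ?_, fun _ _ => rfl⟩
    refine normalizer_le_normalizer_zj e _ (normalizer_le hDc ?_)
    have : g⁻¹ ∈ Subgroup.normalizer ((P : Subgroup G) : Set G) :=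
      Subgroup.mem_normalizer_fintype fun d hd => by rw [inv_inv]; exact hg d hd
    simpa using inv_mem this
  -- elements normalizing a nontrivial subgroup of `P`
  have hPsi : ∀ k : ℕ, ∀ W : Subgroup G, W ≤ (P : Subgroup G) → W ≠ ⊥ →
      Nat.card (P : Subgroup G) - Nat.card ((P : Subgroup G) ⊓ Subgroup.normalizer (W : Set G) : Subgroup G) = k →
      Nat.card D < Nat.card ((P : Subgroup G) ⊓ Subgroup.normalizer (W : Set G) : Subgroup G) →
      ∀ D' : Subgroup G, D' ≤ (P : Subgroup G) ⊓ Subgroup.normalizer (W : Set G) →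
      ∀ y ∈ Subgroup.normalizer (W : Set G),
        (∀ d ∈ D', y⁻¹ * d * y ∈ (P : Subgroup G)) →
        (∀ d ∈ D', y⁻¹ * d * y ∈ Subgroup.normalizer (W : Set G)) →
        ∃ n ∈ NZ, ∀ d ∈ D', n⁻¹ * d * n = y⁻¹ * d * y := by
    intro k
    induction k using Nat.strong_induction_on with
    | _ k ihk =>
    intro W hWP hW hkW hlt D' hD' y hy hyP hyN
    set U := (P : Subgroup G) ⊓ Subgroup.normalizer (W : Set G) with hU
    obtain ⟨h, hhU, hW'P, hsyl⟩ := exists_tame_conj P hWP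
    set W' := W.map (MulAut.conj h⁻¹).toMonoidHom with hW'
    set L := Subgroup.normalizer (W' : Set G) with hL
    set T := (P : Subgroup G) ⊓ L with hT
    obtain ⟨n0, hn0, hn0U⟩ := hbig U inf_le_left hlt h fun u hu => (hhU u hu).1
    have hW'ne : W' ≠ ⊥ := fun h' => hW ((Subgroup.map_eq_bot_iff_of_injective _
      (MulAut.conj h⁻¹).injective).1 h')
    have hy1 : h⁻¹ * y * h ∈ L := by
      have hmem : (MulAut.conj h⁻¹) y ∈
          (Subgroup.normalizer (W : Set G)).map (MulAut.conj h⁻¹).toMonoidHom := ⟨y, hy, rfl⟩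
      have h9 : (MulAut.conj h⁻¹) y ∈ L := Subgroup.le_normalizer_map _ hmem
      rwa [MulAut.conj_apply, inv_inv] at h9
    set D1 := D'.map (MulAut.conj h⁻¹).toMonoidHom with hD1
    have hD1T : D1 ≤ T := by
      rintro _ ⟨d, hd, rfl⟩
      simpa using hhU d (hD' hd)
    have hy1T : ∀ d ∈ D1, (h⁻¹ * y * h)⁻¹ * d * (h⁻¹ * y * h) ∈ T := by
      rintro _ ⟨d, hd, rfl⟩
      have h1 := hhU _ ⟨hyP d hd, hyN d hd⟩
      convert h1 using 1
      simp only [MulEquiv.coe_toMonoidHom, MulAut.conj_apply]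
      group
    obtain ⟨z, hzL, hzN, hz⟩ := hloc W' hW'P hW'ne hsyl
      D1 hD1T _ hy1 hy1T
    have hfin : ∀ n1 ∈ NZ, (∀ d ∈ D1, n1⁻¹ * d * n1 = z⁻¹ * d * z) →
        ∃ n ∈ NZ, ∀ d ∈ D', n⁻¹ * d * n = y⁻¹ * d * y := by
      intro n1 hn1 hn1d
      refine ⟨n0 * n1 * n0⁻¹, mul_mem (mul_mem hn0 hn1) (inv_mem hn0), fun d hd => ?_⟩
      have e1 : n0⁻¹ * d * n0 = h⁻¹ * d * h := hn0U d (hD' hd)
      have hdm : h⁻¹ * d * h ∈ D1 := ⟨d, hd, by simp⟩
      have e2 : n1⁻¹ * (h⁻¹ * d * h) * n1 = (h⁻¹ * y * h)⁻¹ * (h⁻¹ * d * h) * (h⁻¹ * y * h) := by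
        rw [hn1d _ hdm, hz _ hdm]
      have e3 : n0⁻¹ * (y⁻¹ * d * y) * n0 = h⁻¹ * (y⁻¹ * d * y) * h := hn0U _ ⟨hyP d hd, hyN d hd⟩
      calc (n0 * n1 * n0⁻¹)⁻¹ * d * (n0 * n1 * n0⁻¹)
          = n0 * (n1⁻¹ * (n0⁻¹ * d * n0) * n1) * n0⁻¹ := by group
        _ = n0 * (h⁻¹ * (y⁻¹ * d * y) * h) * n0⁻¹ := by rw [e1, e2]; group
        _ = y⁻¹ * d * y := by rw [← e3]; group
    by_cases hTP : T = (P : Subgroup G)
    · rw [← hT, hTP, inf_eq_left.2 hDc.1] at hzN
      exact hfin z hzN fun _ _ => rfl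
    have hW'T : W' ≤ T := le_inf hW'P Subgroup.le_normalizer
    have hTne : T ≠ ⊥ := fun h' => hW'ne (le_bot_iff.1 (hW'T.trans h'.le))
    have hTp : IsPGroup p T := P.isPGroup'.to_le inf_le_left
    have hTne' : Dc ⊓ T ≠ ⊥ := inf_ne_bot P hDc hDcb T (le_inf inf_le_left fun x hx =>
      Subgroup.centralizer_le_normalizer _ (Subgroup.centralizer_le (SetLike.coe_subset_coe.2 hW'P) hx.2))
    set W'' := zj e (Dc ⊓ T) with hW''
    set U' := (P : Subgroup G) ⊓ Subgroup.normalizer (W'' : Set G) with hU'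
    have hTU' : T < U' := lt_of_lt_of_le (lt_inf_normalizer P inf_le_left hTP)
      (le_inf inf_le_left ((inf_normalizer_le hDc T).trans (normalizer_le_normalizer_zj e _)))
    have hUT : Nat.card U ≤ Nat.card T := by
      have hle : U.map (MulAut.conj h⁻¹).toMonoidHom ≤ T := by
        rintro _ ⟨u, hu, rfl⟩; simpa using hhU u hu
      calc Nat.card U = Nat.card (U.map (MulAut.conj h⁻¹).toMonoidHom) :=
            (Subgroup.card_map_of_injective (MulAut.conj h⁻¹).injective).symm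
        _ ≤ Nat.card T := Subgroup.card_le_of_le hle
    have hTlt : Nat.card T < Nat.card U' :=
      lt_of_not_ge fun hge => hTU'.ne (Subgroup.eq_of_le_of_card_ge hTU'.le hge)
    obtain ⟨n1, hn1, hn1d⟩ := ihk (Nat.card (P : Subgroup G) - Nat.card U')
      (by
        have h5 : Nat.card U' ≤ Nat.card (P : Subgroup G) := Subgroup.card_le_of_le inf_le_left
        omega) W'' ((zj_le e _).trans (inf_le_right.trans inf_le_left)) (zj_ne_bot he (hTp.to_le inf_le_right) hTne') rfl (lt_of_lt_of_le hlt (hUT.trans hTlt.le))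
      D1 (hD1T.trans hTU'.le) z hzN
      (fun d hd => by rw [hz d hd]; exact (hy1T d hd).1)
      (fun d hd => by
        rw [hz d hd]
        exact normalizer_le_normalizer_zj e _
          (inf_normalizer_le hDc T ⟨(hy1T d hd).1, Subgroup.le_normalizer (hy1T d hd)⟩))
    exact hfin n1 hn1 hn1d
  set E := D.map (MulAut.conj g⁻¹).toMonoidHom with hE
  have hEP : E ≤ (P : Subgroup G) := by rintro _ ⟨d, hd, rfl⟩; simpa using hg d hd
  have hEcard : Nat.card E = Nat.card D := Subgroup.card_map_of_injective (MulAut.conj g⁻¹).injective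
  obtain ⟨h, hhU, hD0P, hsyl⟩ := exists_tame_conj P hD
  set D0 := D.map (MulAut.conj h⁻¹).toMonoidHom with hD0
  set H := Subgroup.normalizer (D0 : Set G) with hH
  set T := (P : Subgroup G) ⊓ H with hT
  have hD0card : Nat.card D0 = Nat.card D := Subgroup.card_map_of_injective (MulAut.conj h⁻¹).injective
  have hUD := lt_inf_normalizer P hD hDP
  have hUDlt : Nat.card D < Nat.card ((P : Subgroup G) ⊓ Subgroup.normalizer (D : Set G) : Subgroup G) :=
    lt_of_not_ge fun hge => hUD.ne (Subgroup.eq_of_le_of_card_ge hUD.le hge)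
  obtain ⟨nD, hnD, hnDU⟩ := hbig _ inf_le_left hUDlt h fun u hu => (hhU u hu).1
  have hEne : E ≠ (P : Subgroup G) := fun h' => hDP
    (Subgroup.eq_of_le_of_card_ge hD (by rw [← hEcard, h']))
  set UE := (P : Subgroup G) ⊓ Subgroup.normalizer (E : Set G) with hUE
  have hUE' : E < UE := lt_inf_normalizer P hEP hEne
  have hUElt : Nat.card D < Nat.card UE :=
    hEcard ▸ lt_of_not_ge fun hge => hUE'.ne (Subgroup.eq_of_le_of_card_ge hUE'.le hge)
  -- conjugate `UE` into `T`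
  have hED0 : E.map (MulAut.conj (h⁻¹ * g)).toMonoidHom = D0 := by
    rw [hE, Subgroup.map_map, hD0]
    congr 1
    ext x
    simp [mul_assoc]
  have hUH : UE.map (MulAut.conj (h⁻¹ * g)).toMonoidHom ≤ H :=
    calc UE.map (MulAut.conj (h⁻¹ * g)).toMonoidHom
        ≤ (Subgroup.normalizer (E : Set G)).map (MulAut.conj (h⁻¹ * g)).toMonoidHom :=
          Subgroup.map_mono inf_le_right
      _ ≤ Subgroup.normalizer (E.map (MulAut.conj (h⁻¹ * g)).toMonoidHom : Set G) :=
          Subgroup.le_normalizer_map _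
      _ = H := by rw [hED0]
  obtain ⟨S, hS⟩ := IsPGroup.exists_le_sylow (P := (UE.map (MulAut.conj (h⁻¹ * g)).toMonoidHom).subgroupOf H)
    ((((P.isPGroup'.to_le inf_le_left).map _)).of_equiv (Subgroup.subgroupOfEquivOfLe hUH).symm)
  have hTH : IsPGroup p (T.subgroupOf H) :=
    (P.isPGroup'.to_le inf_le_left).of_equiv (Subgroup.subgroupOfEquivOfLe inf_le_right).symm
  have hsyl' : ¬ p ∣ (T.subgroupOf H).index := hsyl
  obtain ⟨w, hw⟩ := MulAction.exists_smul_eq H S (hTH.toSylow hsyl')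
  set y := ((w : G))⁻¹ with hy
  set z := g⁻¹ * h * y with hz
  have hzU : ∀ u ∈ UE, z⁻¹ * u * z ∈ T := by
    intro u hu
    have h1 : (⟨(h⁻¹ * g) * u * (h⁻¹ * g)⁻¹, hUH ⟨u, hu, rfl⟩⟩ : H) ∈ (S : Subgroup H) :=
      hS (Subgroup.mem_subgroupOf.2 ⟨u, hu, rfl⟩)
    have h2 : w * (⟨(h⁻¹ * g) * u * (h⁻¹ * g)⁻¹, hUH ⟨u, hu, rfl⟩⟩ : H) * w⁻¹ ∈
        ((hTH.toSylow hsyl' : Sylow p H) : Subgroup H) := by
      rw [← hw, Sylow.coe_subgroup_smul]
      exact ⟨_, h1, rfl⟩
    rw [IsPGroup.toSylow_coe, Subgroup.mem_subgroupOf] at h2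
    convert h2 using 1
    rw [hz, hy]
    push_cast
    group
  obtain ⟨n2, hn2, hn2U⟩ := hbig UE inf_le_left hUElt z fun u hu => (hzU u hu).1
  have hyH : y ∈ H := inv_mem w.2
  have hD0y : ∀ d ∈ D0, y⁻¹ * d * y ∈ D0 := fun d hd => by
    have := (Subgroup.mem_normalizer_iff.1 (inv_mem hyH) d).1 hd
    simpa using this
  have hD0T : D0 ≤ T := le_inf hD0P Subgroup.le_normalizer
  have hTlt : Nat.card D < Nat.card T := by
    refine lt_of_lt_of_le hUDlt ?_
    rw [← Subgroup.card_map_of_injective (f := (MulAut.conj h⁻¹).toMonoidHom) (MulAut.conj h⁻¹).injective]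
    refine Subgroup.card_le_of_le ?_
    rintro _ ⟨u, hu, rfl⟩
    simpa using hhU u hu
  obtain ⟨n3, hn3, hn3d⟩ := hPsi _ D0 hD0P (fun h' => hDb ((Subgroup.map_eq_bot_iff_of_injective _
    (MulAut.conj h⁻¹).injective).1 h')) rfl hTlt D0 hD0T y hyH
    (fun d hd => hD0P (hD0y d hd)) (fun d hd => Subgroup.le_normalizer (hD0y d hd))
  refine ⟨nD * n3 * n2⁻¹, mul_mem (mul_mem hnD hn3) (inv_mem hn2), fun d hd => ?_⟩
  have e1 := hnDU d ⟨hD hd, Subgroup.le_normalizer hd⟩
  have e2 := hn3d (h⁻¹ * d * h) ⟨d, hd, by simp⟩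
  have hgd : g⁻¹ * d * g ∈ E := ⟨d, hd, by simp⟩
  have e3 := hn2U (g⁻¹ * d * g) ⟨hEP hgd, Subgroup.le_normalizer hgd⟩
  calc (nD * n3 * n2⁻¹)⁻¹ * d * (nD * n3 * n2⁻¹)
      = n2 * (n3⁻¹ * (nD⁻¹ * d * nD) * n3) * n2⁻¹ := by group
    _ = n2 * (z⁻¹ * (g⁻¹ * d * g) * z) * n2⁻¹ := by rw [e1, e2, hz]; group
    _ = g⁻¹ * d * g := by rw [← e3]; group


/-- Lifting control from the quotient by a normal p'-subgroup. -/
theorem controls_of_pprime (P : Sylow p G) (O : Subgroup G) [O.Normal]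
    (hO : (Nat.card O).Coprime p) {X : Subgroup G} (hXP : X ≤ (P : Subgroup G))
    (hPX : (P : Subgroup G) ≤ Subgroup.normalizer (X : Set G))
    (hquot : Controls (Subgroup.normalizer (X.map (QuotientGroup.mk' O) : Set (G ⧸ O)))
      ((P : Subgroup G).map (QuotientGroup.mk' O))) :
    Controls (Subgroup.normalizer (X : Set G)) (P : Subgroup G) := by
  set f := QuotientGroup.mk' O with hf
  have hfO : ∀ x, f x = 1 ↔ x ∈ O := fun x => QuotientGroup.eq_one_iff x
  set NZ := Subgroup.normalizer (X : Set G) with hNZ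
  have hone : ∀ {x : G} {S : Subgroup G}, IsPGroup p S → x ∈ S → x ∈ O → x = 1 := by
    intro x S hS hxS hxO
    obtain ⟨j, hj⟩ := hS ⟨x, hxS⟩
    exact eq_one_of_coprime_of_pow (congrArg Subtype.val hj)
      (hO.coprime_dvd_left (Subgroup.orderOf_dvd_natCard _ hxO))
  have hN : Subgroup.normalizer (X.map f : Set (G ⧸ O)) = NZ.map f :=
    CfsgLib.PLoc.normalizer_map_eq (QuotientGroup.mk'_surjective O)
      (by rwa [QuotientGroup.ker_mk']) (P.isPGroup'.to_le hXP)
  intro D hD g hg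
  obtain ⟨nb, hnb, hnbd⟩ := hquot (D.map f) (Subgroup.map_mono hD) (f g) (by
    rintro _ ⟨d, hd, rfl⟩
    exact ⟨g⁻¹ * d * g, hg d hd, by simp⟩)
  rw [hN] at hnb
  obtain ⟨n, hn, rfl⟩ := hnb
  set x := g * n⁻¹ with hx
  set O1 := O ⊓ NZ with hO1
  set J := D ⊔ O1 with hJ
  have hPN : (P : Subgroup G) ≤ NZ := hPX
  have hcong : ∀ d ∈ D, d⁻¹ * (x⁻¹ * d * x) ∈ O1 := by
    intro d hd
    refine ⟨(hfO _).1 ?_, ?_⟩
    · have h1 := hnbd (f d) (Subgroup.mem_map_of_mem f hd)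
      simp only [hx, map_mul, map_inv, mul_inv_rev, inv_inv]
      calc (f d)⁻¹ * (f n * (f g)⁻¹ * f d * (f g * (f n)⁻¹))
          = (f d)⁻¹ * (f n * ((f g)⁻¹ * f d * f g) * (f n)⁻¹) := by group
        _ = 1 := by rw [← h1]; group
    · have h2 : x⁻¹ * d * x = n * (g⁻¹ * d * g) * n⁻¹ := by rw [hx]; group
      rw [h2]
      exact NZ.mul_mem (NZ.inv_mem (hPN (hD hd))) (NZ.mul_mem (NZ.mul_mem hn (hPN (hg d hd))) (NZ.inv_mem hn))
  have hnorm : D ≤ Subgroup.normalizer (O1 : Set G) := fun d hd =>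
    Subgroup.mem_normalizer_fintype fun o ho => ⟨‹O.Normal›.conj_mem o ho.1 d,
      NZ.mul_mem (NZ.mul_mem (hPN (hD hd)) ho.2) (NZ.inv_mem (hPN (hD hd)))⟩
  have hmemJ : ∀ {j : G}, j ∈ J → ∃ d ∈ D, ∃ o ∈ O1, j = d * o := by
    intro j hj
    rw [hJ, ← SetLike.mem_coe, Subgroup.coe_mul_of_left_le_normalizer_right D O1 hnorm] at hj
    obtain ⟨d, hd, o, ho, he⟩ := hj
    exact ⟨d, hd, o, ho, he.symm⟩
  have hDp : IsPGroup p D := P.isPGroup'.to_le hD
  let SD : Sylow p J :=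
    { toSubgroup := D.subgroupOf J
      isPGroup' := hDp.of_equiv (Subgroup.subgroupOfEquivOfLe le_sup_left).symm
      is_maximal' := by
        intro R hR hle
        refine le_antisymm (fun r hr => ?_) hle
        obtain ⟨d, hd, o, ho, he⟩ := hmemJ r.2
        have hdr : (⟨d, le_sup_left (a := D) hd⟩ : J) ∈ R := hle (Subgroup.mem_subgroupOf.2 hd)
        have hor : (⟨o, le_sup_right (a := D) ho⟩ : J) ∈ R := by
          have := R.mul_mem (R.inv_mem hdr) hr
          convert this using 1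
          apply Subtype.ext
          simp [he]
        have ho1 : o = 1 := hone (hR.map J.subtype) (Subgroup.mem_map_of_mem J.subtype hor) ho.1
        rw [Subgroup.mem_subgroupOf, he, ho1, mul_one]
        exact hd }
  set D' := D.map (MulAut.conj x⁻¹).toMonoidHom with hD'
  have hD'J : D' ≤ J := by
    rintro _ ⟨d, hd, rfl⟩
    have := mul_mem (le_sup_left (a := D) (b := O1) hd) (le_sup_right (a := D) (hcong d hd))
    simpa [mul_assoc] using this
  obtain ⟨S, hS⟩ := IsPGroup.exists_le_sylow (P := D'.subgroupOf J)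
    ((hDp.map _).of_equiv (Subgroup.subgroupOfEquivOfLe hD'J).symm)
  obtain ⟨j, hj⟩ := MulAction.exists_smul_eq J S SD
  obtain ⟨d1, hd1, o, ho, hjo⟩ := hmemJ (j⁻¹).2
  -- `x⁻¹ d x ∈ o⁻¹ D o`
  have hmem : ∀ d ∈ D, (o⁻¹ : G)⁻¹ * (x⁻¹ * d * x) * o⁻¹ ∈ D ∨ True := fun _ _ => Or.inr trivial
  have hmem' : ∀ d ∈ D, ∃ d' ∈ D, x⁻¹ * d * x = j⁻¹.1 * d' * (j⁻¹.1)⁻¹ := by
    intro d hd
    have h0 : x⁻¹ * d * x ∈ J := hD'J ⟨d, hd, by simp⟩
    have h1 : (⟨_, h0⟩ : J) ∈ (S : Subgroup J) := hS (Subgroup.mem_subgroupOf.2 ⟨d, hd, by simp⟩)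
    have h2 : j * (⟨_, h0⟩ : J) * j⁻¹ ∈ (SD : Subgroup J) := by
      rw [← hj, Sylow.coe_subgroup_smul]
      exact ⟨_, h1, rfl⟩
    refine ⟨_, Subgroup.mem_subgroupOf.1 h2, ?_⟩
    push_cast
    group
  -- replace `j⁻¹ = d1 * o` by `o' = d1 * o * d1⁻¹ ∈ O1`
  set o' := d1 * o * d1⁻¹ with ho'
  have ho'O : o' ∈ O1 := (Subgroup.mem_normalizer_iff.1 (hnorm hd1) o).1 ho
  refine ⟨o'⁻¹ * n, mul_mem (inv_mem ho'O.2) hn, fun d hd => ?_⟩
  obtain ⟨d', hd', he'⟩ := hmem' d hd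
  set d'' := d1 * d' * d1⁻¹ with hd''
  have hd''D : d'' ∈ D := mul_mem (mul_mem hd1 hd') (inv_mem hd1)
  have hxo : x⁻¹ * d * x = o' * d'' * o'⁻¹ := by rw [he', hjo, ho', hd'']; group
  have hdd : d'' = d := by
    apply mul_inv_eq_one.1
    refine hone hDp (mul_mem hd''D (inv_mem hd)) ((hfO _).1 ?_)
    have h3 : f (x⁻¹ * d * x) = f d := by
      have := (hfO _).2 (hcong d hd).1
      rwa [map_mul, map_inv, inv_mul_eq_one, eq_comm] at this
    rw [hxo, map_mul, map_mul, map_inv, (hfO _).2 ho'O.1, one_mul, inv_one, mul_one] at h3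
    rw [map_mul, map_inv, h3, mul_inv_cancel]
  rw [hdd] at hxo
  calc (o'⁻¹ * n)⁻¹ * d * (o'⁻¹ * n) = n⁻¹ * (o' * d * o'⁻¹) * n := by group
    _ = g⁻¹ * d * g := by rw [← hxo, hx]; group

/-- Lifting control from the quotient by a normal p-subgroup `Q` with `G = P C(Q)`. -/
theorem controls_of_centralizer_sup {e : ℕ} (he : e = 0 ∨ e = p) (P : Sylow p G) {Dc : Subgroup G}
    (hDc : StronglyClosedIn (P : Subgroup G) Dc) (hrec : RecRel p e (P : Subgroup G) Dc)
    {Q : Subgroup G} [Q.Normal] (hQP : Q ≤ (P : Subgroup G)) (hDcQ : ¬ Dc ≤ Q)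
    (hQmax : ∀ N : Subgroup G, N.Normal → IsPGroup p N → N ≤ Q)
    (hsup : Subgroup.centralizer (Q : Set G) ⊔ (P : Subgroup G) = ⊤)
    (hquot : Controls (Subgroup.normalizer
      (zj e (Dc.map (QuotientGroup.mk' Q)) : Set (G ⧸ Q)))
      ((P : Subgroup G).map (QuotientGroup.mk' Q))) :
    Controls (Subgroup.normalizer (zj e Dc : Set G)) (P : Subgroup G) := by
  set f := QuotientGroup.mk' Q with hf
  have hfQ : ∀ x, f x = 1 ↔ x ∈ Q := fun x => QuotientGroup.eq_one_iff x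
  have hsurj := QuotientGroup.mk'_surjective Q
  have hker : f.ker = Q := QuotientGroup.ker_mk' Q
  have hQp : IsPGroup p Q := P.isPGroup'.to_le hQP
  set Pb := (P : Subgroup G).map f with hPb
  have hPbp : IsPGroup p Pb := P.isPGroup'.map f
  set Db := Dc.map f with hDb
  have hDbp : IsPGroup p Db := (P.isPGroup'.to_le hDc.1).map f
  set X := (zj e Db).comap f with hXdef
  set NX := Subgroup.normalizer (X : Set G) with hNX
  have hNXeq : NX = (Subgroup.normalizer (zj e Db : Set (G ⧸ Q))).comap f := by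
    rw [hNX, hXdef, Subgroup.comap_normalizer_eq_of_surjective _ hsurj]
  have hPNX : (P : Subgroup G) ≤ NX := fun x hx => by
    rw [hNXeq]
    exact normalizer_le_normalizer_zj e _
      (Subgroup.le_normalizer_map f (Subgroup.mem_map_of_mem f (normalizer_le hDc (Subgroup.le_normalizer hx))))
  have hDbne : Db ≠ ⊥ := fun h => hDcQ (by
    rw [hDb, Subgroup.map_eq_bot_iff, hker] at h; exact h)
  have hNXtop : NX ≠ ⊤ := fun h => by
    have hXp : IsPGroup p X := (hDbp.to_le (zj_le e _)).comap_of_ker_isPGroup f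
      (by rw [hker]; exact hQp)
    have hXQ : X ≤ Q := hQmax X (Subgroup.normalizer_eq_top_iff.1 h) hXp
    apply zj_ne_bot he hDbp hDbne
    rw [← Subgroup.map_comap_eq_self_of_surjective hsurj (zj e Db), ← hXdef, eq_bot_iff]
    exact (Subgroup.map_mono hXQ).trans ((Subgroup.map_eq_bot_iff Q).2 hker.ge).le
  suffices hX : ∀ D : Subgroup G, Q ≤ D → D ≤ (P : Subgroup G) → ∀ g : G,
      (∀ d ∈ D, g⁻¹ * d * g ∈ (P : Subgroup G)) →
      ∃ n ∈ NX, ∀ d ∈ D, n⁻¹ * d * n = g⁻¹ * d * g by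
    intro D hD g hg
    have hDQ : D ⊔ Q ≤ ((P : Subgroup G)).comap (MulAut.conj g⁻¹).toMonoidHom := by
      refine sup_le (fun d hd => by
        show (MulAut.conj g⁻¹) d ∈ (P : Subgroup G)
        rw [MulAut.conj_apply, inv_inv]
        exact hg d hd) fun q hq => ?_
      simpa using hQP (‹Q.Normal›.conj_mem q hq g⁻¹)
    obtain ⟨n, hn, hnd⟩ := hX (D ⊔ Q) le_sup_right (sup_le hD hQP) g
      fun d hd => by simpa using hDQ hd
    obtain ⟨m, hm, hmd⟩ := rec_sylow P hDc hrec hPNX hNXtop hD hn fun d hd => by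
      rw [hnd d (le_sup_left (a := D) hd)]; exact hg d hd
    exact ⟨m, hm, fun d hd => by rw [hmd d hd, hnd d (le_sup_left (a := D) hd)]⟩
  intro D
  induction hk : Nat.card (P : Subgroup G) - Nat.card D using Nat.strong_induction_on generalizing D with
  | _ k ih =>
  intro hQD hD g hg
  rcases eq_or_ne D (P : Subgroup G) with rfl | hDP
  · refine ⟨g, ?_, fun _ _ => rfl⟩
    rw [hNXeq]
    apply normalizer_le_normalizer_zj e _
    apply Subgroup.le_normalizer_map f
    refine Subgroup.mem_map_of_mem f (normalizer_le hDc ?_)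
    have : g⁻¹ ∈ Subgroup.normalizer ((P : Subgroup G) : Set G) :=
      Subgroup.mem_normalizer_fintype fun d hd => by rw [inv_inv]; exact hg d hd
    simpa using inv_mem this
  obtain ⟨nb, hnb, hnbd⟩ := hquot (D.map f) (Subgroup.map_mono hD) (f g) (by
    rintro _ ⟨d, hd, rfl⟩
    exact ⟨g⁻¹ * d * g, hg d hd, by simp⟩)
  obtain ⟨n, rfl⟩ := hsurj nb
  have hnX : n ∈ NX := by rw [hNXeq]; exact hnb
  have hcong : ∀ d ∈ D, (g⁻¹ * d * g)⁻¹ * (n⁻¹ * d * n) ∈ Q := fun d hd => by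
    rw [← hfQ]
    simp only [map_mul, map_inv]
    rw [hnbd (f d) (Subgroup.mem_map_of_mem f hd), inv_mul_cancel]
  set x := g * n⁻¹ with hx
  set Dg := D.map (MulAut.conj g⁻¹).toMonoidHom with hDg
  have hQDg : Q ≤ Dg := fun q hq =>
    ⟨g * q * g⁻¹, hQD (‹Q.Normal›.conj_mem q hq g), by simp [mul_assoc]⟩
  have hDnDg : D.map (MulAut.conj n⁻¹).toMonoidHom = Dg := by
    refine Subgroup.eq_of_le_of_card_ge ?_ ?_
    · rintro _ ⟨d, hd, rfl⟩
      have := mul_mem (show g⁻¹ * d * g ∈ Dg from ⟨d, hd, by simp⟩) (hQDg (hcong d hd))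
      simpa [mul_assoc] using this
    · rw [hDg, Subgroup.card_map_of_injective (MulAut.conj g⁻¹).injective,
        Subgroup.card_map_of_injective (MulAut.conj n⁻¹).injective]
  have hxD : ∀ d ∈ D, x⁻¹ * d * x ∈ D := by
    intro d hd
    obtain ⟨d', hd', he'⟩ : g⁻¹ * d * g ∈ D.map (MulAut.conj n⁻¹).toMonoidHom := by
      rw [hDnDg]; exact ⟨d, hd, by simp⟩
    simp only [MulEquiv.coe_toMonoidHom, MulAut.conj_apply, inv_inv] at he'
    have : x⁻¹ * d * x = d' := by
      calc x⁻¹ * d * x = n * (g⁻¹ * d * g) * n⁻¹ := by rw [hx]; group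
        _ = d' := by rw [← he']; group
    rwa [this]
  have hxQ : ∀ d ∈ D, x⁻¹ * d * x * d⁻¹ ∈ Q := by
    intro d hd
    rw [← hfQ]
    simp only [hx, map_mul, map_inv, mul_inv_rev, inv_inv]
    calc f n * (f g)⁻¹ * f d * (f g * (f n)⁻¹) * (f d)⁻¹
        = f n * ((f g)⁻¹ * f d * f g) * (f n)⁻¹ * (f d)⁻¹ := by group
      _ = f n * ((f n)⁻¹ * f d * f n) * (f n)⁻¹ * (f d)⁻¹ :=
          congrArg (fun t => f n * t * (f n)⁻¹ * (f d)⁻¹) (hnbd (f d) (Subgroup.mem_map_of_mem f hd)).symm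
      _ = 1 := by group
  set U := (P : Subgroup G) ⊓ Subgroup.normalizer (D : Set G) with hU
  have hDU : D < U := lt_inf_normalizer P hD hDP
  obtain ⟨h, hhU, hD0P, hsyl⟩ := exists_tame_conj P hD
  obtain ⟨n0, hn0, hn0U⟩ := ih (Nat.card (P : Subgroup G) - Nat.card U)
    (by
      have h1 : Nat.card U ≤ Nat.card (P : Subgroup G) := Subgroup.card_le_of_le inf_le_left
      have h2 : Nat.card D < Nat.card U :=
        lt_of_not_ge fun hge => hDU.ne (Subgroup.eq_of_le_of_card_ge hDU.le hge)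
      omega) U rfl (hQD.trans hDU.le) inf_le_left h fun u hu => (hhU u hu).1
  set D0 := D.map (MulAut.conj h⁻¹).toMonoidHom with hD0
  set H := Subgroup.normalizer (D0 : Set G) with hH
  set T := (P : Subgroup G) ⊓ H with hT
  have hD0n : (D0.subgroupOf H).Normal :=
    (Subgroup.normal_subgroupOf_iff_le_normalizer Subgroup.le_normalizer).2 le_rfl
  have hQH : Q ≤ H := fun q hq => Subgroup.le_normalizer
    (show q ∈ D0 from ⟨h * q * h⁻¹, hQD (‹Q.Normal›.conj_mem q hq h), by simp [mul_assoc]⟩)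
  set M0 := trivOn (D0.subgroupOf H) (Q.subgroupOf H) with hM0
  set C0 := Subgroup.centralizer ((D0.subgroupOf H : Subgroup H) : Set H) with hC0
  have hM0p : ∀ m ∈ M0, ∃ i : ℕ, m ^ p ^ i ∈ C0 := by
    intro m hm
    obtain ⟨i, hi⟩ := pow_mem_centralizer_of_sup P Q hsup (m : G)
    obtain ⟨c, hc⟩ := IsPGroup.iff_card.1 hQp
    refine ⟨i + c, Subgroup.mem_centralizer_iff.2 fun d hd => ?_⟩
    have hd' : ⁅m ^ p ^ i, d⁆ ∈ Q.subgroupOf H := (M0.pow_mem hm _) d hd
    have hcm : Commute ⁅m ^ p ^ i, d⁆ (m ^ p ^ i) :=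
      Subtype.ext (Subgroup.mem_centralizer_iff.1 hi _ (Subgroup.mem_subgroupOf.1 hd'))
    have h1 : ⁅m ^ p ^ i, d⁆ ^ p ^ c = 1 := by
      rw [← hc]
      have h9 := pow_card_eq_one' (G := Q) (x := ⟨_, Subgroup.mem_subgroupOf.1 hd'⟩)
      exact Subtype.ext (by simpa only [SubmonoidClass.coe_pow, OneMemClass.coe_one] using congrArg Subtype.val h9)
    rw [pow_add, pow_mul, pow_mul_of_commutator_commute rfl hcm, h1, one_mul]
  have hTH : IsPGroup p (T.subgroupOf H) :=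
    (P.isPGroup'.to_le inf_le_left).of_equiv (Subgroup.subgroupOfEquivOfLe inf_le_right).symm
  have hsyl' : ¬ p ∣ (T.subgroupOf H).index := hsyl
  have hx' : h⁻¹ * x * h ∈ H := by
    have hxN : x ∈ Subgroup.normalizer (D : Set G) := by
      have : x⁻¹ ∈ Subgroup.normalizer (D : Set G) :=
        Subgroup.mem_normalizer_fintype fun d hd => by simpa using hxD d hd
      simpa using inv_mem this
    have hmem : (MulAut.conj h⁻¹) x ∈
        (Subgroup.normalizer (D : Set G)).map (MulAut.conj h⁻¹).toMonoidHom := ⟨x, hxN, rfl⟩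
    have h9 : (MulAut.conj h⁻¹) x ∈ H := Subgroup.le_normalizer_map _ hmem
    rwa [MulAut.conj_apply, inv_inv] at h9
  have hxM : (⟨h⁻¹ * x * h, hx'⟩ : H)⁻¹ ∈ M0 := by
    intro d hd
    obtain ⟨d', hd', he'⟩ := Subgroup.mem_subgroupOf.1 hd
    rw [Subgroup.mem_subgroupOf]
    simp only [MulEquiv.coe_toMonoidHom, MulAut.conj_apply, inv_inv] at he'
    have h1 := ‹Q.Normal›.conj_mem _ (hxQ d' hd') h⁻¹
    convert h1 using 1
    push_cast [commutatorElement_def]
    rw [← he']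
    group
  have hM0n : M0.Normal := trivOn_normal _ _
  obtain ⟨c, hc, s, hs, hcs⟩ := Subgroup.mem_sup_of_normal_left.1
    (le_sup_sylow_inf (hTH.toSylow hsyl') M0 C0 hM0p (by simpa using M0.inv_mem hxM) :
      (⟨h⁻¹ * x * h, hx'⟩ : H) ∈ C0 ⊔ _)
  have hsT : (s : G) ∈ T := by
    have h9 : s ∈ T.subgroupOf H := hs.1
    exact Subgroup.mem_subgroupOf.1 h9
  have hcs' : (c : G) * (s : G) = h⁻¹ * x * h := congrArg Subtype.val hcs
  refine ⟨n0 * (s : G) * n0⁻¹ * n,
    mul_mem (mul_mem (mul_mem hn0 (hPNX hsT.1)) (inv_mem hn0)) hnX, fun d hd => ?_⟩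
  have e1 := hn0U d (hDU.le hd)
  have hd0 : h⁻¹ * d * h ∈ D0 := ⟨d, hd, by simp⟩
  have hcd : h⁻¹ * d * h * (c : G) = (c : G) * (h⁻¹ * d * h) := congrArg Subtype.val
    (Subgroup.mem_centralizer_iff.1 hc ⟨_, Subgroup.le_normalizer hd0⟩ (Subgroup.mem_subgroupOf.2 hd0))
  have e2 : (s : G)⁻¹ * (h⁻¹ * d * h) * (s : G) = h⁻¹ * (x⁻¹ * d * x) * h :=
    calc (s : G)⁻¹ * (h⁻¹ * d * h) * (s : G)
        = (s : G)⁻¹ * (c : G)⁻¹ * ((c : G) * (h⁻¹ * d * h)) * (s : G) := by group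
      _ = ((c : G) * (s : G))⁻¹ * (h⁻¹ * d * h) * ((c : G) * (s : G)) := by rw [← hcd]; group
      _ = h⁻¹ * (x⁻¹ * d * x) * h := by rw [hcs']; group
  have e3 := hn0U _ (hDU.le (hxD d hd))
  calc (n0 * (s : G) * n0⁻¹ * n)⁻¹ * d * (n0 * (s : G) * n0⁻¹ * n)
      = n⁻¹ * (n0 * ((s : G)⁻¹ * (n0⁻¹ * d * n0) * (s : G)) * n0⁻¹) * n := by group
    _ = n⁻¹ * (n0 * (n0⁻¹ * (x⁻¹ * d * x) * n0) * n0⁻¹) * n := by rw [e1, e2, e3]
    _ = g⁻¹ * d * g := by rw [hx]; group


/-- Fusion through `C(Q)` and the normalizer of the Sylow subgroup of `Q C(Q)`. -/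
theorem controls_of_decomposition {e : ℕ} (P : Sylow p G) {Dc : Subgroup G}
    (hDc : StronglyClosedIn (P : Subgroup G) Dc) (hrec : RecRel p e (P : Subgroup G) Dc) {Q : Subgroup G}
    [Q.Normal] (hQP : Q ≤ (P : Subgroup G))
    (hM : Subgroup.centralizer (Q : Set G) ⊔ (P : Subgroup G) ≠ ⊤)
    (hT : Subgroup.normalizer
      (((P : Subgroup G) ⊓ (Q ⊔ Subgroup.centralizer (Q : Set G)) : Subgroup G) : Set G) ≠ ⊤) :
    Controls (Subgroup.normalizer (zj e Dc : Set G)) (P : Subgroup G) := by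
  set C := Subgroup.centralizer (Q : Set G) with hC
  set L := Q ⊔ C with hL
  set T := (P : Subgroup G) ⊓ L with hTdef
  set M := C ⊔ (P : Subgroup G) with hMdef
  set NT := Subgroup.normalizer (T : Set G) with hNT
  have hPNT : (P : Subgroup G) ≤ NT := fun u hu => Subgroup.mem_normalizer_fintype fun t ht =>
    ⟨(P : Subgroup G).mul_mem ((P : Subgroup G).mul_mem hu ht.1) ((P : Subgroup G).inv_mem hu), (inferInstance : L.Normal).conj_mem t ht.2 u⟩
  have hTL : IsPGroup p (T.subgroupOf L) :=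
    (P.isPGroup'.to_le inf_le_left).of_equiv (Subgroup.subgroupOfEquivOfLe inf_le_right).symm
  have hTidx : ¬ p ∣ (T.subgroupOf L).index := fun hd => by
    rw [hTdef, Subgroup.inf_subgroupOf_right] at hd
    exact P.not_dvd_index (hd.trans (CfsgLib.PGroup.relIndex_dvd_index_normal_right (P : Subgroup G) L))
  have hfrat : NT ⊔ L = ⊤ := by
    have := Sylow.normalizer_sup_eq_top (hTL.toSylow hTidx)
    rwa [show ((hTL.toSylow hTidx : Sylow p L) : Subgroup L).map L.subtype = T from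
      Subgroup.map_subgroupOf_eq_of_le inf_le_right] at this
  have hgen : C ⊔ NT = ⊤ := by
    rw [eq_top_iff, ← hfrat]
    exact sup_le le_sup_right (sup_le ((hQP.trans hPNT).trans le_sup_right) le_sup_left)
  intro D hD g hg
  obtain ⟨c, hc, y, hy, hgy⟩ := Subgroup.mem_sup_of_normal_left.1
    (hgen ▸ Subgroup.mem_top g : g ∈ C ⊔ NT)
  set R := M ⊓ (P : Subgroup G).map (MulAut.conj y).toMonoidHom with hR
  have hRp : IsPGroup p R := (P.isPGroup'.map _).to_le inf_le_right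
  have hPM : (P : Subgroup G) ≤ M := le_sup_right
  obtain ⟨S, hS⟩ := IsPGroup.exists_le_sylow (P := R.subgroupOf M)
    (hRp.of_equiv (Subgroup.subgroupOfEquivOfLe inf_le_left).symm)
  obtain ⟨j, hj⟩ := MulAction.exists_smul_eq M S (P.subtype hPM)
  obtain ⟨m, hm, u, hu, hmu⟩ := Subgroup.mem_sup_of_normal_left.1 (j⁻¹).2
  have hRm : ∀ r ∈ R, m⁻¹ * r * m ∈ (P : Subgroup G) := by
    intro r hr
    have h1 : (⟨r, hr.1⟩ : M) ∈ (S : Subgroup M) := hS (Subgroup.mem_subgroupOf.2 hr)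
    have h2 : j * ⟨r, hr.1⟩ * j⁻¹ ∈ (P.subtype hPM : Subgroup M) := by
      rw [← hj, Sylow.coe_subgroup_smul]
      exact ⟨_, h1, rfl⟩
    rw [Sylow.coe_subtype, Subgroup.mem_subgroupOf] at h2
    push_cast at h2
    have hj' : (j : G) = u⁻¹ * m⁻¹ := by
      have : ((j⁻¹ : M) : G) = m * u := hmu.symm
      push_cast at this
      rw [← inv_inv (j : G), this, mul_inv_rev]
    rw [hj'] at h2
    have h3 := (P : Subgroup G).mul_mem ((P : Subgroup G).mul_mem hu h2) ((P : Subgroup G).inv_mem hu)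
    convert h3 using 1
    group
  have hTR : T ≤ R := fun t ht => ⟨hPM ht.1, y⁻¹ * t * y, by
    have := (Subgroup.mem_normalizer_iff.1 (inv_mem hy) t).1 ht
    rw [inv_inv] at this
    exact this.1, by simp [mul_assoc]⟩
  have hmT : m ∈ NT := by
    have : m⁻¹ ∈ NT := Subgroup.mem_normalizer_fintype fun t ht => by
      rw [inv_inv]
      refine ⟨hRm t (hTR ht), ?_⟩
      simpa using (inferInstance : L.Normal).conj_mem t ht.2 m⁻¹
    simpa using inv_mem this
  have hcD : ∀ d ∈ D, c⁻¹ * d * c ∈ R := by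
    intro d hd
    refine ⟨mul_mem (mul_mem (le_sup_left (a := C) (inv_mem hc)) (hPM (hD hd)))
      (le_sup_left (a := C) hc), g⁻¹ * d * g, hg d hd, ?_⟩
    rw [← hgy]
    simp only [MulEquiv.coe_toMonoidHom, MulAut.conj_apply]
    group
  have hB : ∀ d ∈ D, (c * m)⁻¹ * d * (c * m) ∈ (P : Subgroup G) := fun d hd => by
    convert hRm _ (hcD d hd) using 1
    group
  obtain ⟨n1, hn1, hn1d⟩ := rec_sylow P hDc hrec hPM hM hD
    (mul_mem (le_sup_left (a := C) hc) (le_sup_left (a := C) hm)) hB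
  obtain ⟨n2, hn2, hn2d⟩ := rec_sylow P hDc hrec hPNT hT
    (D := D.map (MulAut.conj (c * m)⁻¹).toMonoidHom)
    (by rintro _ ⟨d, hd, rfl⟩; simpa [mul_assoc] using hB d hd)
    (mul_mem (inv_mem hmT) hy) (by
      rintro _ ⟨d, hd, rfl⟩
      convert hg d hd using 1
      rw [← hgy]
      simp only [MulEquiv.coe_toMonoidHom, MulAut.conj_apply]
      group)
  refine ⟨n1 * n2, mul_mem hn1 hn2, fun d hd => ?_⟩
  calc (n1 * n2)⁻¹ * d * (n1 * n2) = n2⁻¹ * (n1⁻¹ * d * n1) * n2 := by group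
    _ = (m⁻¹ * y)⁻¹ * ((c * m)⁻¹ * d * (c * m)) * (m⁻¹ * y) := by
        rw [hn1d d hd, hn2d _ ⟨d, hd, by simp [mul_assoc]⟩]
    _ = g⁻¹ * d * g := by rw [← hgy]; group


/-- Strong closure passes to the quotient by a normal p'-subgroup. -/
theorem stronglyClosedIn_quotient (P : Sylow p G) {D : Subgroup G}
    (hD : StronglyClosedIn (P : Subgroup G) D) (N : Subgroup G) [N.Normal]
    (hco : (Nat.card N).Coprime p) :
    StronglyClosedIn ((P : Subgroup G).map (QuotientGroup.mk' N)) (D.map (QuotientGroup.mk' N)) := by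
  refine stronglyClosedIn_map _ (QuotientGroup.mk'_surjective N) hD fun d hd g hg => ?_
  -- `g d g⁻¹` lies in `P N`, whose Sylow subgroup is `P`
  set J := ((P : Subgroup G).map (QuotientGroup.mk' N)).comap (QuotientGroup.mk' N) with hJ
  have hPJ : (P : Subgroup G) ≤ J := Subgroup.le_comap_map _ _
  have hJsup : J = (P : Subgroup G) ⊔ N := by
    rw [hJ, Subgroup.comap_map_eq, QuotientGroup.ker_mk']
  have hcyc : IsPGroup p (Subgroup.zpowers (g * d * g⁻¹)) := by
    refine ((P.isPGroup'.to_le hD.1).map (MulAut.conj g).toMonoidHom).to_le ?_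
    rw [Subgroup.zpowers_le]
    exact ⟨d, hd, rfl⟩
  have hgJ : g * d * g⁻¹ ∈ J := hg
  obtain ⟨S, hS⟩ := IsPGroup.exists_le_sylow (P := (Subgroup.zpowers (g * d * g⁻¹)).subgroupOf J)
    (hcyc.of_equiv (Subgroup.subgroupOfEquivOfLe (Subgroup.zpowers_le.2 hgJ)).symm)
  obtain ⟨j, hj⟩ := MulAction.exists_smul_eq J S (P.subtype hPJ)
  obtain ⟨n₁, hn₁, u, hu, hju⟩ := Subgroup.mem_sup_of_normal_right.1 (hJsup.le j.2)
  have h1 : (⟨g * d * g⁻¹, hgJ⟩ : J) ∈ (S : Subgroup J) :=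
    hS (Subgroup.mem_subgroupOf.2 (Subgroup.mem_zpowers _))
  have h2 : j * ⟨g * d * g⁻¹, hgJ⟩ * j⁻¹ ∈ (P.subtype hPJ : Subgroup J) := by
    rw [← hj, Sylow.coe_subgroup_smul]
    exact ⟨_, h1, rfl⟩
  rw [Sylow.coe_subtype, Subgroup.mem_subgroupOf] at h2
  push_cast at h2
  rw [← hju] at h2
  have h3 := (P : Subgroup G).mul_mem ((P : Subgroup G).mul_mem
    ((P : Subgroup G).inv_mem hn₁) h2) hn₁
  refine ⟨u * g, by convert h3 using 1; group, ?_⟩
  have hu1 : QuotientGroup.mk' N u = 1 := (QuotientGroup.eq_one_iff u).2 hu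
  simp only [map_mul, map_inv, mul_inv_rev, hu1, one_mul, inv_one, mul_one]

theorem zj_map_quotient {e : ℕ} (P : Sylow p G) {D : Subgroup G} (hD : D ≤ (P : Subgroup G))
    (N : Subgroup G) [N.Normal] (hco : (Nat.card N).Coprime p) :
    (zj e D).map (QuotientGroup.mk' N) = zj e (D.map (QuotientGroup.mk' N)) := by
  refine zj_map_of_injOn e D ?_
  rw [injective_iff_map_eq_one]
  intro x hx
  rw [MonoidHom.comp_apply, QuotientGroup.mk'_apply, QuotientGroup.eq_one_iff] at hx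
  obtain ⟨j, hj⟩ := P.isPGroup'.to_le hD x
  exact eq_one_of_coprime_of_pow hj (hco.coprime_dvd_left
    (by rw [← Subgroup.orderOf_coe]; exact Subgroup.orderOf_dvd_natCard _ hx))

/-- `C(Q) ≤ Q` when `C(Q)` meets `P` inside `Q = O_p(G)` and `O_{p'}(G) = 1`. -/
theorem centralizer_le_of_inf_le (P : Sylow p G) {Q : Subgroup G} [Q.Normal]
    (hQmax : ∀ N : Subgroup G, N.Normal → IsPGroup p N → N ≤ Q)
    (hpc : ∀ N : Subgroup G, N.Normal → (Nat.card N).Coprime p → N = ⊥)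
    (hPC : (P : Subgroup G) ⊓ Subgroup.centralizer (Q : Set G) ≤ Q) :
    Subgroup.centralizer (Q : Set G) ≤ Q := by
  set M := Subgroup.centralizer (Q : Set G) with hM
  have hMn : M.Normal := inferInstance
  obtain ⟨N, hN⟩ := hasNormalPComplement_iff.1 (frobenius_criterion (G := M) (p := p)
    (fun R hR g _ _ => Subgroup.mem_centralizer_iff.2 fun r hr => Subtype.ext (by
      obtain ⟨T, hT⟩ := (hR.map M.subtype).exists_le_sylow
      obtain ⟨w, hw⟩ := MulAction.exists_smul_eq G T P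
      have h1 : w * (r : G) * w⁻¹ ∈ (P : Subgroup G) := by
        rw [← hw, Sylow.coe_subgroup_smul]
        exact ⟨_, hT ⟨r, hr, rfl⟩, rfl⟩
      have h2 : w * (r : G) * w⁻¹ ∈ Q := hPC ⟨h1, hMn.conj_mem _ r.2 w⟩
      have hrQ : (r : G) ∈ Q := by
        simpa [mul_assoc] using ‹Q.Normal›.conj_mem _ h2 w⁻¹
      exact Subgroup.mem_centralizer_iff.1 g.2 r hrQ)))
  have hNn : (N.map M.subtype).Normal := by
    refine ⟨?_⟩
    rintro _ ⟨x, hx, rfl⟩ g
    refine ⟨⟨g * (x : G) * g⁻¹, hMn.conj_mem x x.2 g⟩, (mem_iff_coprime hN).2 ?_, rfl⟩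
    rw [← Subgroup.orderOf_coe]
    change Nat.Coprime (orderOf (g * (x : G) * g⁻¹)) p
    rw [show g * (x : G) * g⁻¹ = MulAut.conj g (x : G) from (MulAut.conj_apply g _).symm,
      MulEquiv.orderOf_eq, Subgroup.orderOf_coe]
    exact (mem_iff_coprime hN).1 hx
  have hN1 : N = ⊥ := (Subgroup.map_eq_bot_iff_of_injective _ M.subtype_injective).1
    (hpc _ hNn (by rw [Subgroup.card_map_of_injective M.subtype_injective]; exact hN.2.1))
  obtain ⟨i, hi⟩ := hN.2.2
  rw [hN1, Subgroup.index_bot] at hi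
  exact hQmax M hMn (IsPGroup.of_card hi)

omit [Finite G] hp in
/-- Control of fusion relative to a strongly closed subgroup, in a class of `p`-stable groups
closed under subgroups and quotients. -/
theorem controls_aux (p : ℕ) [hp : Fact p.Prime] (hp2 : p ≠ 2) {e : ℕ} (he : e = 0 ∨ e = p)
    {C : ∀ (X : Type u) [Group X], Prop}
    (hsub : ∀ (X : Type u) [Group X] [Finite X] (Y : Subgroup X), C X → C Y)
    (hqt : ∀ (X : Type u) [Group X] [Finite X] (N : Subgroup X) [N.Normal], C X → C (X ⧸ N))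
    (hst : ∀ (X : Type u) [Group X] [Finite X], C X → ZJClosed.NStable p X) :
    ∀ (n : ℕ) (G : Type u) [Group G] [Finite G], Nat.card G = n → C G →
      ∀ (P : Sylow p G) (Dc : Subgroup G), StronglyClosedIn (P : Subgroup G) Dc →
      Controls (Subgroup.normalizer (zj e Dc : Set G)) (P : Subgroup G) := by
  intro n
  induction n using Nat.strong_induction_on with
  | _ n ih =>
  intro G _ _ hn hG P Dc hDc
  have hrec : RecRel p e (P : Subgroup G) Dc := by
    intro L hL T hTL hTP hTidx A hAT g hg hAg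
    have hlt : Nat.card L < n := by
      rw [← hn]
      by_contra hge
      exact hL (Subgroup.eq_top_of_le_card L (not_lt.1 hge))
    have hTp' : IsPGroup p (T.subgroupOf L) :=
      (P.isPGroup'.to_le hTP).of_equiv (Subgroup.subgroupOfEquivOfLe hTL).symm
    have hTidx' : ¬ p ∣ (T.subgroupOf L).index := hTidx
    obtain ⟨m, hm, hmd⟩ := ih _ hlt L rfl (hsub G L hG) (hTp'.toSylow hTidx')
      ((Dc ⊓ T).subgroupOf L)
      (by rw [IsPGroup.toSylow_coe]; exact stronglyClosedIn_subgroupOf L hTL hTP hDc)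
      (A.subgroupOf L) (by rw [IsPGroup.toSylow_coe]; exact Subgroup.comap_mono hAT) ⟨g, hg⟩
      (fun d hd => by
        rw [IsPGroup.toSylow_coe, Subgroup.mem_subgroupOf]
        exact hAg d (Subgroup.mem_subgroupOf.1 hd))
    refine ⟨m, m.2, ?_, fun d hd => congrArg Subtype.val
      (hmd ⟨d, hTL (hAT hd)⟩ (Subgroup.mem_subgroupOf.2 hd))⟩
    have := Subgroup.le_normalizer_map L.subtype (Subgroup.mem_map_of_mem L.subtype hm)
    rwa [zj_map L.subtype_injective, Subgroup.map_subgroupOf_eq_of_le (inf_le_right.trans hTL)] at this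
  have hquot : ∀ N : Subgroup G, ∀ hN : N.Normal, N ≠ ⊥ →
      StronglyClosedIn ((P : Subgroup G).map (QuotientGroup.mk' N)) (Dc.map (QuotientGroup.mk' N)) →
      Controls (Subgroup.normalizer (zj e (Dc.map (QuotientGroup.mk' N)) : Set (G ⧸ N)))
      ((P : Subgroup G).map (QuotientGroup.mk' N)) := by
    intro N hN hne hsc
    have hlt : Nat.card (G ⧸ N) < n := by
      rw [← hn, ← Subgroup.card_mul_index N, ← Subgroup.index_eq_card]
      exact lt_mul_left (Nat.pos_of_ne_zero Subgroup.index_ne_zero_of_finite)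
        (Subgroup.one_lt_card_iff_ne_bot N |>.2 hne)
    have := ih _ hlt (G ⧸ N) rfl (hqt G N hG) (P.mapSurjective (QuotientGroup.mk'_surjective N))
      (Dc.map (QuotientGroup.mk' N)) (by rw [Sylow.coe_mapSurjective]; exact hsc)
    rwa [Sylow.coe_mapSurjective] at this
  by_cases hpc : ∀ N : Subgroup G, N.Normal → (Nat.card N).Coprime p → N = ⊥
  swap
  · push Not at hpc
    obtain ⟨N, hN, hco, hne⟩ := hpc
    refine controls_of_pprime P N hco ((zj_le e Dc).trans hDc.1)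
      ((Subgroup.le_normalizer.trans (normalizer_le hDc)).trans (normalizer_le_normalizer_zj e _)) ?_
    rw [zj_map_quotient P hDc.1 N hco]
    exact hquot N hN hne (stronglyClosedIn_quotient P hDc N hco)
  set Q := (P : Subgroup G).normalCore with hQdef
  have hQP : Q ≤ (P : Subgroup G) := Subgroup.normalCore_le _
  haveI : Q.Normal := Subgroup.normalCore_normal _
  have hQmax : ∀ N : Subgroup G, N.Normal → IsPGroup p N → N ≤ Q := fun N hNn hNp =>
    Subgroup.normal_le_normalCore.2 (hNp.le_sylow_of_normal P)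
  by_cases hQ : Q = ⊥
  · exact controls_of_core_eq_bot he P hDc (hrec.locHyp fun W hWn hWP =>
      le_bot_iff.1 ((hQmax W hWn (P.isPGroup'.to_le hWP)).trans hQ.le))
  by_cases hDcQ : Dc ≤ Q
  · refine controls_top _ (eq_top_iff.2 ?_)
    have hn : Dc.Normal := ⟨fun d hd g =>
      hDc.2 d hd g (hQP (‹Q.Normal›.conj_mem d (hDcQ hd) g))⟩
    rw [← Subgroup.normalizer_eq_top_iff.2 hn]
    exact normalizer_le_normalizer_zj e _
  by_cases hsup : Subgroup.centralizer (Q : Set G) ⊔ (P : Subgroup G) = ⊤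
  · refine controls_of_centralizer_sup he P hDc hrec hQP hDcQ hQmax hsup
      (hquot Q inferInstance hQ (stronglyClosedIn_map _ (QuotientGroup.mk'_surjective Q) hDc
        fun d _ g hg => ⟨g, ?_, rfl⟩))
    have h1 : g * d * g⁻¹ ∈
        ((P : Subgroup G).map (QuotientGroup.mk' Q)).comap (QuotientGroup.mk' Q) := hg
    rwa [Subgroup.comap_map_eq, QuotientGroup.ker_mk', sup_eq_left.2 hQP] at h1
  by_cases hT : Subgroup.normalizer
      (((P : Subgroup G) ⊓ (Q ⊔ Subgroup.centralizer (Q : Set G)) : Subgroup G) : Set G) = ⊤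
  · apply controls_top
    rw [Subgroup.normalizer_eq_top_iff]
    have hPC := le_trans (inf_le_inf_left _ le_sup_right) (hQmax _ (Subgroup.normalizer_eq_top_iff.1 hT)
      (P.isPGroup'.to_le inf_le_left))
    have hcore : Cfsg.pCore p G = Q := le_antisymm
      (hQmax _ (CfsgLib.Solvable.pCore_normal p G) (CfsgLib.PLoc.pCore_pgroup p G))
      (CfsgLib.PLoc.le_pCore_of inferInstance (P.isPGroup'.to_le hQP))
    refine ZJClosed.zj_normal hp2 ?_ (hst G hG) he P hDc
    rw [hcore]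
    exact centralizer_le_of_inf_le P hQmax hpc hPC
  exact controls_of_decomposition P hDc hrec hQP hsup hT

omit hp in
/-- The frozen form of control of strong fusion. -/
theorem controlsStrong {N P : Subgroup G} (h : Controls N P) {A : Set G} (hA : A ⊆ (P : Set G)) :
    Cfsg.ControlsStrongFusionOf N P A := by
  refine ⟨hA, fun g hg => ?_⟩
  obtain ⟨n, hn, hnd⟩ := CfsgLib.ZJFusion.controls_sets h hA (g := g⁻¹) (by simpa using hg)
  exact ⟨n⁻¹, inv_mem hn, fun a ha => by simpa using (hnd a ha).symm⟩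

omit [Finite G] hp in
theorem controls_mono {N N' P : Subgroup G} (h : Controls N P) (hle : N ≤ N') : Controls N' P :=
  fun D hD g hg => let ⟨n, hn, hd⟩ := h D hD g hg; ⟨n, hle hn, hd⟩

/-- Control of fusion when all local subgroups are `p`-constrained. -/
theorem controls_of_constrained (hp2 : p ≠ 2) {e : ℕ} (he : e = 0 ∨ e = p)
    (hst : ZJClosed.NStable p G) (P : Sylow p G) {Dc : Subgroup G}
    (hDc : StronglyClosedIn (P : Subgroup G) Dc)
    (hc : ∀ U : Subgroup G, U ≤ (P : Subgroup G) → U ≠ ⊥ →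
      Cfsg.IsPConstrained p ↥(Subgroup.normalizer (U : Set G))) :
    Controls (Subgroup.normalizer (zj e Dc : Set G)) (P : Subgroup G) := by
  refine controls_of_core_eq_bot he P hDc fun W hWP hW hsyl A hA g hg hAg => ?_
  set L := Subgroup.normalizer (W : Set G) with hL
  set T := (P : Subgroup G) ⊓ L with hT
  have hTp : IsPGroup p (T.subgroupOf L) :=
    (P.isPGroup'.to_le inf_le_left).of_equiv (Subgroup.subgroupOfEquivOfLe inf_le_right).symm
  set S := hTp.toSylow (hsyl : ¬ p ∣ (T.subgroupOf L).index) with hSdef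
  have hS : (S : Subgroup L) = T.subgroupOf L := IsPGroup.toSylow_coe _ _
  set D' := (Dc ⊓ T).subgroupOf L with hD'
  have hD'S : StronglyClosedIn (S : Subgroup L) D' := by
    rw [hS]; exact stronglyClosedIn_subgroupOf L inf_le_right inf_le_left hDc
  set O := Cfsg.pPrimeCore p L
  haveI : O.Normal := CfsgLib.Solvable.pPrimeCore_normal p L
  have hO : (Nat.card O).Coprime p := CfsgLib.PLoc.pPrimeCore_coprime p
  have hsurj := QuotientGroup.mk'_surjective O
  have hker : (QuotientGroup.mk' O).ker = O := QuotientGroup.ker_mk' O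
  have hcop : (Nat.card (QuotientGroup.mk' O).ker).Coprime p := by rwa [hker]
  have hc' : Cfsg.IsPConstrained p (L ⧸ O) :=
    (CfsgLib.PLoc.isPConstrained_iff_of_coprime_ker hsurj hcop).mp (hc W hWP hW)
  have hn := ZJClosed.zj_normal hp2 (CfsgLib.PLoc.centralizer_pCore_le_of_isPConstrained hc'
      (CfsgLib.PLoc.pPrimeCore_quotient_eq_bot hsurj hker))
    ((hst.subgroup L).of_surjective _ hsurj hcop) he (S.mapSurjective hsurj)
    (D := D'.map (QuotientGroup.mk' O))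
    (by rw [Sylow.coe_mapSurjective]; exact stronglyClosedIn_quotient S hD'S O hO)
  have hctl : Controls (Subgroup.normalizer (zj e D' : Set L)) (S : Subgroup L) :=
    controls_of_pprime S O hO ((zj_le e D').trans hD'S.1)
      ((Subgroup.le_normalizer.trans (normalizer_le hD'S)).trans (normalizer_le_normalizer_zj e _))
      (by
        rw [zj_map_quotient S hD'S.1 O hO]
        exact controls_top _ (Subgroup.normalizer_eq_top_iff.2 hn))
  obtain ⟨m, hm, hmd⟩ := hctl (A.subgroupOf L) (by rw [hS]; exact Subgroup.comap_mono hA) ⟨g, hg⟩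
    (fun d hd => by
      rw [hS, Subgroup.mem_subgroupOf]
      exact hAg d (Subgroup.mem_subgroupOf.1 hd))
  refine ⟨m, m.2, ?_, fun d hd => congrArg Subtype.val
    (hmd ⟨d, (hA hd).2⟩ (Subgroup.mem_subgroupOf.2 hd))⟩
  have := Subgroup.le_normalizer_map L.subtype (Subgroup.mem_map_of_mem L.subtype hm)
  rwa [zj_map L.subtype_injective, hD', Subgroup.map_subgroupOf_eq_of_le (inf_le_right.trans inf_le_right)] at this

end CfsgLib.LocEven.FusionRel
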