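import Cfsg.Prelude.Def_DStar
import Mathlib.GroupTheory.Sylow
import Mathlib.GroupTheory.Nilpotent
import Mathlib.Algebra.Group.Subgroup.Order
import Mathlib.GroupTheory.Subgroup.Centralizer
import Mathlib.Tactic.Group
import Mathlib.Algebra.Group.Commutator

/-!
Basic theory of `Cfsg.dStar`: the members of the defining family commute pairwise.
-/

set_option autoImplicit false

namespace CfsgLib.LocEven

universe u

open Cfsg
open scoped commutatorElement

variable {S : Type u} [Group S]

theorem class_two_mono {H K : Subgroup S} (h : H ≤ K) (hK : ⁅⁅K, K⁆, K⁆ = ⊥) :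
    ⁅⁅H, H⁆, H⁆ = ⊥ :=
  le_bot_iff.mp (hK ▸ Subgroup.commutator_mono (Subgroup.commutator_mono h h) h)

theorem dStarFamily_comap {T : Type u} [Group T] (f : T →* S) (hf : Function.Injective f)
    {A : Subgroup S} (hA : A ∈ dStarFamily S) (hAr : A ≤ f.range) : A.comap f ∈ dStarFamily T := by
  refine ⟨⟨⟨fun a b => Subtype.ext (hf ?_)⟩⟩, fun x hx a ha => hf ?_⟩
  · change f ((a : T) * b) = f ((b : T) * a)
    rw [map_mul, map_mul]
    exact congrArg Subtype.val (hA.1.is_comm.comm (⟨f a, a.2⟩ : A) ⟨f b, b.2⟩)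
  · -- the class two hypothesis pushes forward
    let x' := f x
    let A' := (A.comap f).map f
    have h2 : ⁅⁅A' ⊔ Subgroup.zpowers x', A' ⊔ Subgroup.zpowers x'⁆,
        A' ⊔ Subgroup.zpowers x'⁆ = ⊥ := by
      have := congrArg (Subgroup.map f) hx
      rwa [Subgroup.map_commutator, Subgroup.map_commutator, Subgroup.map_sup,
        MonoidHom.map_zpowers, Subgroup.map_bot] at this
    rw [map_mul, map_mul]
    have : A' = A := Subgroup.map_comap_eq_self hAr
    rw [this] at h2
    exact hA.2 x' h2 (f a) ha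

theorem dStarFamily_map_equiv {T : Type u} [Group T] (e : S ≃* T) {A : Subgroup S}
    (hA : A ∈ dStarFamily S) : A.map e.toMonoidHom ∈ dStarFamily T := by
  rw [Subgroup.map_equiv_eq_comap_symm']
  exact dStarFamily_comap e.symm.toMonoidHom e.symm.injective hA
    (fun x _ => ⟨e x, e.symm_apply_apply x⟩)

theorem commute_of_le_commuting {A B : Subgroup S}
    (h : A ≤ Subgroup.centralizer (B : Set S)) {a b : S} (ha : a ∈ A) (hb : b ∈ B) :
    a * b = b * a :=
  (h ha b hb).symm

private theorem commute_aux (p : ℕ) [Fact p.Prime] :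
    ∀ (n : ℕ) (S : Type u) [Group S] [Finite S], Nat.card S ≤ n → IsPGroup p S →
      ∀ A ∈ dStarFamily S, ∀ B ∈ dStarFamily S, A ≤ Subgroup.centralizer (B : Set S) := by
  intro n
  induction n with
  | zero =>
    intro S _ _ h
    exact absurd h (by have := Nat.card_pos (α := S); omega)
  | succ n ih =>
    intro S _ _ hn hS A hA B hB
    have hsub : ∀ M : Subgroup S, M ≠ ⊤ → ∀ A' ∈ dStarFamily S, ∀ B' ∈ dStarFamily S, A' ≤ M →
        B' ≤ M → A' ≤ Subgroup.centralizer (B' : Set S) := by
      intro M hM A' hA' B' hB' hAM hBM a ha b hb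
      have hcard : Nat.card M ≤ n := by
        have h1 := Subgroup.card_le_card_group M
        have h2 : Nat.card M ≠ Nat.card S := fun e => hM (Subgroup.eq_top_of_card_eq M e)
        omega
      have := ih M hcard (hS.to_subgroup M) _
        (dStarFamily_comap M.subtype M.subtype_injective hA' (by rwa [Subgroup.range_subtype]))
        _ (dStarFamily_comap M.subtype M.subtype_injective hB' (by rwa [Subgroup.range_subtype]))
      exact congrArg Subtype.val
        (this (x := ⟨a, hAM ha⟩) ha ⟨b, hBM hb⟩ hb)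
    by_cases htop : A ⊔ B = ⊤
    swap
    · exact hsub _ htop A hA B hB le_sup_left le_sup_right
    haveI : Group.IsNilpotent S := hS.isNilpotent
    -- the normal closure of a proper member is abelian
    have hnc : ∀ C ∈ dStarFamily S, C ≠ ⊤ →
        ∃ D : Subgroup S, D.Normal ∧ C ≤ D ∧ D ≤ Subgroup.centralizer (D : Set S) := by
      intro C hC hCtop
      obtain ⟨M, hM, hCM⟩ := (eq_top_or_exists_le_coatom C).resolve_left hCtop
      haveI hMn : M.Normal := Subgroup.NormalizerCondition.normal_of_coatom M Group.normalizerCondition_of_isNilpotent hM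
      refine ⟨Subgroup.normalClosure (C : Set S), Subgroup.normalClosure_normal,
        Subgroup.le_normalClosure, ?_⟩
      have hconj : ∀ g : S, C.map (MulAut.conj g).toMonoidHom ≤ M := by
        rintro g _ ⟨c, hc, rfl⟩
        exact hMn.conj_mem c (hCM hc) g
      rw [Subgroup.normalClosure, Subgroup.closure_le]
      intro x hx
      rw [SetLike.mem_coe, Subgroup.centralizer_closure, Subgroup.mem_centralizer_iff]
      intro y hy
      obtain ⟨c, hc, hcx⟩ := Group.mem_conjugatesOfSet_iff.mp hx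
      obtain ⟨d, hd, hdy⟩ := Group.mem_conjugatesOfSet_iff.mp hy
      obtain ⟨g, rfl⟩ := isConj_iff.mp hcx
      obtain ⟨h, rfl⟩ := isConj_iff.mp hdy
      have := hsub M hM.1 _ (dStarFamily_map_equiv (MulAut.conj g) hC) _
        (dStarFamily_map_equiv (MulAut.conj h) hC) (hconj g) (hconj h)
      exact commute_of_le_commuting this ⟨c, hc, rfl⟩ ⟨d, hd, rfl⟩ |>.symm
    by_cases hAtop : A = ⊤
    · intro a ha b _
      exact congrArg Subtype.val
        (hA.1.is_comm.comm (⟨b, hAtop ▸ Subgroup.mem_top b⟩ : A) ⟨a, ha⟩)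
    by_cases hBtop : B = ⊤
    · intro a _ b hb
      exact congrArg Subtype.val
        (hB.1.is_comm.comm (⟨b, hb⟩ : B) ⟨a, hBtop ▸ Subgroup.mem_top a⟩)
    obtain ⟨A', hA'n, hAA', hA'⟩ := hnc A hA hAtop
    obtain ⟨B', hB'n, hBB', hB'⟩ := hnc B hB hBtop
    -- `A' ⊓ B'` is central
    have hZ : A' ⊓ B' ≤ Subgroup.center S := by
      rw [← Subgroup.centralizer_univ, ← Subgroup.coe_top, ← htop, Subgroup.le_centralizer_iff]
      exact sup_le (hAA'.trans (hA'.trans (Subgroup.centralizer_le (fun x (hx : x ∈ A' ⊓ B') => hx.1))))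
        (hBB'.trans (hB'.trans (Subgroup.centralizer_le (fun x (hx : x ∈ A' ⊓ B') => hx.2))))
    let q := QuotientGroup.mk' (A' ⊓ B')
    have hq : ∀ x ∈ A, ∀ y ∈ B, q x * q y = q y * q x := by
      intro x hx y hy
      rw [← map_mul, ← map_mul]
      refine (QuotientGroup.eq).mpr ?_
      have h1 : y⁻¹ * x⁻¹ * y * x ∈ A' := mul_mem (by
        simpa using hA'n.conj_mem _ (inv_mem (hAA' hx)) y⁻¹) (hAA' hx)
      have h2 : y⁻¹ * x⁻¹ * y * x ∈ B' := by
        have : x⁻¹ * y * x ∈ B' := by simpa using hB'n.conj_mem _ (hBB' hy) x⁻¹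
        simpa [mul_assoc] using mul_mem (inv_mem (hBB' hy)) this
      simpa [mul_assoc] using (⟨h1, h2⟩ : y⁻¹ * x⁻¹ * y * x ∈ A' ⊓ B')
    have hqa : ∀ x y : S, q x * q y = q y * q x := by
      have hgen : ∀ z ∈ A ⊔ B, ∀ x : S,
          q z * q x = q x * q z := by
        have hA2 : (A ⊔ B).map q ≤ Subgroup.centralizer (((A ⊔ B).map q : Subgroup _) : Set _) := by
          rw [Subgroup.map_sup, sup_le_iff]
          constructor <;> rw [Subgroup.le_centralizer_iff, sup_le_iff] <;> constructor
          · rintro _ ⟨u, hu, rfl⟩ _ ⟨v, hv, rfl⟩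
            rw [← map_mul, ← map_mul, show v * u = u * v from congrArg Subtype.val (hA.1.is_comm.comm (⟨v, hv⟩ : A) ⟨u, hu⟩)]
          · rintro _ ⟨u, hu, rfl⟩ _ ⟨v, hv, rfl⟩
            exact hq v hv u hu
          · rintro _ ⟨u, hu, rfl⟩ _ ⟨v, hv, rfl⟩
            exact (hq u hu v hv).symm
          · rintro _ ⟨u, hu, rfl⟩ _ ⟨v, hv, rfl⟩
            rw [← map_mul, ← map_mul, show v * u = u * v from congrArg Subtype.val (hB.1.is_comm.comm (⟨v, hv⟩ : B) ⟨u, hu⟩)]
        intro z hz x
        exact (hA2 ⟨z, hz, rfl⟩ (q x) ⟨x, htop ▸ Subgroup.mem_top x, rfl⟩).symm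
      exact fun x y => hgen x (htop ▸ Subgroup.mem_top x) y
    intro a ha b hb
    refine (hA.2 b ?_ a ha).symm
    have hHH : ⁅A ⊔ Subgroup.zpowers b, A ⊔ Subgroup.zpowers b⁆ ≤ Subgroup.center S := by
      refine le_trans ?_ hZ
      rw [Subgroup.commutator_le]
      intro x _ y _
      rw [← QuotientGroup.eq_one_iff (N := A' ⊓ B')]
      change q ⁅x, y⁆ = 1
      rw [map_commutatorElement, commutatorElement_eq_one_iff_commute]
      exact hqa x y
    rw [Subgroup.commutator_eq_bot_iff_le_centralizer]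
    exact hHH.trans (Subgroup.center_le_centralizer _)

/-- Two members of the family behind `D*(S)` commute elementwise. -/
theorem dStarFamily_le_centralizer [Finite S] {p : ℕ} [Fact p.Prime] (hS : IsPGroup p S)
    {A B : Subgroup S} (hA : A ∈ dStarFamily S) (hB : B ∈ dStarFamily S) :
    A ≤ Subgroup.centralizer (B : Set S) :=
  commute_aux p (Nat.card S) S le_rfl hS A hA B hB

theorem dStar_mem_dStarFamily [Finite S] {p : ℕ} [Fact p.Prime] (hS : IsPGroup p S) :
    dStar S ∈ dStarFamily S := by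
  constructor
  · have h : dStar S ≤ Subgroup.centralizer (dStar S : Set S) := by
      refine sSup_le fun A hA => ?_
      rw [Subgroup.le_centralizer_iff]
      exact sSup_le fun B hB => dStarFamily_le_centralizer hS hB hA
    exact ⟨⟨fun a b => Subtype.ext (h b.2 a a.2)⟩⟩
  · intro x hx a ha
    have h : dStar S ≤ Subgroup.centralizer ({x} : Set S) := by
      refine sSup_le fun A hA c hc => ?_
      rw [Subgroup.mem_centralizer_singleton_iff]
      exact hA.2 x (class_two_mono (sup_le_sup_right (le_sSup hA) _) hx) c hc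
    exact Subgroup.mem_centralizer_singleton_iff.mp (h ha)

end CfsgLib.LocEven
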