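import Mathlib
import Cfsg.Prelude.Def_Transfer
import Cfsg.Agent.Lib.Extraspecial.TwoTypes

/-! The extension of an orthogonal group of plus type by an extraspecial 2-group, inside the
normalizer of that group in its natural representation over the field with three elements. -/

set_option autoImplicit false

namespace CfsgLib.LocEven.PlusExt

open CfsgLib.ExtraTwoTypes (V Grp beta beta_add_left beta_add_right beta_zero_left beta_zero_right)

variable {m : ℕ}

/-- Functions on half of the space, with values in the field with three elements. -/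
abbrev Fn (m : ℕ) : Type := (Fin (m + 1) → ZMod 2) → ZMod 3

/-- The endomorphisms. -/
abbrev Op (m : ℕ) : Type := Module.End (ZMod 3) (Fn m)

/-- The sign. -/
def sgn (a : ZMod 2) : ZMod 3 := if a = 0 then 1 else -1

theorem sgn_add : ∀ a b : ZMod 2, sgn (a + b) = sgn a * sgn b := by decide

theorem sgn_zero : sgn 0 = 1 := rfl

theorem sgn_injective : Function.Injective sgn := by
  intro a b
  revert a b
  decide

theorem eq_sgn_of_ne_zero : ∀ x : ZMod 3, x ≠ 0 → ∃ a, x = sgn a := by decide

theorem sgn_sum {ι : Type*} (s : Finset ι) (f : ι → ZMod 2) :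
    sgn (∑ i ∈ s, f i) = ∏ i ∈ s, sgn (f i) := by
  classical
  induction s using Finset.induction with
  | empty => rfl
  | insert i s hi ih => rw [Finset.sum_insert hi, Finset.prod_insert hi, sgn_add, ih]

theorem self_add (a : Fin (m + 1) → ZMod 2) : a + a = 0 := funext fun _ => CharTwo.add_self_eq_zero _

/-- The dot product. -/
def dot (a b : Fin (m + 1) → ZMod 2) : ZMod 2 := ∑ i, a i * b i

theorem beta_eq (u v : V m) : beta 0 u v = dot u.1 v.2 := by simp [beta, dot]

theorem sum_sgn_dot (w : Fin (m + 1) → ZMod 2) :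
    ∑ a : Fin (m + 1) → ZMod 2, sgn (dot a w) = if w = 0 then (2 : ZMod 3) ^ (m + 1) else 0 := by
  classical
  simp only [dot, sgn_sum]
  rw [← Fintype.prod_sum (f := fun i t => sgn (t * w i))]
  have h : ∀ x : ZMod 2, ∑ t, sgn (t * x) = if x = 0 then 2 else 0 := by decide
  simp only [h]
  split_ifs with hw
  · simp [hw]
  · obtain ⟨i, hi⟩ := Function.ne_iff.1 hw
    exact Finset.prod_eq_zero (Finset.mem_univ i) (if_neg hi)

/-- The monomial operator of a vector. -/
def T (u : V m) : Op m where
  toFun f x := sgn (dot u.2 x) * f (x + u.1)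
  map_add' f g := by funext x; simp [mul_add]
  map_smul' c f := by funext x; simp [mul_left_comm]

theorem T_apply (u : V m) (f : Fn m) (x : Fin (m + 1) → ZMod 2) :
    T u f x = sgn (dot u.2 x) * f (x + u.1) := rfl

theorem T_zero : T (0 : V m) = 1 := by
  refine LinearMap.ext fun f => funext fun x => ?_
  simp [T_apply, dot, sgn_zero]

theorem T_mul (u v : V m) : T u * T v = sgn (beta 0 u v) • T (u + v) := by
  refine LinearMap.ext fun f => funext fun x => ?_
  rw [Module.End.mul_apply, LinearMap.smul_apply, Pi.smul_apply, T_apply, T_apply, T_apply, smul_eq_mul,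
    ← mul_assoc, ← mul_assoc, ← sgn_add, ← sgn_add, beta_eq, Prod.snd_add, Prod.fst_add, add_assoc,
    add_comm u.1 v.1]
  congr 2
  · have h2 : (2 : ZMod 2) = 0 := CharTwo.two_eq_zero
    simp only [dot, ← Finset.sum_add_distrib]
    refine Finset.sum_congr rfl fun i _ => ?_
    simp only [Pi.add_apply]
    ring


theorem card_V_eq_finrank : Fintype.card (V m) = Module.finrank (ZMod 3) (Op m) := by
  rw [Module.finrank_linearMap, Module.finrank_fintype_fun_eq_card]
  simp

theorem two_pow_ne_zero : (2 : ZMod 3) ^ (m + 1) ≠ 0 := pow_ne_zero _ (by decide)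

theorem top_le_span : (⊤ : Submodule (ZMod 3) (Op m)) ≤ Submodule.span (ZMod 3) (Set.range (T (m := m))) := by
  classical
  intro A _
  have h : (2 : ZMod 3) ^ (m + 1) • A = ∑ a : Fin (m + 1) → ZMod 2, ∑ w : Fin (m + 1) → ZMod 2,
      (∑ y, sgn (dot a y) * A (Pi.single (y + w) 1) y) • T (w, a) := by
    refine LinearMap.ext fun f => funext fun x => ?_
    simp only [LinearMap.smul_apply, Pi.smul_apply, smul_eq_mul, LinearMap.sum_apply, Finset.sum_apply,
      T_apply, Finset.sum_mul]
    rw [Finset.sum_comm]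
    have hin : ∀ w, (∑ a : Fin (m + 1) → ZMod 2, ∑ y,
        sgn (dot a y) * A (Pi.single (y + w) 1) y * (sgn (dot a x) * f (x + w))) =
        (2 : ZMod 3) ^ (m + 1) * (A (Pi.single (x + w) 1) x * f (x + w)) := by
      intro w
      rw [Finset.sum_comm, Finset.sum_eq_single x]
      · rw [← sum_sgn_dot (m := m) 0 |>.trans (if_pos rfl), Finset.sum_mul]
        refine Finset.sum_congr rfl fun a _ => ?_
        rw [show sgn (dot a 0) = 1 by simp [dot, sgn_zero]]
        have hs : ∀ t : ZMod 2, sgn t * sgn t = 1 := by decide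
        linear_combination (A (Pi.single (x + w) 1) x * f (x + w)) * hs (dot a x)
      · intro y _ hy
        have hsum := sum_sgn_dot (y + x)
        rw [if_neg (fun h0 => hy (by
          funext i
          have := congrFun h0 i
          exact (show ∀ a b : ZMod 2, a + b = 0 → a = b by decide) _ _ this))] at hsum
        calc ∑ a : Fin (m + 1) → ZMod 2,
              sgn (dot a y) * A (Pi.single (y + w) 1) y * (sgn (dot a x) * f (x + w))
            = (∑ a : Fin (m + 1) → ZMod 2, sgn (dot a (y + x))) *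
                (A (Pi.single (y + w) 1) y * f (x + w)) := by
              rw [Finset.sum_mul]
              refine Finset.sum_congr rfl fun a _ => ?_
              rw [show dot a (y + x) = dot a y + dot a x by
                simp [dot, mul_add, Finset.sum_add_distrib], sgn_add]
              ring
          _ = 0 := by rw [hsum, zero_mul]
      · exact fun h => (h (Finset.mem_univ _)).elim
    rw [Finset.sum_congr rfl fun w _ => hin w, ← Finset.mul_sum]
    congr 1
    rw [Fintype.sum_equiv (Equiv.addLeft x) (fun w => A (Pi.single (x + w) 1) x * f (x + w))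
      (fun z => A (Pi.single z 1) x * f z) fun _ => rfl]
    conv_lhs => rw [pi_eq_sum_univ' f]
    simp only [map_sum, map_smul, Finset.sum_apply, Pi.smul_apply, smul_eq_mul]
    exact Finset.sum_congr rfl fun z _ => mul_comm _ _
  rw [show A = ((2 : ZMod 3) ^ (m + 1))⁻¹ • ((2 : ZMod 3) ^ (m + 1) • A) by
    rw [inv_smul_smul₀ two_pow_ne_zero], h]
  exact Submodule.smul_mem _ _ (Submodule.sum_mem _ fun a _ => Submodule.sum_mem _ fun w _ =>
    Submodule.smul_mem _ _ (Submodule.subset_span ⟨_, rfl⟩))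

/-- The monomial operators form a basis. -/
noncomputable def bas (m : ℕ) : Module.Basis (V m) (ZMod 3) (Op m) :=
  basisOfTopLeSpanOfCardEqFinrank T top_le_span card_V_eq_finrank

@[simp] theorem bas_apply (u : V m) : bas m u = T u := by
  simp [bas]

theorem smul_T_inj {c d : ZMod 2} {u v : V m} (h : sgn c • T u = sgn d • T v) : c = d ∧ u = v := by
  classical
  have hne : ∀ a : ZMod 2, sgn a ≠ 0 := by decide
  have h1 := congrArg (fun A => (bas m).repr A u) h
  simp only [← bas_apply, map_smul, Module.Basis.repr_self, Finsupp.smul_apply, smul_eq_mul,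
    Finsupp.single_apply, if_pos] at h1
  by_cases huv : v = u
  · rw [if_pos huv, mul_one, mul_one] at h1
    exact ⟨sgn_injective h1, huv.symm⟩
  · rw [if_neg huv, mul_one, mul_zero] at h1
    exact absurd h1 (hne c)

/-- The extraspecial group in its representation. -/
noncomputable def repHom (m : ℕ) : Grp m 0 →* (Op m)ˣ :=
  MonoidHom.toHomUnits
    { toFun := fun g => sgn g.a • T g.v
      map_one' := by simp [sgn_zero, T_zero]
      map_mul' := fun g h => by
        simp only [ExtraTwoTypes.mul_v, ExtraTwoTypes.mul_a, smul_mul_assoc, mul_smul_comm, T_mul,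
          smul_smul, sgn_add]
        congr 1
        ring }

theorem repHom_coe (g : Grp m 0) : ((repHom m g : (Op m)ˣ) : Op m) = sgn g.a • T g.v := rfl

theorem repHom_injective : Function.Injective (repHom m) := by
  intro g h hgh
  have h1 := congrArg Units.val hgh
  rw [repHom_coe, repHom_coe] at h1
  obtain ⟨ha, hv⟩ := smul_T_inj h1
  exact ExtraTwoTypes.Grp.ext hv ha

/-- The twisting function: a bilinear form whose symmetrization is a given alternating form. -/
theorem exists_half (δ : V m →ₗ[ZMod 2] V m →ₗ[ZMod 2] ZMod 2) (hδ : ∀ u, δ u u = 0) :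
    ∃ t : V m →ₗ[ZMod 2] V m →ₗ[ZMod 2] ZMod 2, ∀ u v, t u v + t v u = δ u v := by
  classical
  let b := Module.finBasis (ZMod 2) (V m)
  let t : V m →ₗ[ZMod 2] V m →ₗ[ZMod 2] ZMod 2 :=
    b.constr (ZMod 2) fun i => b.constr (ZMod 2) fun j => if i < j then δ (b i) (b j) else 0
  refine ⟨t, fun u v => ?_⟩
  have h : t + t.flip = δ := by
    refine LinearMap.ext_basis b b fun i j => ?_
    have hsym : δ (b j) (b i) = δ (b i) (b j) := by
      have h1 := hδ (b i + b j)
      rw [map_add, map_add, LinearMap.add_apply, LinearMap.add_apply, hδ, hδ, zero_add, add_zero] at h1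
      exact (show ∀ a c : ZMod 2, a + c = 0 → a = c by decide) _ _ h1
    simp only [LinearMap.add_apply, LinearMap.flip_apply, t, Module.Basis.constr_basis]
    rcases lt_trichotomy i j with hij | rfl | hij
    · rw [if_pos hij, if_neg (lt_asymm hij), add_zero]
    · rw [if_neg (lt_irrefl i), hδ, add_zero]
    · rw [if_neg (lt_asymm hij), if_pos hij, zero_add, hsym]
  exact LinearMap.congr_fun₂ h u v

/-- The cocycle as a bilinear map. -/
def betaLin (m : ℕ) : V m →ₗ[ZMod 2] V m →ₗ[ZMod 2] ZMod 2 :=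
  LinearMap.mk₂ (ZMod 2) (beta 0) beta_add_left
    (fun c u v => by simp [beta_eq, dot, Finset.mul_sum, mul_assoc])
    beta_add_right
    (fun c u v => by simp [beta_eq, dot, Finset.mul_sum, mul_left_comm])

/-- Every isometry is induced by conjugation. -/
theorem exists_conj (σ : V m →ₗ[ZMod 2] V m) (hσ : Function.Surjective σ)
    (hq : ∀ u, beta 0 (σ u) (σ u) = beta 0 u u) :
    ∃ g : (Op m)ˣ, ∀ u, ∃ c, (g : Op m) * T u = sgn c • (T (σ u) * (g : Op m)) := by
  classical
  let δ : V m →ₗ[ZMod 2] V m →ₗ[ZMod 2] ZMod 2 := (betaLin m).compl₁₂ σ σ + betaLin m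
  have hδ : ∀ u, δ u u = 0 := fun u => by
    simp [δ, betaLin, hq u, CharTwo.add_self_eq_zero]
  obtain ⟨t, ht⟩ := exists_half δ hδ
  let f : V m → ZMod 2 := fun u => t u u
  have hf : ∀ u v, f (u + v) = f u + f v + (beta 0 (σ u) (σ v) + beta 0 u v) := fun u v => by
    have h1 := ht u v
    simp only [δ, LinearMap.add_apply, LinearMap.compl₁₂_apply, betaLin, LinearMap.mk₂_apply] at h1
    simp only [f, map_add, LinearMap.add_apply, ← h1]
    ring
  let Φ : Op m →ₗ[ZMod 3] Op m := (bas m).constr (ZMod 3) fun u => sgn (f u) • T (σ u)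
  have hΦ : ∀ u, Φ (T u) = sgn (f u) • T (σ u) := fun u => by
    rw [← bas_apply, Module.Basis.constr_basis]
  have hf0 : f 0 = 0 := by simp [f]
  have hΦ1 : Φ 1 = 1 := by rw [← T_zero, hΦ, hf0, map_zero, sgn_zero, one_smul, T_zero]
  have hmul : ∀ A B, Φ (A * B) = Φ A * Φ B := by
    have h2 : (LinearMap.mul (ZMod 3) (Op m)).compr₂ Φ = (LinearMap.mul (ZMod 3) (Op m)).compl₁₂ Φ Φ := by
      refine LinearMap.ext_basis (bas m) (bas m) fun u v => ?_
      simp only [LinearMap.compr₂_apply, LinearMap.compl₁₂_apply, LinearMap.mul_apply_apply, bas_apply]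
      rw [T_mul, map_smul, hΦ, hΦ, hΦ, smul_mul_assoc, mul_smul_comm, T_mul, smul_smul, smul_smul,
        smul_smul, ← map_add, ← sgn_add, ← sgn_add, ← sgn_add, hf]
      congr 2
      linear_combination (beta 0 u v) * CharTwo.two_eq_zero (R := ZMod 2)
    exact fun A B => LinearMap.congr_fun₂ h2 A B
  have hsurj : Function.Surjective Φ := by
    rw [← LinearMap.range_eq_top, eq_top_iff]
    refine top_le_span.trans (Submodule.span_le.2 ?_)
    rintro _ ⟨v, rfl⟩
    obtain ⟨u, rfl⟩ := hσ v
    refine ⟨sgn (f u) • T u, ?_⟩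
    rw [map_smul, hΦ, smul_smul, (show ∀ a : ZMod 2, sgn a * sgn a = 1 by decide), one_smul]
  let F : Op m ≃ₐ[ZMod 3] Op m := AlgEquiv.ofBijective (AlgHom.ofLinearMap Φ hΦ1 hmul)
    ⟨(LinearMap.injective_iff_surjective (f := Φ)).2 hsurj, hsurj⟩
  obtain ⟨g, hg⟩ := F.eq_linearEquivConjAlgEquiv
  refine ⟨LinearMap.GeneralLinearGroup.ofLinearEquiv g, fun u => ⟨f u, ?_⟩⟩
  have h3 : Φ (T u) = g.conjAlgEquiv (ZMod 3) (T u) := AlgEquiv.congr_fun hg (T u)
  rw [hΦ] at h3
  show g.toLinearMap * T u = sgn (f u) • (T (σ u) * g.toLinearMap)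
  rw [← smul_mul_assoc, h3]
  refine LinearMap.ext fun x => ?_
  simp [LinearEquiv.conjAlgEquiv_apply]

/-- An operator acting trivially on the vectors, up to signs, lies in the extraspecial group. -/
theorem mem_range_of_trivial (g : (Op m)ˣ)
    (h : ∀ u, ∃ c, (g : Op m) * T u = sgn c • (T u * (g : Op m))) :
    g ∈ (repHom m).range := by
  classical
  have hne : ∀ a : ZMod 2, sgn a ≠ 0 := by decide
  let co := (bas m).repr (g : Op m)
  have hexp : (g : Op m) = ∑ v, co v • T v := by
    conv_lhs => rw [← (bas m).sum_repr (g : Op m)]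
    simp [co]
  have key : ∀ v, co v ≠ 0 → ∀ u c, (g : Op m) * T u = sgn c • (T u * (g : Op m)) →
      c = beta 0 v u + beta 0 u v := by
    intro v hv u c hc
    rw [hexp, Finset.sum_mul, Finset.mul_sum, Finset.smul_sum] at hc
    simp only [smul_mul_assoc, mul_smul_comm, T_mul, smul_smul] at hc
    have hc1 := congrArg (fun A => (bas m).repr A (v + u)) hc
    simp only [← bas_apply, map_sum, map_smul, Module.Basis.repr_self, Finset.sum_apply',
      Finsupp.smul_apply, Finsupp.single_apply, smul_eq_mul] at hc1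
    rw [Finset.sum_eq_single v (fun w _ hw => by rw [if_neg (fun e => hw (add_right_cancel e)), mul_zero])
        (fun h0 => (h0 (Finset.mem_univ _)).elim),
      Finset.sum_eq_single v (fun w _ hw => by
        rw [add_comm u w, if_neg (fun e => hw (add_right_cancel e)), mul_zero])
        (fun h0 => (h0 (Finset.mem_univ _)).elim), if_pos rfl, add_comm u v, if_pos rfl, mul_one,
      mul_one] at hc1
    have h4 : sgn (beta 0 v u) = sgn c * sgn (beta 0 u v) :=
      mul_left_cancel₀ hv (by linear_combination hc1)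
    rw [← sgn_add] at h4
    rw [sgn_injective h4]
    linear_combination -(beta 0 u v) * CharTwo.two_eq_zero (R := ZMod 2)
  obtain ⟨v, hv⟩ : ∃ v, co v ≠ 0 := by
    by_contra hc
    push Not at hc
    exact g.ne_zero (by rw [hexp]; simp [hc])
  have huniq : ∀ w, co w ≠ 0 → w = v := by
    intro w hw
    by_contra hwv
    have hne' : w + v ≠ 0 := fun h0 => hwv (by
      rw [← sub_eq_zero, sub_eq_add_neg, show -v = v from Prod.ext (funext fun i => by simp [ZMod.neg_eq_self_mod_two]) (funext fun i => by simp [ZMod.neg_eq_self_mod_two])]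
      exact h0)
    obtain ⟨u, hu⟩ := ExtraTwoTypes.exists_polar (e := 0) (w + v) hne'
    obtain ⟨c, hc⟩ := h u
    rw [beta_add_left, beta_add_right] at hu
    have h5 : (0 : ZMod 2) = 1 := by
      rw [← hu]
      linear_combination key w hw u c hc + key v hv u c hc - c * CharTwo.two_eq_zero (R := ZMod 2)
    exact zero_ne_one h5
  have hg : (g : Op m) = co v • T v := by
    rw [hexp, Finset.sum_eq_single v (fun w _ hw => ?_) (fun h0 => (h0 (Finset.mem_univ _)).elim)]
    rw [show co w = 0 from by_contra fun h0 => hw (huniq w h0), zero_smul]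
  obtain ⟨a, ha⟩ := eq_sgn_of_ne_zero _ hv
  exact ⟨⟨v, a⟩, Units.ext (by rw [repHom_coe, hg, ha])⟩

/-- Units inducing on the vectors, up to sign, a member of the given group. -/
def normSubgroup {K : Type*} [Group K] (σ : K → V m → V m) (h1 : ∀ u, σ 1 u = u)
    (hmul : ∀ k l u, σ (k * l) u = σ k (σ l u)) : Subgroup (Op m)ˣ where
  carrier := {g | ∃ k, ∀ u, ∃ c, (g : Op m) * T u = sgn c • (T (σ k u) * (g : Op m))}
  one_mem' := ⟨1, fun u => ⟨0, by simp [h1, sgn_zero]⟩⟩
  mul_mem' := by
    rintro g g' ⟨k, hk⟩ ⟨l, hl⟩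
    refine ⟨k * l, fun u => ?_⟩
    obtain ⟨c, hc⟩ := hl u
    obtain ⟨d, hd⟩ := hk (σ l u)
    refine ⟨c + d, ?_⟩
    rw [Units.val_mul, mul_assoc, hc, mul_smul_comm, ← mul_assoc, hd, smul_mul_assoc, smul_smul,
      mul_assoc, ← sgn_add, hmul]
  inv_mem' := by
    rintro g ⟨k, hk⟩
    refine ⟨k⁻¹, fun u => ?_⟩
    obtain ⟨c, hc⟩ := hk (σ k⁻¹ u)
    refine ⟨c, ?_⟩
    rw [← hmul, mul_inv_cancel, h1] at hc
    have hs : ∀ a : ZMod 2, sgn a * sgn a = 1 := by decide
    have h2 := congrArg (fun A => sgn c • ((↑g⁻¹ : Op m) * A * (↑g⁻¹ : Op m))) hc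
    simpa [mul_smul_comm, smul_mul_assoc, smul_smul, hs, mul_assoc] using h2.symm

theorem exists_extension {K : Type*} [Group K] (σ : K → V m →ₗ[ZMod 2] V m)
    (hinj : Function.Injective σ) (h1 : σ 1 = LinearMap.id)
    (hmul : ∀ k l, σ (k * l) = σ k ∘ₗ σ l)
    (hq : ∀ k u, beta 0 (σ k u) (σ k u) = beta 0 u u) :
    ∃ (R : Type) (_ : Group R) (_ : Finite R) (ι : Grp m 0 →* R) (π : R →* K),
      Function.Injective ι ∧ Function.Surjective π ∧ π.ker = ι.range ∧
      ∀ r x, ∃ c, r * ι x * r⁻¹ = ι ⟨σ (π r) x.v, c⟩ := by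
  classical
  let N := normSubgroup (fun k => ⇑(σ k)) (fun u => by simp [h1]) (fun k l u => by simp [hmul])
  have : Finite (Op m) := Module.finite_of_finite (ZMod 3)
  have : Finite ↥N := inferInstance
  have huniq : ∀ (g : (Op m)ˣ) k l, (∀ u, ∃ c, (g : Op m) * T u = sgn c • (T (σ k u) * (g : Op m))) →
      (∀ u, ∃ c, (g : Op m) * T u = sgn c • (T (σ l u) * (g : Op m))) → k = l := by
    intro g k l hk hl
    refine hinj (LinearMap.ext fun u => ?_)
    obtain ⟨c, hc⟩ := hk u
    obtain ⟨d, hd⟩ := hl u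
    have h2 := congrArg (fun A => A * (↑g⁻¹ : Op m)) (hc.symm.trans hd)
    simp only [smul_mul_assoc, mul_assoc, Units.mul_inv, mul_one] at h2
    exact (smul_T_inj h2).2
  let pf : ↥N → K := fun g => Classical.choose g.2
  have hpf : ∀ g : ↥N, ∀ u, ∃ c, ((g : (Op m)ˣ) : Op m) * T u =
      sgn c • (T (σ (pf g) u) * ((g : (Op m)ˣ) : Op m)) := fun g => Classical.choose_spec g.2
  let π : ↥N →* K := MonoidHom.mk' pf fun g g' => by
    refine huniq (g * g' : ↥N) _ _ (hpf _) fun u => ?_
    obtain ⟨c, hc⟩ := hpf g' u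
    obtain ⟨d, hd⟩ := hpf g (σ (pf g') u)
    refine ⟨c + d, ?_⟩
    rw [Subgroup.coe_mul, Units.val_mul, mul_assoc, hc, mul_smul_comm, ← mul_assoc, hd, smul_mul_assoc,
      smul_smul, mul_assoc, ← sgn_add, hmul, LinearMap.comp_apply]
  have hbase : ∀ (x : Grp m 0) u, ∃ c, (repHom m x : Op m) * T u =
      sgn c • (T (σ 1 u) * (repHom m x : Op m)) := fun x u => by
    refine ⟨beta 0 x.v u + beta 0 u x.v, ?_⟩
    simp only [repHom_coe, h1, LinearMap.id_coe, id_eq, smul_mul_assoc, mul_smul_comm, T_mul, smul_smul,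
      add_comm u x.v, sgn_add]
    have hs : ∀ a : ZMod 2, sgn a * sgn a = 1 := by decide
    congr 1
    linear_combination -(sgn x.a * sgn (beta 0 x.v u)) * hs (beta 0 u x.v)
  let ι : Grp m 0 →* ↥N := (repHom m).codRestrict N fun x => ⟨1, hbase x⟩
  have hker : π.ker = ι.range := by
    ext g
    constructor
    · intro hg
      have hg' : pf g = 1 := hg
      obtain ⟨x, hx⟩ := mem_range_of_trivial (g : (Op m)ˣ) fun u => by
        simpa [hg', h1] using hpf g u
      exact ⟨x, Subtype.ext hx⟩
    · rintro ⟨x, rfl⟩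
      exact huniq _ _ _ (hpf (ι x)) (hbase x)
  refine ⟨↥N, inferInstance, inferInstance, ι, π, ?_, ?_, hker, ?_⟩
  · exact fun x y hxy => repHom_injective (congrArg Subtype.val hxy)
  · intro k
    have hs : Function.Surjective (σ k) := fun u => ⟨σ k⁻¹ u, by
      rw [← LinearMap.comp_apply, ← hmul, mul_inv_cancel, h1, LinearMap.id_apply]⟩
    obtain ⟨g, hg⟩ := exists_conj (σ k) hs (hq k)
    exact ⟨⟨g, k, hg⟩, huniq g _ _ (hpf ⟨g, k, hg⟩) hg⟩
  · intro r x
    obtain ⟨c, hc⟩ := hpf r x.v
    refine ⟨x.a + c, Subtype.ext (Units.ext ?_)⟩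
    show ((r : (Op m)ˣ) : Op m) * (sgn x.a • T x.v) * ((r : (Op m)ˣ)⁻¹ : (Op m)ˣ) =
      sgn (x.a + c) • T (σ (π r) x.v)
    rw [mul_smul_comm, hc, smul_smul, ← sgn_add, smul_mul_assoc, mul_assoc, Units.mul_inv, mul_one]
    rfl

/-- Coordinates for a form of plus type. -/
theorem exists_coord {U : Type*} [AddCommGroup U] [Module (ZMod 2) U] [Module.Finite (ZMod 2) U]
    (hn : Module.finrank (ZMod 2) U = 2 * (m + 1)) (q : QuadraticForm (ZMod 2) U)
    (hnd : (QuadraticMap.polarBilin q).Nondegenerate)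
    (W : Submodule (ZMod 2) U) (hW : Module.finrank (ZMod 2) ↥W = m + 1) (hW0 : ∀ w ∈ W, q w = 0) :
    ∃ Ψ : V m ≃ₗ[ZMod 2] U, ∀ v, q (Ψ v) = beta 0 v v := by
  classical
  let bW : Module.Basis (Fin (m + 1)) (ZMod 2) ↥W := Module.finBasisOfFinrankEq _ _ hW
  let incl : (Fin (m + 1) → ZMod 2) →ₗ[ZMod 2] U := W.subtype ∘ₗ bW.equivFun.symm.toLinearMap
  have hincl : Function.Injective incl := W.injective_subtype.comp bW.equivFun.symm.injective
  have hincl0 : ∀ a, q (incl a) = 0 := fun a => hW0 _ (bW.equivFun.symm a).2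
  have hmadd : ∀ x y, q (x + y) = q x + q y + QuadraticMap.polarBilin q x y := fun x y => by
    rw [QuadraticMap.polarBilin_apply_apply, QuadraticMap.polar]; ring
  let L : U →ₗ[ZMod 2] (Fin (m + 1) → ZMod 2) :=
    LinearMap.pi fun i => QuadraticMap.polarBilin q (bW i : U)
  have hLsum : ∀ a u, QuadraticMap.polarBilin q (incl a) u = ∑ i, a i * L u i := fun a u => by
    simp only [incl, L, LinearMap.comp_apply, LinearEquiv.coe_coe, Module.Basis.equivFun_symm_apply,
      map_sum, map_smul, Submodule.coe_subtype, LinearMap.sum_apply, LinearMap.smul_apply,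
      LinearMap.pi_apply, smul_eq_mul]
  have hLincl : ∀ a, L (incl a) = 0 := fun a => funext fun i => by
    show QuadraticMap.polarBilin q (bW i : U) (incl a) = 0
    have h := hmadd (bW i : U) (incl a)
    rw [hW0 _ (bW i).2, hincl0, show q ((bW i : U) + incl a) = 0 from hW0 _ (W.add_mem (bW i).2 (bW.equivFun.symm a).2), zero_add, zero_add] at h
    exact h.symm
  have hLs : Function.Surjective L := by
    rw [← LinearMap.dualMap_injective_iff, injective_iff_map_eq_zero]
    intro c hc
    let cv : Fin (m + 1) → ZMod 2 := fun i => c (Pi.single i 1)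
    have hc' : ∀ x, c x = ∑ i, cv i * x i := fun x => by
      conv_lhs => rw [pi_eq_sum_univ' x]
      simp [cv, mul_comm]
    have h0 : incl cv = 0 := hnd.1 _ fun u => by
      rw [hLsum, ← hc']
      exact LinearMap.congr_fun hc u
    have hcv : cv = 0 := hincl (by rw [h0, map_zero])
    exact LinearMap.ext fun x => by simp [hc', hcv]
  obtain ⟨s, hs⟩ := L.exists_rightInverse_of_surjective (LinearMap.range_eq_top.2 hLs)
  have hs' : ∀ b, L (s b) = b := LinearMap.congr_fun hs
  obtain ⟨β, hβ⟩ := LinearMap.BilinMap.toQuadraticMap_surjective (q.comp s)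
  let φ : (Fin (m + 1) → ZMod 2) →ₗ[ZMod 2] (Fin (m + 1) → ZMod 2) :=
    LinearMap.pi fun i => β.flip (Pi.single i 1)
  let P : V m →ₗ[ZMod 2] U := LinearMap.coprod incl (s + incl ∘ₗ φ)
  have hPL : ∀ v, L (P v) = v.2 := fun v => by simp [P, hLincl, hs']
  have hPq : ∀ v, q (P v) = beta 0 v v := by
    intro v
    have h2 : q (s v.2 + incl (φ v.2)) = 0 := by
      rw [add_comm, hmadd, hincl0, hLsum, hs', zero_add,
        show q (s v.2) = β v.2 v.2 from (DFunLike.congr_fun hβ v.2).symm]
      have h3 : β v.2 v.2 = ∑ i, φ v.2 i * v.2 i := by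
        conv_lhs => arg 2; rw [pi_eq_sum_univ' v.2]
        simp [φ, mul_comm]
      rw [h3, CharTwo.add_self_eq_zero]
    simp only [P, LinearMap.coprod_apply, LinearMap.add_apply, LinearMap.comp_apply]
    rw [hmadd, hincl0, h2, hLsum, map_add, hLincl, hs', add_zero, add_zero, zero_add, beta_eq]
    rfl
  have hinjP : Function.Injective P := by
    rw [injective_iff_map_eq_zero]
    intro v hv
    have h2 : v.2 = 0 := by rw [← hPL v, hv, map_zero]
    refine Prod.ext (hincl ?_) h2
    simpa [P, h2] using hv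
  have hdim : Module.finrank (ZMod 2) (V m) = Module.finrank (ZMod 2) U := by
    rw [hn, Module.finrank_prod, Module.finrank_fintype_fun_eq_card, Fintype.card_fin, two_mul]
  exact ⟨LinearMap.linearEquivOfInjective P hinjP hdim, hPq⟩

end CfsgLib.LocEven.PlusExt
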