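import Cfsg.Agent.Lib.KInf.Qd
import Cfsg.Agent.S2763

/-! In a group isomorphic to `Qd(p)`, no subgroup with the same normalizer as a Sylow subgroup controls
strong fusion. -/

set_option autoImplicit false
set_option linter.style.haveILetI false

namespace CfsgLib.LocEven

open CfsgLib.ConjFunctor CfsgLib.Qd

universe u

variable {p : ℕ}

theorem not_controls_of_char_of_equiv_qd [Fact p.Prime] {X : Type u} [Group X] [Finite X]
    (e : X ≃* ↥(Cfsg.qd p)) (W : Subgroup X → Subgroup X)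
    (hW : ∀ (T : Sylow p X), W (T : Subgroup X) ≠ ⊥ ∧ W (T : Subgroup X) ≤ (T : Subgroup X) ∧
      ∀ (φ : X ≃* ↥(Cfsg.qd p)),
        (((W (T : Subgroup X)).map φ.toMonoidHom).subgroupOf
          ((T : Subgroup X).map φ.toMonoidHom)).Characteristic) :
    ¬ ∀ T : Sylow p X, Cfsg.ControlsStrongFusion p (W (T : Subgroup X)) := by
  intro hall
  haveI : NeZero p := ⟨(Fact.out : p.Prime).ne_zero⟩
  obtain ⟨T₀, hT₀⟩ := qdUpper_isSylow (p := p)
  haveI : Finite ↥(Cfsg.qd p) := Finite.of_equiv X e.toEquiv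
  have hs : Function.Surjective e.symm.toMonoidHom := e.symm.surjective
  set T := T₀.mapSurjective hs with hT
  have hTm : (T : Subgroup X) = (qdUpper p).map e.symm.toMonoidHom := by
    rw [hT, Sylow.coe_mapSurjective, hT₀]
  have hTe : (T : Subgroup X).map e.toMonoidHom = qdUpper p := by
    rw [hTm, Subgroup.map_map]
    convert Subgroup.map_id (qdUpper p)
    exact MonoidHom.ext fun y => by simp
  obtain ⟨hWne, hWT, hWc⟩ := hW T
  have hN : ∀ x ∈ Subgroup.normalizer (W (T : Subgroup X) : Set X),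
      e x ∈ Subgroup.normalizer (qdUpper p : Set ↥(Cfsg.qd p)) := by
    intro x hx
    have hc := hWc e
    rw [hTe] at hc
    have hle : (W (T : Subgroup X)).map e.toMonoidHom ≤ qdUpper p := hTe ▸ Subgroup.map_mono hWT
    have h1 : e x ∈ Subgroup.normalizer
        ((((W (T : Subgroup X)).map e.toMonoidHom) : Subgroup ↥(Cfsg.qd p)) : Set ↥(Cfsg.qd p)) := by
      rw [← Subgroup.map_equiv_normalizer_eq]
      exact ⟨x, hx, rfl⟩
    rw [← hT₀] at hc hle ⊢
    have h2 := (Cfsg.Agent.S2763.result T₀ (((W (T : Subgroup X)).map e.toMonoidHom).subgroupOf (T₀ : Subgroup ↥(Cfsg.qd p))) (by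
      rw [Ne, Subgroup.subgroupOf_eq_bot, disjoint_iff, inf_eq_left.2 hle,
        Subgroup.map_eq_bot_iff_of_injective _ e.injective]
      exact hWne) hc).1
    rw [Subgroup.map_subgroupOf_eq_of_le hle] at h2
    rwa [← h2]
  obtain ⟨T', hle, hctl⟩ := hall T
  set w : ↥(Cfsg.qd p) := mk 0 (-1) 1 0 0 0 (by ring)
  set z := e.symm (tra (1 : ZMod p) 0) with hz
  set g := e.symm w
  have hgz : g * z * g⁻¹ = e.symm (tra 0 1) := by
    rw [hz, ← map_mul, ← map_inv, ← map_mul, conj_tra]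
    refine congrArg e.symm (mk_eq rfl rfl rfl rfl ?_ ?_) <;> ring
  have hzV : ∀ a b : ZMod p, ∀ P : Sylow p X, e.symm (tra a b) ∈ (P : Subgroup X) := by
    intro a b P
    obtain ⟨y, hy⟩ := MulAction.exists_smul_eq X T P
    obtain ⟨a', b', c', d', u', v', hd', hy'⟩ := exists_eq_mk (e y⁻¹)
    rw [← hy, Sylow.coe_subgroup_smul]
    refine ⟨e.symm (e y⁻¹ * tra a b * (e y⁻¹)⁻¹), ?_, ?_⟩
    · rw [hy', conj_tra, hTm]
      exact ⟨_, tra_mem_qdUpper _ _, rfl⟩
    · simp [MulAut.conj_apply, mul_assoc]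
  obtain ⟨x, hx, hag⟩ := (hctl {z} (Set.singleton_subset_iff.2 (hzV 1 0 T'))).2 g (by
    rw [Set.image_singleton, Set.singleton_subset_iff, hgz]
    exact hzV 0 1 T')
  have h2 : g * z * g⁻¹ = x * z * x⁻¹ := hag z rfl
  obtain ⟨a, b, c, d, u, v, hd, hxe⟩ := exists_eq_mk (e x)
  have hxN := hN x hx
  rw [hxe] at hxN
  have hc := eq_zero_of_mem_normalizer_qdUpper hxN
  subst hc
  have h4 := congrArg e (hgz.symm.trans h2)
  rw [map_mul, map_mul, map_inv, hxe, hz, e.apply_symm_apply, e.apply_symm_apply, conj_tra] at h4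
  simp only [tra, mk_inj] at h4
  have h5 : (1 : ZMod p) = 0 := by linear_combination h4.2.2.2.2.2
  exact one_ne_zero h5

end CfsgLib.LocEven
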