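import Mathlib.GroupTheory.Sylow
import Mathlib.GroupTheory.Nilpotent

/-!
Strongly p-embedded subgroups in the classical sense (`H ∩ H^g` is a p'-group for `g ∉ H`).
-/

set_option autoImplicit false

namespace CfsgLib.LocEven

variable {G : Type*} [Group G] [Finite G] {p : ℕ} [Fact p.Prime] {H : Subgroup G}

theorem classicalSE_normalizer_le
    (hse : ∀ g : G, g ∉ H → ¬ p ∣ Nat.card ↥(H ⊓ H.map (MulAut.conj g).toMonoidHom))
    {R : Subgroup G} (hR : R ≤ H) (hp : p ∣ Nat.card R) :
    Subgroup.normalizer (R : Set G) ≤ H := by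
  intro g hg
  by_contra hgH
  refine hse g hgH (dvd_trans hp (Subgroup.card_dvd_of_le (le_inf hR ?_)))
  intro r hr
  refine ⟨g⁻¹ * r * g, hR ?_, by simp [mul_assoc]⟩
  apply (Subgroup.mem_normalizer_iff.mp hg _).mpr
  simpa [mul_assoc] using hr

theorem classicalSE_exists_sylow_le
    (hse : ∀ g : G, g ∉ H → ¬ p ∣ Nat.card ↥(H ⊓ H.map (MulAut.conj g).toMonoidHom))
    (hpH : p ∣ Nat.card H) : ∃ P : Sylow p G, (P : Subgroup G) ≤ H := by
  obtain ⟨P0⟩ := (inferInstance : Nonempty (Sylow p H))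
  set Q := (P0 : Subgroup H).map H.subtype with hQ
  have hQH : Q ≤ H := Subgroup.map_subtype_le _
  have hQp : IsPGroup p Q := P0.isPGroup'.map _
  have hQd : p ∣ Nat.card Q := by
    rw [hQ, Subgroup.card_subtype]
    exact P0.dvd_card_of_dvd_card hpH
  obtain ⟨P, hQP⟩ := hQp.exists_le_sylow
  refine ⟨P, ?_⟩
  rcases eq_or_lt_of_le hQP with h | h
  · exact h ▸ hQH
  · exfalso
    haveI : Group.IsNilpotent (P : Subgroup G) := P.isPGroup'.isNilpotent
    have hlt : Q.subgroupOf P < ⊤ :=
      lt_top_iff_ne_top.mpr fun e => h.not_ge (Subgroup.subgroupOf_eq_top.mp e)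
    obtain ⟨⟨x, hxP⟩, hxN, hxQ⟩ :=
      SetLike.exists_of_lt (Group.normalizerCondition_of_isNilpotent _ hlt)
    apply hxQ
    have hxN' : x ∈ Subgroup.normalizer (Q : Set G) := by
      rw [Subgroup.mem_normalizer_iff]
      intro n
      constructor
      · intro hn
        exact Subgroup.mem_subgroupOf.mp ((Subgroup.mem_normalizer_iff.mp hxN ⟨n, hQP hn⟩).mp
          (Subgroup.mem_subgroupOf.mpr hn))
      · intro hn
        have hnP : n ∈ (P : Subgroup G) := by
          have := mul_mem (mul_mem (inv_mem hxP) (hQP hn)) hxP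
          simpa [mul_assoc] using this
        exact Subgroup.mem_subgroupOf.mp ((Subgroup.mem_normalizer_iff.mp hxN ⟨n, hnP⟩).mpr
          (Subgroup.mem_subgroupOf.mpr hn))
    have hxH : x ∈ H := classicalSE_normalizer_le hse hQH hQd hxN'
    have hmax : (P : Subgroup G).subgroupOf H = (P0 : Subgroup H) := by
      refine P0.is_maximal' (P.isPGroup'.comap_of_injective _ H.subtype_injective) ?_
      intro y hy
      exact Subgroup.mem_subgroupOf.mpr (hQP ⟨y, hy, rfl⟩)
    rw [Subgroup.mem_subgroupOf]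
    exact ⟨⟨x, hxH⟩, hmax ▸ Subgroup.mem_subgroupOf.mpr hxP, rfl⟩

/-- If `N` is normal of order divisible by `p`, then `G = H · O^p(N)`. -/
theorem classicalSE_sup_residual_eq_top
    (hse : ∀ g : G, g ∉ H → ¬ p ∣ Nat.card ↥(H ⊓ H.map (MulAut.conj g).toMonoidHom))
    (hpH : p ∣ Nat.card H) (N : Subgroup G) [N.Normal] (hN : p ∣ Nat.card N) :
    H ⊔ Subgroup.closure {g : G | g ∈ N ∧ (orderOf g).Coprime p} = ⊤ := by
  obtain ⟨P, hP⟩ := classicalSE_exists_sylow_le hse hpH
  obtain ⟨R0⟩ := (inferInstance : Nonempty (Sylow p N))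
  -- a Sylow subgroup of `N` inside `P`
  obtain ⟨R1, hR1⟩ := (R0.isPGroup'.map N.subtype).exists_le_sylow
  obtain ⟨c, hc⟩ := MulAction.exists_smul_eq G R1 P
  set R := ((R0 : Subgroup N).map N.subtype).map (MulAut.conj c).toMonoidHom with hR
  have hRP : R ≤ P := by
    rw [← hc, Sylow.coe_subgroup_smul]
    exact Subgroup.map_mono hR1
  have hRN : R ≤ N := by
    rintro _ ⟨_, ⟨n, -, rfl⟩, rfl⟩
    exact (inferInstance : N.Normal).conj_mem _ n.2 c
  have hcardR : Nat.card R = p ^ (Nat.card N).factorization p := by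
    rw [hR, Subgroup.card_map_of_injective (MulAut.conj c).injective, Subgroup.card_subtype,
      R0.card_eq_multiplicity]
  let R' : Sylow p N := Sylow.ofCard (R.subgroupOf N) (by
    rw [Nat.card_congr (Subgroup.subgroupOfEquivOfLe hRN).toEquiv, hcardR])
  have hpR : p ∣ Nat.card R := by
    rw [hcardR]
    exact dvd_pow_self p (Nat.pos_iff_ne_zero.mp ((Fact.out : p.Prime).factorization_pos_of_dvd
      Nat.card_pos.ne' hN))
  have hNR : Subgroup.normalizer (R : Set G) ≤ H :=
    classicalSE_normalizer_le hse (hRP.trans hP) hpR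
  have hfr : Subgroup.normalizer (R : Set G) ⊔ N = ⊤ := by
    have := Sylow.normalizer_sup_eq_top (N := N) R'
    have hmap : (R' : Subgroup N).map N.subtype = R := by
      rw [Sylow.coe_ofCard, Subgroup.map_subgroupOf_eq_of_le hRN]
    rwa [hmap] at this
  set O := Subgroup.closure {g : G | g ∈ N ∧ (orderOf g).Coprime p} with hO
  have hON : O ≤ N := (Subgroup.closure_le _).mpr fun g hg => hg.1
  have hNO : N ≤ H ⊔ O := by
    refine le_trans ?_ (sup_le (le_trans (hRP.trans hP) le_sup_left) (le_sup_right (a := H)) :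
      R ⊔ O ≤ H ⊔ O)
    refine (Subgroup.eq_of_le_of_card_ge (sup_le hRN hON) (Nat.le_of_dvd Nat.card_pos ?_)).ge
    rw [Nat.dvd_iff_prime_pow_dvd_dvd]
    intro q k hq hqk
    haveI : Fact q.Prime := ⟨hq⟩
    by_cases hqp : q = p
    · subst hqp
      have h1 : q ^ k ∣ Nat.card R := by
        rw [hcardR]
        exact pow_dvd_pow q ((hq.pow_dvd_iff_le_factorization Nat.card_pos.ne').mp hqk)
      exact h1.trans (Subgroup.card_dvd_of_le le_sup_left)
    · obtain ⟨Q, hQ⟩ := Sylow.exists_subgroup_card_pow_prime q hqk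
      have hQO : Q.map N.subtype ≤ O := by
        rintro _ ⟨x, hx, rfl⟩
        refine Subgroup.subset_closure ⟨x.2, ?_⟩
        have h1 : orderOf x ∣ q ^ k := hQ ▸ Subgroup.orderOf_dvd_natCard Q hx
        change (orderOf (N.subtype x)).Coprime p
        rw [orderOf_injective N.subtype N.subtype_injective]
        exact Nat.Coprime.coprime_dvd_left h1
          (Nat.Coprime.pow_left k ((Nat.coprime_primes hq Fact.out).mpr hqp))
      have h1 := Subgroup.card_dvd_of_le (hQO.trans (le_sup_right (a := R)))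
      rwa [Subgroup.card_subtype, hQ] at h1
  rw [eq_top_iff, ← hfr]
  exact sup_le (hNR.trans le_sup_left) hNO

end CfsgLib.LocEven
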