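import Cfsg.Agent.Lib.LocEven.SubnormalSylow
import Cfsg.Agent.Lib.LocEven.Measure
import Cfsg.Agent.Lib.Subnormal.MinimalNormal
import Cfsg.Agent.Lib.Solvable.Core
import Mathlib.GroupTheory.Transfer

/-!
Sylow subgroups of joins of subnormal subgroups, and the `O^p`-residual of such a join.
-/

set_option autoImplicit false

namespace CfsgLib.LocEven

universe u

variable {G : Type u} [Group G] {p : ℕ}

/-- `O^p(A)` inside the ambient group: generated by the elements of `A` of order prime to `p`. -/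
def resOf (p : ℕ) (A : Subgroup G) : Subgroup G :=
  Subgroup.closure {g : G | g ∈ A ∧ (orderOf g).Coprime p}

theorem resOf_le (A : Subgroup G) : resOf p A ≤ A :=
  (Subgroup.closure_le _).mpr fun _ h => h.1

theorem mem_resOf {A : Subgroup G} {g : G} (hg : g ∈ A) (h : (orderOf g).Coprime p) :
    g ∈ resOf p A :=
  Subgroup.subset_closure ⟨hg, h⟩

theorem le_normalizer_resOf {A : Subgroup G} {g : G} (hg : g ∈ Subgroup.normalizer (A : Set G)) :
    g ∈ Subgroup.normalizer ((resOf p A : Subgroup G) : Set G) := by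
  have key : ∀ h ∈ Subgroup.normalizer (A : Set G), ∀ x ∈ resOf p A, h * x * h⁻¹ ∈ resOf p A := by
    intro h hh x hx
    have h1 : (resOf p A).map (MulAut.conj h).toMonoidHom ≤ resOf p A := by
      rw [resOf, MonoidHom.map_closure]
      refine (Subgroup.closure_le _).mpr ?_
      rintro _ ⟨y, ⟨hyA, hyo⟩, rfl⟩
      refine mem_resOf ((Subgroup.mem_normalizer_iff.mp hh y).mp hyA) ?_
      rwa [orderOf_injective (MulAut.conj h).toMonoidHom (MulAut.conj h).injective]
    exact h1 ⟨x, hx, rfl⟩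
  rw [Subgroup.mem_normalizer_iff]
  intro x
  refine ⟨key g hg x, fun hx => ?_⟩
  simpa [mul_assoc] using key g⁻¹ (inv_mem hg) _ hx

/-- Every element whose `p`-power lies in a normal subgroup not meeting it... -/
theorem mem_of_pow_mem_of_coprime {X : Subgroup G} {g : G} {k : ℕ}
    (hk : g ^ k ∈ X) (h : (orderOf g).Coprime k) : g ∈ X := by
  obtain ⟨m, hm⟩ := exists_pow_eq_self_of_coprime h.symm
  rw [← hm]
  exact pow_mem hk m

variable [Finite G] [Fact p.Prime]

/-- `A = O^p(A) U` whenever `U ≤ A` has index prime to `p`. -/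
theorem resOf_sup_eq {A U : Subgroup G} (hU : U ≤ A) (h : ¬ p ∣ U.relIndex A) :
    resOf p A ⊔ U = A := by
  refine Subgroup.eq_of_le_of_card_ge (sup_le (resOf_le A) hU) (Nat.le_of_dvd Nat.card_pos ?_)
  rw [Nat.dvd_iff_prime_pow_dvd_dvd]
  intro q k hq hqk
  haveI : Fact q.Prime := ⟨hq⟩
  by_cases hqp : q = p
  · subst hqp
    have hc := card_mul_relIndex' hU
    rw [← hc] at hqk
    exact ((Nat.Coprime.pow_left k (hq.coprime_iff_not_dvd.mpr h)).dvd_of_dvd_mul_right hqk).trans
      (Subgroup.card_dvd_of_le le_sup_right)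
  · obtain ⟨Q, hQ⟩ := Sylow.exists_subgroup_card_pow_prime q hqk
    have hQO : Q.map A.subtype ≤ resOf p A := by
      rintro _ ⟨x, hx, rfl⟩
      refine mem_resOf x.2 ?_
      have h1 : orderOf x ∣ q ^ k := hQ ▸ Subgroup.orderOf_dvd_natCard Q hx
      rw [orderOf_injective A.subtype A.subtype_injective]
      exact Nat.Coprime.coprime_dvd_left h1
        (Nat.Coprime.pow_left k ((Nat.coprime_primes hq Fact.out).mpr hqp))
    have h1 := Subgroup.card_dvd_of_le (hQO.trans (le_sup_left (b := U)))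
    rwa [Subgroup.card_subtype, hQ] at h1

theorem resOf_sup_inf_sylow (S : Sylow p G) {A : Subgroup G} (hA : A.IsSubnormal) :
    resOf p A ⊔ (A ⊓ (S : Subgroup G)) = A := by
  refine resOf_sup_eq inf_le_left ?_
  rw [inf_comm, Subgroup.inf_relIndex_right]
  exact not_dvd_relIndex_of_subnormal S hA

theorem isSubnormal_resOf {A : Subgroup G} (hA : A.IsSubnormal) : (resOf p A).IsSubnormal := by
  refine Subgroup.IsSubnormal.step _ A (resOf_le A) hA ?_
  refine Subgroup.normal_subgroupOf_of_le_normalizer fun a ha => ?_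
  exact le_normalizer_resOf (Subgroup.le_normalizer ha)

theorem map_resOf {H : Type u} [Group H] [Finite H] {f : G →* H} (hf : Function.Surjective f)
    (A : Subgroup G) : (resOf p A).map f = resOf p (A.map f) := by
  apply le_antisymm
  · rw [resOf, MonoidHom.map_closure]
    refine (Subgroup.closure_le _).mpr ?_
    rintro _ ⟨y, ⟨hyA, hyo⟩, rfl⟩
    exact mem_resOf ⟨y, hyA, rfl⟩ (hyo.coprime_dvd_left (orderOf_map_dvd f y))
  · refine (Subgroup.closure_le _).mpr ?_
    rintro y ⟨⟨x, hx, rfl⟩, hyo⟩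
    have hpr : p.Prime := Fact.out
    obtain ⟨k, m, hm, hmk⟩ := Nat.exists_eq_pow_mul_and_not_dvd (orderOf_pos x).ne' p hpr.ne_one
    have hxk : x ^ p ^ k ∈ resOf p A := by
      refine mem_resOf (pow_mem hx _) ?_
      rw [orderOf_pow' _ (pow_ne_zero _ hpr.ne_zero), hmk]
      rw [Nat.gcd_eq_right (Dvd.intro m rfl), Nat.mul_div_cancel_left _ (pow_pos hpr.pos _)]
      exact (hpr.coprime_iff_not_dvd.mpr hm).symm
    refine mem_of_pow_mem_of_coprime (k := p ^ k) ?_ (hyo.pow_right k)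
    exact ⟨_, hxk, map_pow f x _⟩

/-- If `RL` is normal and `RL/R` is a `p`-group, then `R = O^p`-generated `R` is normal. -/
theorem normal_of_res_generated {R L : Subgroup G} (hgen : R ≤ resOf p R) (hn : (R ⊔ L).Normal)
    (hnorm : L ≤ Subgroup.normalizer (R : Set G)) {P : Subgroup G} (hP : IsPGroup p P) (hPL : P ≤ L)
    (hLP : L ≤ R ⊔ P) : R.Normal := by
  constructor
  intro x hx g
  have hcl : ∀ y ∈ resOf p R, g * y * g⁻¹ ∈ R := by
    have h1 : (resOf p R).map (MulAut.conj g).toMonoidHom ≤ R := by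
      rw [resOf, MonoidHom.map_closure]
      refine (Subgroup.closure_le _).mpr ?_
      rintro _ ⟨y, ⟨hyR, hyo⟩, rfl⟩
      show g * y * g⁻¹ ∈ R
      have hz : g * y * g⁻¹ ∈ R ⊔ L := hn.conj_mem y ((le_sup_left : R ≤ R ⊔ L) hyR) g
      have hz' : g * y * g⁻¹ ∈ R ⊔ P := sup_le le_sup_left hLP hz
      obtain ⟨r, hr, u, hu, heq⟩ := (CfsgLib.Solvable.mem_sup_of_le_normalizer (hPL.trans hnorm)).mp hz'
      obtain ⟨m, hm⟩ := hP ⟨u, hu⟩
      have hu' : u ^ p ^ m = 1 := congrArg Subtype.val hm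
      have hpow : ∀ n : ℕ, (g * y * g⁻¹) ^ n * (u ^ n)⁻¹ ∈ R := by
        intro n
        induction n with
        | zero => simp
        | succ n ih =>
          have hun : u ^ n ∈ Subgroup.normalizer (R : Set G) := pow_mem (hnorm (hPL hu)) n
          have h2 : u ^ n * r * (u ^ n)⁻¹ ∈ R := (Subgroup.mem_normalizer_iff.mp hun r).mp hr
          have := mul_mem ih h2
          rw [pow_succ, pow_succ, ← heq]
          rw [← heq] at this
          simpa [mul_assoc] using this
      have h3 := hpow (p ^ m)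
      rw [hu', inv_one, mul_one] at h3
      refine mem_of_pow_mem_of_coprime h3 ?_
      rw [show g * y * g⁻¹ = (MulAut.conj g).toMonoidHom y from rfl,
        orderOf_injective _ (MulAut.conj g).injective]
      exact hyo.pow_right m
    exact fun y hy => h1 ⟨y, hy, rfl⟩
  exact hcl x (hgen hx)

private theorem sylow_inf_sup_of_normal (S : Sylow p G) {L L₁ L₂ : Subgroup G}
    (hL₁ : L₁.IsSubnormal) (hL₂ : L₂.IsSubnormal) (hL : L.IsSubnormal)
    (hn : L₂ ≤ Subgroup.normalizer (L₁ : Set G)) (hsup : L₁ ⊔ L₂ = L) :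
    (S : Subgroup G) ⊓ L ≤ (L₁ ⊓ (S : Subgroup G)) ⊔ (L₂ ⊓ (S : Subgroup G)) := by
  have hpr : p.Prime := Fact.out
  have hdec : ∀ X : Subgroup G, X.IsSubnormal →
      ∃ m : ℕ, ¬ p ∣ m ∧ Nat.card X = Nat.card ↥(X ⊓ (S : Subgroup G)) * m := by
    intro X hX
    refine ⟨((X ⊓ (S : Subgroup G))).relIndex X, ?_, (card_mul_relIndex' inf_le_left).symm⟩
    rw [inf_comm, Subgroup.inf_relIndex_right]
    exact not_dvd_relIndex_of_subnormal S hX
  obtain ⟨m₁, hm₁, e₁⟩ := hdec L₁ hL₁
  obtain ⟨m₂, hm₂, e₂⟩ := hdec L₂ hL₂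
  obtain ⟨m, -, e⟩ := hdec L hL
  obtain ⟨m₃, -, e₃⟩ := hdec (L₁ ⊓ L₂) (hL₁.inf hL₂)
  have hprod : Nat.card L * Nat.card ↥(L₁ ⊓ L₂) = Nat.card L₁ * Nat.card L₂ := by
    have h1 := card_mul_relIndex' (le_sup_left : L₁ ≤ L₁ ⊔ L₂)
    rw [CfsgLib.Solvable.relIndex_sup_of_le_normalizer hn, hsup] at h1
    have h2 := card_mul_relIndex' (inf_le_right : L₁ ⊓ L₂ ≤ L₂)
    rw [Subgroup.inf_relIndex_right] at h2
    rw [← h1, ← h2]
    ring
  set U₁ := L₁ ⊓ (S : Subgroup G) with hU₁
  set U₂ := L₂ ⊓ (S : Subgroup G) with hU₂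
  have hdvd : Nat.card ↥(L ⊓ (S : Subgroup G)) * Nat.card ↥((L₁ ⊓ L₂) ⊓ (S : Subgroup G)) ∣
      Nat.card U₁ * Nat.card U₂ := by
    have hpow : ∀ X : Subgroup G, ∃ n, Nat.card ↥(X ⊓ (S : Subgroup G)) = p ^ n := fun X =>
      (S.isPGroup'.to_le inf_le_right).exists_card_eq
    obtain ⟨a, ha⟩ := hpow L
    obtain ⟨b, hb⟩ := hpow (L₁ ⊓ L₂)
    have hco : (p ^ (a + b)).Coprime (m₁ * m₂) :=
      Nat.Coprime.pow_left _ (hpr.coprime_iff_not_dvd.mpr (fun h => (hpr.dvd_mul.mp h).elim hm₁ hm₂))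
    have hd : p ^ (a + b) ∣ (Nat.card U₁ * Nat.card U₂) * (m₁ * m₂) := by
      refine Dvd.intro (m * m₃) ?_
      calc p ^ (a + b) * (m * m₃) = Nat.card L * Nat.card ↥(L₁ ⊓ L₂) := by
            rw [e, e₃, ha, hb, pow_add]; ring
        _ = _ := by rw [hprod, e₁, e₂, hU₁, hU₂]; ring
    rw [ha, hb, ← pow_add]
    exact hco.dvd_of_dvd_mul_right hd
  have hle : U₁ ⊔ U₂ ≤ L ⊓ (S : Subgroup G) :=
    sup_le (inf_le_inf_right _ (hsup ▸ le_sup_left)) (inf_le_inf_right _ (hsup ▸ le_sup_right))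
  have h4 := card_mul_card_le_card_inf_mul_sup U₁ U₂
  have h5 : U₁ ⊓ U₂ = (L₁ ⊓ L₂) ⊓ (S : Subgroup G) := by
    rw [hU₁, hU₂, ← inf_inf_distrib_right]
  rw [h5] at h4
  have h6 : Nat.card ↥(L ⊓ (S : Subgroup G)) ≤ Nat.card ↥(U₁ ⊔ U₂) := by
    refine Nat.le_of_mul_le_mul_right ?_ (Nat.card_pos (α := ↥((L₁ ⊓ L₂) ⊓ (S : Subgroup G))))
    refine (Nat.le_of_dvd (Nat.mul_pos Nat.card_pos Nat.card_pos) hdvd).trans (h4.trans ?_)
    rw [mul_comm]
  rw [inf_comm]
  exact (Subgroup.eq_of_le_of_card_ge hle h6).ge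

theorem map_inf_sylow_eq {H : Type u} [Group H] [Finite H] {f : G →* H} (hf : Function.Surjective f)
    (S : Sylow p G) {A : Subgroup G} (hA : A.IsSubnormal) :
    (A ⊓ (S : Subgroup G)).map f = A.map f ⊓ (S : Subgroup G).map f := by
  have hpr : p.Prime := Fact.out
  have hmapcard : ∀ X : Subgroup G,
      Nat.card X = Nat.card (X.map f) * Nat.card ↥(f.ker ⊓ X) := by
    intro X
    rw [← Subgroup.relIndex_ker, ← card_mul_relIndex' (inf_le_right : f.ker ⊓ X ≤ X),
      Subgroup.inf_relIndex_right, mul_comm]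
  set U := A ⊓ (S : Subgroup G) with hU
  set X := A.map f ⊓ (S : Subgroup G).map f with hX
  have hle : U.map f ≤ X := le_inf (Subgroup.map_mono inf_le_left) (Subgroup.map_mono inf_le_right)
  refine Subgroup.eq_of_le_of_card_ge hle ?_
  obtain ⟨n, hn⟩ := ((S.isPGroup'.map f).to_le (inf_le_right : X ≤ _)).exists_card_eq
  have hm : ¬ p ∣ U.relIndex A := by
    rw [hU, inf_comm, Subgroup.inf_relIndex_right]
    exact not_dvd_relIndex_of_subnormal S hA
  have h3 := card_mul_relIndex' (inf_le_left : X ≤ A.map f)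
  have h4 := card_mul_relIndex' (inf_le_inf_left f.ker inf_le_left : f.ker ⊓ U ≤ f.ker ⊓ A)
  have h5 := card_mul_relIndex' (inf_le_left : U ≤ A)
  rw [hmapcard A, hmapcard U, ← h3, ← h4] at h5
  have hd : p ^ n ∣ Nat.card (U.map f) * U.relIndex A := by
    refine Dvd.intro (X.relIndex (A.map f) * (f.ker ⊓ U).relIndex (f.ker ⊓ A)) ?_
    refine Nat.eq_of_mul_eq_mul_right (Nat.card_pos (α := ↥(f.ker ⊓ U))) ?_
    calc p ^ n * (X.relIndex (A.map f) * (f.ker ⊓ U).relIndex (f.ker ⊓ A)) * Nat.card ↥(f.ker ⊓ U)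
        = Nat.card X * X.relIndex (A.map f) *
            (Nat.card ↥(f.ker ⊓ U) * (f.ker ⊓ U).relIndex (f.ker ⊓ A)) := by rw [hn]; ring
      _ = Nat.card (U.map f) * Nat.card ↥(f.ker ⊓ U) * U.relIndex A := h5.symm
      _ = _ := by ring
  rw [hn]
  exact Nat.le_of_dvd Nat.card_pos
    ((Nat.Coprime.pow_left n (hpr.coprime_iff_not_dvd.mpr hm)).dvd_of_dvd_mul_right hd)

/-- Lifting the factorisation of a Sylow subgroup modulo a normal subgroup `L`. -/
theorem sylow_le_of_kernel_le (S : Sylow p G) {L : Subgroup G} [L.Normal] {A₁ A₂ : Subgroup G}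
    (hqs : Function.Surjective (QuotientGroup.mk' L)) (h₁ : A₁.IsSubnormal) (h₂ : A₂.IsSubnormal)
    (hq2 : ∀ T : Sylow p (G ⧸ L), (T : Subgroup (G ⧸ L)) ≤
      (A₁.map (QuotientGroup.mk' L) ⊓ (T : Subgroup (G ⧸ L))) ⊔
        (A₂.map (QuotientGroup.mk' L) ⊓ (T : Subgroup (G ⧸ L))))
    (hker : (S : Subgroup G) ⊓ L ≤ (A₁ ⊓ (S : Subgroup G)) ⊔ (A₂ ⊓ (S : Subgroup G))) :
    (S : Subgroup G) ≤ (A₁ ⊓ (S : Subgroup G)) ⊔ (A₂ ⊓ (S : Subgroup G)) := by
  intro s hs
  obtain ⟨t, ht, hts⟩ : QuotientGroup.mk' L s ∈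
      ((A₁ ⊓ (S : Subgroup G)) ⊔ (A₂ ⊓ (S : Subgroup G))).map (QuotientGroup.mk' L) := by
    rw [Subgroup.map_sup, map_inf_sylow_eq hqs S h₁, map_inf_sylow_eq hqs S h₂]
    exact hq2 (S.mapSurjective hqs) ⟨s, hs, rfl⟩
  have htS : t ∈ (S : Subgroup G) :=
    (sup_le inf_le_right inf_le_right : (A₁ ⊓ (S : Subgroup G)) ⊔ (A₂ ⊓ (S : Subgroup G)) ≤ S) ht
  have hd : t⁻¹ * s ∈ (S : Subgroup G) ⊓ L :=
    Subgroup.mem_inf.mpr ⟨mul_mem (inv_mem htS) hs, (QuotientGroup.eq).mp hts⟩
  simpa using mul_mem ht (hker hd)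

private def MainStmt (p : ℕ) (G : Type u) [Group G] : Prop :=
  ∀ A₁ A₂ : Subgroup G, A₁.IsSubnormal → A₂.IsSubnormal → A₁ ⊔ A₂ = ⊤ →
    (resOf p A₁ ⊔ resOf p A₂).Normal ∧
    ∀ S : Sylow p G, (S : Subgroup G) ≤ (A₁ ⊓ (S : Subgroup G)) ⊔ (A₂ ⊓ (S : Subgroup G))

private theorem inf_le_of_main {A₁ A₂ : Subgroup G} (h₁ : A₁.IsSubnormal) (h₂ : A₂.IsSubnormal)
    (ih : MainStmt p ↥(A₁ ⊔ A₂)) (S : Sylow p G) :
    (A₁ ⊔ A₂) ⊓ (S : Subgroup G) ≤ (A₁ ⊓ (S : Subgroup G)) ⊔ (A₂ ⊓ (S : Subgroup G)) := by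
  set J := A₁ ⊔ A₂ with hJ
  have hp : IsPGroup p ((S : Subgroup G).subgroupOf J) :=
    S.isPGroup'.comap_of_injective _ J.subtype_injective
  obtain ⟨SJ, hSJ⟩ := hp.exists_le_sylow
  have htop : A₁.subgroupOf J ⊔ A₂.subgroupOf J = ⊤ := by
    apply Subgroup.map_injective J.subtype_injective
    rw [Subgroup.map_sup, Subgroup.map_subgroupOf_eq_of_le le_sup_left,
      Subgroup.map_subgroupOf_eq_of_le le_sup_right, ← MonoidHom.range_eq_map, Subgroup.range_subtype]
  have hmain := Subgroup.map_mono (f := J.subtype) ((ih _ _ h₁.subgroupOf h₂.subgroupOf htop).2 SJ)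
  have hA : ∀ A : Subgroup G, A.IsSubnormal → A ≤ J →
      (A.subgroupOf J ⊓ (SJ : Subgroup J)).map J.subtype ≤ A ⊓ (S : Subgroup G) := by
    intro A hA hAJ
    set U := (A.subgroupOf J ⊓ (SJ : Subgroup J)).map J.subtype with hU
    have hUA : U ≤ A := by
      rw [hU]
      refine (Subgroup.map_mono inf_le_left).trans ?_
      rw [Subgroup.map_subgroupOf_eq_of_le hAJ]
    have hle : (S : Subgroup G) ⊓ A ≤ U := by
      intro x hx
      obtain ⟨hxS, hxA⟩ := Subgroup.mem_inf.mp hx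
      exact ⟨⟨x, hAJ hxA⟩, ⟨hxA, hSJ (Subgroup.mem_subgroupOf.mpr hxS)⟩, rfl⟩
    rw [inf_comm A]
    exact (eq_of_isPGroup_of_subnormal S hA hle hUA ((SJ.isPGroup'.to_le inf_le_right).map _)).ge
  intro x hx
  obtain ⟨hxJ, hxS⟩ := Subgroup.mem_inf.mp hx
  have hxm : x ∈ ((A₁.subgroupOf J ⊓ (SJ : Subgroup J)) ⊔ (A₂.subgroupOf J ⊓ (SJ : Subgroup J))).map
      J.subtype := hmain ⟨⟨x, hxJ⟩, hSJ (Subgroup.mem_subgroupOf.mpr hxS), rfl⟩
  rw [Subgroup.map_sup] at hxm
  exact sup_le_sup (hA A₁ h₁ le_sup_left) (hA A₂ h₂ le_sup_right) hxm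

/-- a central `p'`-factor: conjugation by a `p`-element of `A₁` fixes `R`. -/
private theorem commutator_mem_of_central {R L A₁ : Subgroup G} (hA₁ : A₁.IsSubnormal)
    (hKn : (R ⊔ L).Normal) (hL : L ≤ Subgroup.center G) (hcop : ¬ p ∣ Nat.card L)
    (hres : resOf p A₁ ≤ R) {a : G} (ha : a ∈ A₁) {m : ℕ} (hm : a ^ p ^ m = 1) :
    ∀ x ∈ R ⊔ L, a * x * a⁻¹ * x⁻¹ ∈ R := by
  have hpr : p.Prime := Fact.out
  have hnorm : L ≤ Subgroup.normalizer (R : Set G) :=
    hL.trans ((Subgroup.center_le_centralizer _).trans (Subgroup.centralizer_le_normalizer _))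
  -- an element of `R L` with a `p`-power inside `R` lies in `R`
  have hq : ∀ x ∈ R ⊔ L, ∀ k : ℕ, x ^ p ^ k ∈ R → x ∈ R := by
    intro x hx k hk
    obtain ⟨r, hr, l, hl, rfl⟩ := (CfsgLib.Solvable.mem_sup_of_le_normalizer hnorm).mp hx
    have hcomm : Commute r l := Subgroup.mem_center_iff.mp (hL hl) r
    rw [hcomm.mul_pow] at hk
    have hlk : l ^ p ^ k ∈ R := by simpa using mul_mem (inv_mem (pow_mem hr (p ^ k))) hk
    have hco : (orderOf l).Coprime (p ^ k) :=
      ((hpr.coprime_iff_not_dvd.mpr hcop).coprime_dvd_right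
        (Subgroup.orderOf_dvd_natCard L hl)).symm.pow_right k
    exact mul_mem hr (mem_of_pow_mem_of_coprime hlk hco)
  have hbase : ∀ x ∈ R ⊔ L, x ∈ A₁ → a * x * a⁻¹ * x⁻¹ ∈ R := by
    intro x hx hxA
    have hy : a * x * a⁻¹ * x⁻¹ ∈ R ⊔ L := mul_mem (hKn.conj_mem x hx a) (inv_mem hx)
    have hyA : a * x * a⁻¹ * x⁻¹ ∈ A₁ := mul_mem (mul_mem (mul_mem ha hxA) (inv_mem ha)) (inv_mem hxA)
    obtain ⟨P⟩ : Nonempty (Sylow p G) := inferInstance
    haveI hnR : ((resOf p A₁).subgroupOf A₁).Normal :=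
      Subgroup.normal_subgroupOf_of_le_normalizer fun b hb => le_normalizer_resOf (Subgroup.le_normalizer hb)
    set W := A₁ ⊓ (P : Subgroup G) with hW
    have hWn : W ≤ Subgroup.normalizer ((resOf p A₁ : Subgroup G) : Set G) :=
      fun w hw => le_normalizer_resOf (Subgroup.le_normalizer (Subgroup.mem_inf.mp hw).1)
    have hcard : ∃ k, (resOf p A₁).relIndex A₁ = p ^ k := by
      have h1 := CfsgLib.Solvable.relIndex_sup_of_le_normalizer hWn
      rw [hW, resOf_sup_inf_sylow P hA₁] at h1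
      obtain ⟨n, hn⟩ := (P.isPGroup'.to_le (inf_le_right : W ≤ P)).exists_card_eq
      obtain ⟨k, -, hk⟩ := (Nat.dvd_prime_pow hpr).mp
        (hn ▸ (Subgroup.relIndex_dvd_card (H := resOf p A₁) (K := W)))
      exact ⟨k, h1.trans hk⟩
    obtain ⟨k, hk⟩ := hcard
    refine hq _ hy k ?_
    have hmem := ((resOf p A₁).subgroupOf A₁).pow_index_mem ⟨_, hyA⟩
    rw [show ((resOf p A₁).subgroupOf A₁).index = p ^ k from hk] at hmem
    exact hres hmem
  suffices hsuff : ∀ H : Subgroup G, H.IsSubnormal → a ∈ H →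
      (∀ x ∈ R ⊔ L, x ∈ H → a * x * a⁻¹ * x⁻¹ ∈ R) → ∀ x ∈ R ⊔ L, a * x * a⁻¹ * x⁻¹ ∈ R from
    hsuff A₁ hA₁ ha hbase
  intro H hH
  induction hH with
  | top => exact fun _ h x hx => h x hx (Subgroup.mem_top x)
  | step H K hle _ hN ih =>
    intro haH h
    refine ih (hle haH) fun x hx hxK => ?_
    set y := a * x * a⁻¹ * x⁻¹ with hy
    have hyK : y ∈ R ⊔ L := mul_mem (hKn.conj_mem x hx a) (inv_mem hx)
    have hyH : y ∈ H := by
      have : x * a⁻¹ * x⁻¹ ∈ H := (Subgroup.normal_subgroupOf_iff hle).mp hN a⁻¹ x (inv_mem haH) hxK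
      simpa [hy, mul_assoc] using mul_mem haH this
    have hpowK : ∀ i : ℕ, a ^ i * y * (a ^ i)⁻¹ ∈ R ⊔ L ∧ a ^ i * y * (a ^ i)⁻¹ ∈ H := fun i =>
      ⟨hKn.conj_mem y hyK _, mul_mem (mul_mem (pow_mem haH i) hyH) (inv_mem (pow_mem haH i))⟩
    haveI hRn : (R.subgroupOf (R ⊔ L)).Normal :=
      Subgroup.normal_subgroupOf_of_le_normalizer (sup_le Subgroup.le_normalizer hnorm)
    let π := QuotientGroup.mk' (R.subgroupOf (R ⊔ L))
    have hstep : ∀ i : ℕ, π ⟨a ^ i * y * (a ^ i)⁻¹, (hpowK i).1⟩ = π ⟨y, hyK⟩ := by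
      intro i
      induction i with
      | zero => congr 1; apply Subtype.ext; simp
      | succ i ihi =>
        rw [← ihi]
        symm
        apply (QuotientGroup.eq).mpr
        rw [Subgroup.mem_subgroupOf]
        have hh := h _ (hpowK i).1 (hpowK i).2
        set z := a ^ i * y * (a ^ i)⁻¹ with hz
        have hconj : z⁻¹ * (a * z * a⁻¹ * z⁻¹) * z ∈ R := by
          have hzn : z ∈ Subgroup.normalizer (R : Set G) := sup_le Subgroup.le_normalizer hnorm (hpowK i).1
          exact (Subgroup.mem_normalizer_iff''.mp hzn _).mp hh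
        have e : ((⟨z, (hpowK i).1⟩⁻¹ * ⟨a ^ (i + 1) * y * (a ^ (i + 1))⁻¹, (hpowK (i + 1)).1⟩ :
            ↥(R ⊔ L)) : G) = z⁻¹ * (a * z * a⁻¹ * z⁻¹) * z := by
          simp only [Subgroup.coe_mul, InvMemClass.coe_inv, hz, pow_succ']
          group
        rw [e]
        exact hconj
    have hprod : ∀ n : ℕ, π ⟨a ^ n * x * (a ^ n)⁻¹, hKn.conj_mem x hx _⟩ = π ⟨y, hyK⟩ ^ n * π ⟨x, hx⟩ := by
      intro n
      induction n with
      | zero => simp
      | succ n ihn =>
        have e : (⟨a ^ (n + 1) * x * (a ^ (n + 1))⁻¹, hKn.conj_mem x hx _⟩ : ↥(R ⊔ L)) =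
            ⟨a ^ n * y * (a ^ n)⁻¹, (hpowK n).1⟩ * ⟨a ^ n * x * (a ^ n)⁻¹, hKn.conj_mem x hx _⟩ := by
          apply Subtype.ext
          simp only [Subgroup.coe_mul, hy, pow_succ]
          group
        rw [e, map_mul, hstep, ihn, pow_succ', mul_assoc]
    have hfin := hprod (p ^ m)
    have e : (⟨a ^ p ^ m * x * (a ^ p ^ m)⁻¹, hKn.conj_mem x hx _⟩ : ↥(R ⊔ L)) = ⟨x, hx⟩ :=
      Subtype.ext (by simp [hm])
    rw [e, eq_comm, mul_eq_right, ← map_pow] at hfin
    refine hq y hyK m ?_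
    exact Subgroup.mem_subgroupOf.mp ((QuotientGroup.eq_one_iff _).mp hfin)

private theorem main_aux (p : ℕ) [Fact p.Prime] :
    ∀ (n : ℕ) (G : Type u) [Group G] [Finite G], Nat.card G ≤ n → MainStmt p G := by
  intro n
  induction n with
  | zero =>
    intro G _ _ h
    exact absurd h (by have := Nat.card_pos (α := G); omega)
  | succ n ih =>
    intro G _ _ hn A₁ A₂ h₁ h₂ htop
    have hpr : p.Prime := Fact.out
    set R := resOf p A₁ ⊔ resOf p A₂ with hR
    have hgen : R ≤ resOf p R := by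
      refine sup_le ?_ ?_ <;> refine (Subgroup.closure_le _).mpr ?_ <;> rintro g ⟨hg, hgo⟩
      · exact mem_resOf ((le_sup_left : resOf p A₁ ≤ R) (mem_resOf hg hgo)) hgo
      · exact mem_resOf ((le_sup_right : resOf p A₂ ≤ R) (mem_resOf hg hgo)) hgo
    rcases subsingleton_or_nontrivial G with hsub | hnt
    · exact ⟨⟨fun x hx g => by rwa [Subsingleton.elim (g * x * g⁻¹) x]⟩,
        fun S x _ => by rw [Subsingleton.elim x 1]; exact one_mem _⟩
    obtain ⟨L, hLn, hL0, -, hLmin⟩ := CfsgLib.Solvable.exists_minimal_normal_le (⊤ : Subgroup G) top_ne_bot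
    haveI := hLn
    have hLnorm : ∀ {A : Subgroup G}, A.IsSubnormal → L ≤ Subgroup.normalizer (A : Set G) := fun hA =>
      CfsgLib.Subnormal.minimalNormal_le_normalizer L hLn hL0
        (fun B hB hB0 hBL => (hLmin B hB hBL).resolve_left hB0) hA
    have hcardq : Nat.card (G ⧸ L) ≤ n := by
      have h := Subgroup.card_eq_card_quotient_mul_card_subgroup L
      have h2 : 2 ≤ Nat.card L := by
        by_contra hlt
        exact hL0 (Subgroup.eq_bot_of_card_eq L (by have := Nat.card_pos (α := L); omega))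
      have h3 : Nat.card (G ⧸ L) * 2 ≤ n + 1 := (Nat.mul_le_mul_left _ h2).trans (h ▸ hn)
      have := Nat.card_pos (α := G ⧸ L)
      omega
    let q := QuotientGroup.mk' L
    have hqs : Function.Surjective q := QuotientGroup.mk'_surjective L
    have hqtop : A₁.map q ⊔ A₂.map q = ⊤ := by
      rw [← Subgroup.map_sup, htop, Subgroup.map_top_of_surjective q hqs]
    obtain ⟨hq1, hq2⟩ := ih (G ⧸ L) hcardq _ _ (h₁.map hqs) (h₂.map hqs) hqtop
    rw [← map_resOf hqs, ← map_resOf hqs, ← Subgroup.map_sup, ← hR] at hq1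
    have hRL : (R ⊔ L).Normal := by
      have : (R.map q).comap q = R ⊔ L := by rw [Subgroup.comap_map_eq, QuotientGroup.ker_mk']
      exact this ▸ hq1.comap q
    have hLR : L ≤ Subgroup.normalizer (R : Set G) := by
      intro l hl
      rw [Subgroup.mem_normalizer_iff]
      have key : ∀ l ∈ L, ∀ x ∈ R, l * x * l⁻¹ ∈ R := by
        intro l hl x hx
        have h1 : R.map (MulAut.conj l).toMonoidHom ≤ R := by
          rw [hR, Subgroup.map_sup]
          refine sup_le_sup ?_ ?_ <;> rintro _ ⟨z, hz, rfl⟩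
          · exact (Subgroup.mem_normalizer_iff.mp (le_normalizer_resOf (hLnorm h₁ hl)) z).mp hz
          · exact (Subgroup.mem_normalizer_iff.mp (le_normalizer_resOf (hLnorm h₂ hl)) z).mp hz
        exact h1 ⟨x, hx, rfl⟩
      intro x
      exact ⟨key l hl x, fun hx => by simpa [mul_assoc] using key l⁻¹ (inv_mem hl) _ hx⟩
    -- `M = (L ∩ A₁)(L ∩ A₂)`
    set L₁ := L ⊓ A₁ with hL₁
    set L₂ := L ⊓ A₂ with hL₂
    have hLA : ∀ {A : Subgroup G}, A.IsSubnormal → ∀ a ∈ A, ∀ l ∈ L,
        a * l * a⁻¹ * l⁻¹ ∈ L ⊓ A := by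
      intro A hA a ha l hl
      refine Subgroup.mem_inf.mpr ⟨mul_mem (hLn.conj_mem l hl a) (inv_mem hl), ?_⟩
      have : l * a⁻¹ * l⁻¹ ∈ A := (Subgroup.mem_normalizer_iff.mp (hLnorm hA hl) _).mp (inv_mem ha)
      simpa [mul_assoc] using mul_mem ha this
    have hMn : (L₁ ⊔ L₂).Normal := by
      rw [← Subgroup.normalizer_eq_top_iff, eq_top_iff, ← htop]
      refine sup_le ?_ ?_ <;> intro a ha
      all_goals
        have key : ∀ a : G, (a ∈ A₁ ∨ a ∈ A₂) → ∀ x ∈ L₁ ⊔ L₂, a * x * a⁻¹ ∈ L₁ ⊔ L₂ := by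
          intro a ha x hx
          have h1 : (L₁ ⊔ L₂).map (MulAut.conj a).toMonoidHom ≤ L₁ ⊔ L₂ := by
            rw [Subgroup.map_sup]
            refine sup_le ?_ ?_ <;> rintro _ ⟨z, hz, rfl⟩
            · have hzL := (Subgroup.mem_inf.mp hz).1
              show a * z * a⁻¹ ∈ _
              have e : a * z * a⁻¹ = (a * z * a⁻¹ * z⁻¹) * z := by group
              rw [e]
              refine mul_mem ?_ ((le_sup_left : L₁ ≤ L₁ ⊔ L₂) hz)
              rcases ha with ha | ha
              · exact (le_sup_left : L₁ ≤ L₁ ⊔ L₂) (hLA h₁ a ha z hzL)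
              · exact (le_sup_right : L₂ ≤ L₁ ⊔ L₂) (hLA h₂ a ha z hzL)
            · have hzL := (Subgroup.mem_inf.mp hz).1
              show a * z * a⁻¹ ∈ _
              have e : a * z * a⁻¹ = (a * z * a⁻¹ * z⁻¹) * z := by group
              rw [e]
              refine mul_mem ?_ ((le_sup_right : L₂ ≤ L₁ ⊔ L₂) hz)
              rcases ha with ha | ha
              · exact (le_sup_left : L₁ ≤ L₁ ⊔ L₂) (hLA h₁ a ha z hzL)
              · exact (le_sup_right : L₂ ≤ L₁ ⊔ L₂) (hLA h₂ a ha z hzL)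
          exact h1 ⟨x, hx, rfl⟩
        rw [Subgroup.mem_normalizer_iff]
        intro x
        refine ⟨key a (by first | exact Or.inl ha | exact Or.inr ha) x, fun hx => ?_⟩
        have := key a⁻¹ (by first | exact Or.inl (inv_mem ha) | exact Or.inr (inv_mem ha)) _ hx
        simpa [mul_assoc] using this
    rcases hLmin _ hMn (sup_le inf_le_left inf_le_left) with hM | hM
    · -- `L` is central
      rw [sup_eq_bot_iff] at hM
      have hcomm : ∀ {A : Subgroup G}, A.IsSubnormal → L ⊓ A = ⊥ →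
          L ≤ Subgroup.centralizer (A : Set G) := by
        intro A hA hbot l hl a ha
        have := hLA hA a ha l hl
        rw [hbot, Subgroup.mem_bot] at this
        rwa [mul_inv_eq_one, mul_inv_eq_iff_eq_mul] at this
      have hLc : L ≤ Subgroup.center G := by
        rw [← Subgroup.centralizer_univ, ← Subgroup.coe_top, ← htop, centralizer_sup]
        exact le_inf (hcomm h₁ hM.1) (hcomm h₂ hM.2)
      by_cases hLp : p ∣ Nat.card L
      · -- `L` has order `p`
        obtain ⟨⟨l₀, hl₀⟩, hl₀o⟩ := exists_prime_orderOf_dvd_card' p hLp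
        have hLz : Subgroup.zpowers l₀ = L := by
          refine (hLmin _ ⟨fun x hx g => ?_⟩ ((Subgroup.zpowers_le).mpr hl₀)).resolve_left ?_
          · rw [Subgroup.mem_center_iff.mp (hLc ((Subgroup.zpowers_le).mpr hl₀ hx)) g, mul_inv_cancel_right]
            exact hx
          · intro h
            rw [Subgroup.zpowers_eq_bot] at h
            subst h
            exact hpr.ne_one (by simpa [← Subgroup.orderOf_coe] using hl₀o.symm)
        have hLcard : Nat.card L = p := by
          rw [← hLz, Nat.card_zpowers]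
          simpa [← Subgroup.orderOf_coe] using hl₀o
        have hLpg : IsPGroup p L := IsPGroup.of_card (n := 1) (by rw [hLcard, pow_one])
        have hRn : R.Normal := normal_of_res_generated hgen hRL hLR hLpg le_rfl le_sup_right
        refine ⟨hRn, fun S => ?_⟩
        haveI := hRn
        set T := (A₁ ⊓ (S : Subgroup G)) ⊔ (A₂ ⊓ (S : Subgroup G)) with hT
        have hLS : L ≤ S := hLpg.le_sylow_of_normal S
        have hTS : T ≤ S := sup_le inf_le_right inf_le_right
        have hRT : R ⊔ T = ⊤ := by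
          rw [eq_top_iff, ← htop]
          refine sup_le ?_ ?_
          · exact (resOf_sup_inf_sylow S h₁).ge.trans (sup_le_sup le_sup_left le_sup_left)
          · exact (resOf_sup_inf_sylow S h₂).ge.trans (sup_le_sup le_sup_right le_sup_right)
        by_cases hRtop : R = ⊤
        · -- transfer
          have hq' := hq2 (S.mapSurjective hqs)
          have hSTL : (S : Subgroup G) ≤ T ⊔ L := by
            intro s hs
            obtain ⟨t, ht, hts⟩ : q s ∈ T.map q := by
              rw [hT, Subgroup.map_sup, map_inf_sylow_eq hqs S h₁, map_inf_sylow_eq hqs S h₂]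
              exact hq' ⟨s, hs, rfl⟩
            have hd : t⁻¹ * s ∈ L := (QuotientGroup.eq).mp hts
            simpa using mul_mem ((le_sup_left : T ≤ T ⊔ L) ht) ((le_sup_right : L ≤ T ⊔ L) hd)
          intro s hs
          by_contra hsT
          have hlT : l₀ ∉ T := fun h => hsT ((sup_le le_rfl (hLz ▸ (Subgroup.zpowers_le).mpr h) : T ⊔ L ≤ T) (hSTL hs))
          haveI hTn : (T.subgroupOf S).Normal := by
            refine Subgroup.normal_subgroupOf_of_le_normalizer (hSTL.trans (sup_le Subgroup.le_normalizer ?_))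
            exact hLc.trans ((Subgroup.center_le_centralizer _).trans (Subgroup.centralizer_le_normalizer _))
          letI : CommGroup (↥(S : Subgroup G) ⧸ T.subgroupOf S) :=
            { (inferInstance : Group (↥(S : Subgroup G) ⧸ T.subgroupOf S)) with
              mul_comm := by
                intro u v
                obtain ⟨⟨x, hx⟩, rfl⟩ := QuotientGroup.mk'_surjective _ u
                obtain ⟨⟨y, hy⟩, rfl⟩ := QuotientGroup.mk'_surjective _ v
                have hLn' : L ≤ Subgroup.normalizer (T : Set G) :=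
                  hLc.trans ((Subgroup.center_le_centralizer _).trans (Subgroup.centralizer_le_normalizer _))
                obtain ⟨t₁, ht₁, l₁, hl₁, rfl⟩ := (CfsgLib.Solvable.mem_sup_of_le_normalizer hLn').mp (hSTL hx)
                obtain ⟨t₂, ht₂, l₂, hl₂, rfl⟩ := (CfsgLib.Solvable.mem_sup_of_le_normalizer hLn').mp (hSTL hy)
                rw [← map_mul, ← map_mul]
                refine (QuotientGroup.eq).mpr (Subgroup.mem_subgroupOf.mpr ?_)
                have c₁ : ∀ g : G, g * l₁ = l₁ * g := fun g => Subgroup.mem_center_iff.mp (hLc hl₁) g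
                have c₂ : ∀ g : G, g * l₂ = l₂ * g := fun g => Subgroup.mem_center_iff.mp (hLc hl₂) g
                show (t₁ * l₁ * (t₂ * l₂))⁻¹ * (t₂ * l₂ * (t₁ * l₁)) ∈ T
                have e1 : t₁ * l₁ * (t₂ * l₂) = t₁ * t₂ * (l₁ * l₂) := by
                  rw [mul_assoc t₁ l₁, ← mul_assoc l₁, ← c₁ t₂]; group
                have e2 : t₂ * l₂ * (t₁ * l₁) = t₂ * t₁ * (l₁ * l₂) := by
                  rw [mul_assoc t₂ l₂, ← mul_assoc l₂, ← c₂ t₁, c₂ l₁]; group
                have e3 : (t₁ * t₂ * (l₁ * l₂))⁻¹ * (t₂ * t₁ * (l₁ * l₂)) = (t₁ * t₂)⁻¹ * (t₂ * t₁) := by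
                  have c : ∀ g : G, g * (l₁ * l₂) = l₁ * l₂ * g :=
                    fun g => Subgroup.mem_center_iff.mp (hLc (mul_mem hl₁ hl₂)) g
                  rw [c (t₂ * t₁), c (t₁ * t₂)]; group
                rw [e1, e2, e3]
                exact mul_mem (inv_mem (mul_mem ht₁ ht₂)) (mul_mem ht₂ ht₁) }
          let φ : ↥(S : Subgroup G) →* ↥(S : Subgroup G) ⧸ T.subgroupOf S := QuotientGroup.mk' _
          let τ := MonoidHom.transfer φ
          have hτ : ∀ g, τ g = 1 := by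
            intro g
            have hker : R ≤ τ.ker := by
              refine hgen.trans ((Subgroup.closure_le _).mpr ?_)
              rintro y ⟨-, hyo⟩
              rw [SetLike.mem_coe, MonoidHom.mem_ker, ← orderOf_eq_one_iff]
              obtain ⟨k, hk⟩ := ((S.isPGroup').to_quotient (T.subgroupOf S)).exists_card_eq
              exact Nat.eq_one_of_dvd_coprimes (hyo.pow_right k) (orderOf_map_dvd τ y)
                (hk ▸ orderOf_dvd_natCard (τ y))
            exact MonoidHom.mem_ker.mp (hker (hRtop ▸ Subgroup.mem_top g))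
          have htr := MonoidHom.transfer_eq_pow φ l₀ (fun k g₀ _ => by
            have := Subgroup.mem_center_iff.mp (pow_mem (hLc hl₀) k) g₀⁻¹
            rw [this, mul_assoc, inv_mul_cancel, mul_one])
          rw [show MonoidHom.transfer φ l₀ = 1 from hτ l₀] at htr
          have hmem : l₀ ^ (S : Subgroup G).index ∈ T :=
            Subgroup.mem_subgroupOf.mp ((QuotientGroup.eq_one_iff _).mp htr.symm)
          refine hlT (mem_of_pow_mem_of_coprime hmem ?_)
          rw [show orderOf l₀ = p by simpa [← Subgroup.orderOf_coe] using hl₀o]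
          exact hpr.coprime_iff_not_dvd.mpr S.not_dvd_index
        · -- induction inside `R`
          have hcard : Nat.card ↥(resOf p A₁ ⊔ resOf p A₂) ≤ n := by
            have h1 := Subgroup.card_le_card_group R
            have h2 : Nat.card R ≠ Nat.card G := fun e => hRtop (Subgroup.eq_top_of_card_eq R e)
            rw [← hR]
            omega
          have hRS := inf_le_of_main (isSubnormal_resOf h₁) (isSubnormal_resOf h₂) (ih _ hcard) S
          rw [← hR] at hRS
          intro s hs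
          obtain ⟨r, hr, t, ht, rfl⟩ := (Subgroup.mem_sup_of_normal_left (s := R)).mp
            (hRT ▸ Subgroup.mem_top s)
          refine mul_mem ?_ ht
          have : r ∈ R ⊓ (S : Subgroup G) :=
            Subgroup.mem_inf.mpr ⟨hr, by simpa using mul_mem hs (inv_mem (hTS ht))⟩
          exact sup_le_sup (inf_le_inf_right _ (resOf_le A₁)) (inf_le_inf_right _ (resOf_le A₂)) (hRS this)
      · -- `L` is a central `p'`-group
        have hRn : R.Normal := by
          obtain ⟨P⟩ : Nonempty (Sylow p G) := inferInstance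
          rw [← Subgroup.normalizer_eq_top_iff, eq_top_iff, ← htop]
          have key : ∀ A : Subgroup G, A.IsSubnormal → resOf p A ≤ R →
              A ≤ Subgroup.normalizer (R : Set G) := by
            intro A hA hres
            rw [← resOf_sup_inf_sylow P hA]
            refine sup_le (hres.trans Subgroup.le_normalizer) fun a ha => ?_
            obtain ⟨haA, haP⟩ := Subgroup.mem_inf.mp ha
            obtain ⟨m, hm⟩ := P.isPGroup' ⟨a, haP⟩
            have hm' : a ^ p ^ m = 1 := congrArg Subtype.val hm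
            have h1 := commutator_mem_of_central hA hRL hLc hLp hres haA hm'
            have hmap : R.map (MulAut.conj a).toMonoidHom = R := by
              refine Subgroup.eq_of_le_of_card_ge ?_
                (Subgroup.card_map_of_injective (MulAut.conj a).injective).ge
              rintro _ ⟨x, hx, rfl⟩
              have := mul_mem (h1 x ((le_sup_left : R ≤ R ⊔ L) hx)) hx
              simpa [mul_assoc] using this
            rw [Subgroup.mem_normalizer_iff]
            intro x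
            conv_rhs => rw [← hmap]
            exact (Subgroup.mem_map_iff_mem (f := (MulAut.conj a).toMonoidHom) (MulAut.conj a).injective).symm
          exact sup_le (key A₁ h₁ le_sup_left) (key A₂ h₂ le_sup_right)
        refine ⟨hRn, fun S => ?_⟩
        refine sylow_le_of_kernel_le S hqs h₁ h₂ hq2 ?_
        intro x hx
        obtain ⟨hxS, hxL⟩ := Subgroup.mem_inf.mp hx
        obtain ⟨k, hk⟩ := S.isPGroup'.exists_card_eq
        have : x = 1 := orderOf_eq_one_iff.mp (Nat.eq_one_of_dvd_coprimes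
          ((hpr.coprime_iff_not_dvd.mpr hLp).pow_left k) (hk ▸ Subgroup.orderOf_dvd_natCard _ hxS)
          (Subgroup.orderOf_dvd_natCard L hxL))
        exact this ▸ one_mem _
    · -- `L = (L ∩ A₁)(L ∩ A₂)`
      have hsnL₁ : L₁.IsSubnormal := hLn.isSubnormal.inf h₁
      have hsnL₂ : L₂.IsSubnormal := hLn.isSubnormal.inf h₂
      have hn12 : L₂ ≤ Subgroup.normalizer (L₁ : Set G) :=
        (le_inf (inf_le_left.trans Subgroup.le_normalizer) (inf_le_left.trans (hLnorm h₁))).trans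
          Subgroup.inf_normalizer_le_normalizer_inf
      refine ⟨?_, fun S => ?_⟩
      · obtain ⟨S⟩ : Nonempty (Sylow p G) := inferInstance
        refine normal_of_res_generated hgen hRL hLR (P := L ⊓ (S : Subgroup G))
          (S.isPGroup'.to_le inf_le_right) inf_le_left ?_
        conv_lhs => rw [← hM]
        refine sup_le ?_ ?_
        · refine (resOf_sup_inf_sylow S hsnL₁).ge.trans (sup_le_sup ?_ (inf_le_inf_right _ inf_le_left))
          exact le_trans ((Subgroup.closure_le _).mpr fun g hg =>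
            mem_resOf (Subgroup.mem_inf.mp hg.1).2 hg.2) le_sup_left
        · refine (resOf_sup_inf_sylow S hsnL₂).ge.trans (sup_le_sup ?_ (inf_le_inf_right _ inf_le_left))
          exact le_trans ((Subgroup.closure_le _).mpr fun g hg =>
            mem_resOf (Subgroup.mem_inf.mp hg.1).2 hg.2) le_sup_right
      · exact sylow_le_of_kernel_le S hqs h₁ h₂ hq2
          ((sylow_inf_sup_of_normal S hsnL₁ hsnL₂ hLn.isSubnormal hn12 hM).trans
            (sup_le_sup (inf_le_inf_right _ inf_le_right) (inf_le_inf_right _ inf_le_right)))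

theorem sylow_inf_sup_subnormal (S : Sylow p G) {A₁ A₂ : Subgroup G} (h₁ : A₁.IsSubnormal)
    (h₂ : A₂.IsSubnormal) :
    (A₁ ⊔ A₂) ⊓ (S : Subgroup G) = (A₁ ⊓ (S : Subgroup G)) ⊔ (A₂ ⊓ (S : Subgroup G)) :=
  le_antisymm (inf_le_of_main h₁ h₂ (main_aux p _ _ le_rfl) S)
    (sup_le (inf_le_inf_right _ le_sup_left) (inf_le_inf_right _ le_sup_right))

theorem resOf_sup_normal_of_sup_eq_top {A₁ A₂ : Subgroup G} (h₁ : A₁.IsSubnormal)
    (h₂ : A₂.IsSubnormal) (h : A₁ ⊔ A₂ = ⊤) : (resOf p A₁ ⊔ resOf p A₂).Normal :=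
  (main_aux p _ G le_rfl A₁ A₂ h₁ h₂ h).1

end CfsgLib.LocEven
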