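import Cfsg.Prelude.Def_SylowChains
import Cfsg.Agent.Lib.Balance.AlperinTame
import Cfsg.Agent.Lib.LocEven.StronglyEmbedded
import Cfsg.Agent.Lib.LocEven.SubnormalSylow
import Cfsg.Agent.Lib.LocEven.SubnormalJoin
import Cfsg.Agent.Lib.Solvable.CoprimeGeneration

/-!
A strong form of the conjugation theorem: the family consists of the fully normalized subgroups
whose normalizer is not generated by the centralizer and the elements fusing inside bigger subgroups,
and the steps lie in the p-residual of the least normal subgroup of index divisible by p over the member.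
-/

set_option autoImplicit false

namespace CfsgLib.LocEven.StrongAlperin

open Subgroup CfsgLib.ConjFunctor
open scoped commutatorElement

section SE

variable {Q : Type*} [Group Q] [Finite Q] {p : ℕ} [Fact p.Prime] {H : Subgroup Q}

/-- Two normal subgroups of order divisible by p meet in such a subgroup. -/
theorem dvd_card_inf_of_classicalSE
    (hse : ∀ g : Q, g ∉ H → ¬ p ∣ Nat.card ↥(H ⊓ H.map (MulAut.conj g).toMonoidHom))
    (hH : H ≠ ⊤) (hpH : p ∣ Nat.card H) (X Y : Subgroup Q) [X.Normal] [Y.Normal]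
    (hX : p ∣ Nat.card X) (hY : p ∣ Nat.card Y) : p ∣ Nat.card ↥(X ⊓ Y) := by
  classical
  by_contra hD
  have hp : p.Prime := Fact.out
  obtain ⟨S, hS⟩ := classicalSE_exists_sylow_le hse hpH
  have hfind : ∀ W : Subgroup Q, W.Normal → p ∣ Nat.card W →
      ∃ r ∈ W, r ∈ (S : Subgroup Q) ∧ orderOf r = p := by
    intro W hWn hW
    obtain ⟨⟨x, hx⟩, hxo⟩ := exists_prime_orderOf_dvd_card' p hW
    have hxo' : orderOf x = p := by rw [← hxo, ← Subgroup.orderOf_coe]
    have hxp : IsPGroup p ↥(zpowers x) := IsPGroup.of_card (n := 1) (by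
      rw [Nat.card_zpowers, hxo', pow_one])
    obtain ⟨g, -, hg⟩ := (isSyl_top S).exists_cj_le hxp le_top
    exact ⟨g * x * g⁻¹, hWn.conj_mem x hx g, hg (conj_mem_cj (mem_zpowers x)),
      by rw [← hxo']; exact orderOf_injective (MulAut.conj g).toMonoidHom (MulAut.conj g).injective x⟩
  obtain ⟨a, haX, haS, hao⟩ := hfind X inferInstance hX
  obtain ⟨b, hbY, hbS, hbo⟩ := hfind Y inferInstance hY
  have hbot : ∀ z ∈ X ⊓ Y, z ∈ (S : Subgroup Q) → z = 1 := by
    intro z hz hzS
    obtain ⟨k, hk⟩ := IsPGroup.iff_orderOf.1 S.isPGroup' ⟨z, hzS⟩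
    rw [Subgroup.orderOf_mk] at hk
    rw [← orderOf_eq_one_iff, hk]
    by_contra hk1
    refine hD ((dvd_pow_self p (show k ≠ 0 from fun h0 => hk1 (by rw [h0, pow_zero]))).trans ?_)
    rw [← hk]
    exact Subgroup.orderOf_dvd_natCard _ hz
  have hcomm : Commute a b := by
    rw [← commutatorElement_eq_one_iff_commute]
    refine hbot _ ⟨?_, ?_⟩ ?_
    · rw [SetLike.mem_coe, commutatorElement_def, show a * b * a⁻¹ * b⁻¹ = a * (b * a⁻¹ * b⁻¹) by group]
      exact mul_mem haX ((inferInstance : X.Normal).conj_mem _ (inv_mem haX) b)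
    · rw [SetLike.mem_coe, commutatorElement_def]
      exact Y.mul_mem ((inferInstance : Y.Normal).conj_mem _ hbY a) (Y.inv_mem hbY)
    · rw [commutatorElement_def]
      exact mul_mem (mul_mem (mul_mem haS hbS) (inv_mem haS)) (inv_mem hbS)
  have hCe : ∀ e ∈ (S : Subgroup Q), e ≠ 1 → centralizer {e} ≤ H := by
    intro e he hne
    obtain ⟨k, hk⟩ := IsPGroup.iff_orderOf.1 S.isPGroup' ⟨e, he⟩
    rw [Subgroup.orderOf_mk] at hk
    have hk0 : k ≠ 0 := fun h0 => hne (orderOf_eq_one_iff.1 (by rw [hk, h0, pow_zero]))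
    refine le_trans ?_ (classicalSE_normalizer_le hse ((zpowers_le.2 (hS he)) : zpowers e ≤ H)
      (by rw [Nat.card_zpowers, hk]; exact dvd_pow_self p hk0))
    intro c hc
    refine centralizer_le_normalizer _ ?_
    rw [mem_centralizer_iff]
    intro z hz
    obtain ⟨i, rfl⟩ := mem_zpowers_iff.1 hz
    exact ((show Commute e c from mem_centralizer_iff.1 hc e rfl).zpow_left i)
  have hnorm : ∀ g : Q, g ∈ normalizer ((X ⊓ Y : Subgroup Q) : Set Q) := by
    intro g
    have : (X ⊓ Y).Normal := inferInstance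
    rw [normalizer_eq_top]
    exact mem_top g
  have hDH : X ⊓ Y ≤ H := by
    refine CfsgLib.Solvable.le_of_lines_centralizer_le (r := p) hcomm (hnorm a) (hnorm b) hD
      (by rw [← hao, pow_orderOf_eq_one]; exact one_mem _)
      (by rw [← hbo, pow_orderOf_eq_one]; exact one_mem _) (fun i => ?_) ?_
    · refine inf_le_right.trans (hCe _ (mul_mem haS (pow_mem hbS i)) fun h1 => ?_)
      have haY : a ∈ Y := by
        rw [mul_eq_one_iff_eq_inv] at h1
        rw [h1]
        exact inv_mem (pow_mem hbY i)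
      have := hbot a ⟨haX, haY⟩ haS
      rw [this, orderOf_one] at hao
      exact hp.ne_one hao.symm
    · refine inf_le_right.trans (hCe b hbS fun h1 => ?_)
      rw [h1, orderOf_one] at hbo
      exact hp.ne_one hbo.symm
  have hXH : X ≤ H := by
    intro x hx
    by_contra hxH
    refine hse x⁻¹ (fun h => hxH (by simpa using H.inv_mem h)) ?_
    have hb : b ∈ H ⊓ H.map (MulAut.conj x⁻¹).toMonoidHom := by
      refine ⟨hS hbS, x * b * x⁻¹, ?_, by simp [mul_assoc]⟩
      have hc : ⁅x, b⁆ ∈ X ⊓ Y := by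
        refine ⟨?_, ?_⟩
        · rw [SetLike.mem_coe, commutatorElement_def, show x * b * x⁻¹ * b⁻¹ = x * (b * x⁻¹ * b⁻¹) by group]
          exact mul_mem hx ((inferInstance : X.Normal).conj_mem _ (inv_mem hx) b)
        · rw [SetLike.mem_coe, commutatorElement_def]
          exact Y.mul_mem ((inferInstance : Y.Normal).conj_mem _ hbY x) (Y.inv_mem hbY)
      rw [show x * b * x⁻¹ = ⁅x, b⁆ * b by rw [commutatorElement_def]; group]
      exact mul_mem (hDH hc) (hS hbS)
    exact hbo ▸ Subgroup.orderOf_dvd_natCard _ hb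
  refine hH (le_antisymm le_top ?_)
  rw [← classicalSE_sup_residual_eq_top hse hpH X hX]
  exact sup_le le_rfl ((Subgroup.closure_le _).2 fun g hg => hXH hg.1)

/-- A proper subgroup of this kind separates the Sylow subgroups. -/
theorem not_connected_of_classicalSE
    (hse : ∀ g : Q, g ∉ H → ¬ p ∣ Nat.card ↥(H ⊓ H.map (MulAut.conj g).toMonoidHom))
    (hH : H ≠ ⊤) (hpH : p ∣ Nat.card H) : ¬ Cfsg.IsSylowChainConnected p Q := by
  intro hc
  obtain ⟨T, hT⟩ := classicalSE_exists_sylow_le hse hpH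
  refine hH (eq_top_iff.2 fun g _ => ?_)
  obtain ⟨n, c, h0, hn, -, hstep⟩ := hc T (g • T)
  have hall : ∀ i, (c i : Subgroup Q) ≤ H := by
    intro i
    induction i using Fin.induction with
    | zero => rw [h0]; exact hT
    | succ i ih =>
      obtain ⟨a, ha⟩ := MulAction.exists_smul_eq Q T (c i.succ)
      have haH : a ∈ H := by
        by_contra hna
        refine hse a hna ?_
        obtain ⟨⟨z, hz⟩, hz1'⟩ := Subgroup.ne_bot_iff_exists_ne_one.1 (hstep i).2
        have hz1 : z ≠ 1 := fun h => hz1' (Subtype.ext h)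
        obtain ⟨k, hk⟩ := IsPGroup.iff_orderOf.1 (c i.castSucc).isPGroup' ⟨z, hz.1⟩
        rw [Subgroup.orderOf_mk] at hk
        have hk0 : k ≠ 0 := fun h0 => hz1 (orderOf_eq_one_iff.1 (by rw [hk, h0, pow_zero]))
        have hzm : z ∈ H ⊓ H.map (MulAut.conj a).toMonoidHom := by
          refine ⟨ih hz.1, ?_⟩
          have h2 := hz.2
          rw [← ha, Sylow.coe_subgroup_smul] at h2
          exact Subgroup.map_mono hT h2
        exact (dvd_pow_self p hk0).trans (hk ▸ Subgroup.orderOf_dvd_natCard _ hzm)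
      rw [← ha, Sylow.coe_subgroup_smul]
      rintro _ ⟨t, ht, rfl⟩
      exact H.mul_mem (H.mul_mem haH (hT ht)) (H.inv_mem haH)
  have hgT : ((g • T : Sylow p Q) : Subgroup Q) ≤ H := hn ▸ hall _
  by_contra hgH
  refine hse g hgH (dvd_trans ?_ (Subgroup.card_dvd_of_le (le_inf hgT ?_)))
  · exact (g • T).dvd_card_of_dvd_card (hpH.trans (Subgroup.card_subgroup_dvd_card H))
  · rw [Sylow.coe_subgroup_smul]
    exact Subgroup.map_mono hT

end SE

variable {G : Type*} [Group G] {p : ℕ}

/-- The generators: elements centralizing `U` or fusing inside a larger subgroup of `S`. -/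
def moves (S U : Subgroup G) : Set G :=
  (centralizer (U : Set G) : Set G) ∪ {h | h ∈ normalizer (U : Set G) ∧ U < S ⊓ cj h S}

/-- The members of the family. -/
def Fam (p : ℕ) (S U : Subgroup G) : Prop :=
  U < S ∧ FullyNorm p S U ∧ ¬ normalizer (U : Set G) ≤ closure (moves S U)

/-- Normal subgroups over `U` of relative order divisible by p. -/
def Over (p : ℕ) (U Y : Subgroup G) : Prop :=
  U ≤ Y ∧ Y ≤ normalizer (U : Set G) ∧ normalizer (U : Set G) ≤ normalizer (Y : Set G) ∧
    p ∣ U.relIndex Y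

/-- The allowed steps. -/
def stepGroup (p : ℕ) (U : Subgroup G) : Subgroup G :=
  closure {x | x ∈ normalizer (U : Set G) ∧ (orderOf x).Coprime p ∧ ∀ Y, Over p U Y → x ∈ Y}

/-- Chains. -/
inductive SC (p : ℕ) (S : Subgroup G) : Subgroup G → G → Prop
  | nil (D : Subgroup G) : SC p S D 1
  | cons (D U : Subgroup G) (x X : G) : D ≤ U → Fam p S U → x ∈ stepGroup p U →
      SC p S (cj x⁻¹ D) X → SC p S D (x * X)

/-- `g` agrees on `D` with a chain followed by an element of the normalizer of `S`. -/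
def SGood (p : ℕ) (S D : Subgroup G) (g : G) : Prop :=
  ∃ c ∈ centralizer (D : Set G), ∃ X, SC p S D X ∧ ∃ y ∈ normalizer (S : Set G), g = c * X * y

theorem stepGroup_le (U : Subgroup G) : stepGroup p U ≤ normalizer (U : Set G) :=
  (closure_le _).2 fun _ h => h.1

theorem over_cj {U Y : Subgroup G} (z : G) (h : Over p U Y) : Over p (cj z U) (cj z Y) := by
  obtain ⟨h1, h2, h3, h4⟩ := h
  exact ⟨cj_mono h1, by rw [← cj_normalizer]; exact cj_mono h2,
    by rw [← cj_normalizer, ← cj_normalizer]; exact cj_mono h3, by rw [cj_relIndex]; exact h4⟩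

theorem stepGroup_cj {U : Subgroup G} (z : G) {x : G} (hx : x ∈ stepGroup p U) :
    z * x * z⁻¹ ∈ stepGroup p (cj z U) := by
  refine (?_ : (stepGroup p U).map (MulAut.conj z).toMonoidHom ≤ stepGroup p (cj z U)) ⟨x, hx, rfl⟩
  rw [stepGroup, MonoidHom.map_closure]
  refine closure_mono ?_
  rintro _ ⟨w, ⟨hwN, hwo, hwY⟩, rfl⟩
  refine ⟨by rw [← cj_normalizer]; exact ⟨w, hwN, rfl⟩, ?_, fun Y hY => ?_⟩
  · rwa [orderOf_injective (MulAut.conj z).toMonoidHom (MulAut.conj z).injective]
  · have h2 := over_cj z⁻¹ hY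
    rw [cj_inv_cj] at h2
    have h3 := conj_mem_cj (g := z) (hwY _ h2)
    rw [cj_cj_inv] at h3
    exact h3

theorem moves_cj {S U : Subgroup G} {z : G} (hz : z ∈ normalizer (S : Set G)) :
    cj z (closure (moves S U)) ≤ closure (moves S (cj z U)) := by
  rw [cj, MonoidHom.map_closure]
  refine closure_mono ?_
  rintro _ ⟨h, hh, rfl⟩
  rcases hh with hh | ⟨hhN, hlt⟩
  · left
    rw [SetLike.mem_coe, mem_centralizer_iff] at hh ⊢
    rintro _ ⟨u, hu, rfl⟩
    rw [← map_mul, ← map_mul, hh u hu]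
  · right
    refine ⟨by rw [← cj_normalizer]; exact ⟨h, hhN, rfl⟩, ?_⟩
    have e : cj (z * h * z⁻¹) S = cj z (cj h S) := by
      rw [cj_mul, cj_mul, cj_eq_self_iff.2 (inv_mem hz)]
    have e1 : cj z (S ⊓ cj h S) = S ⊓ cj (z * h * z⁻¹) S := by
      rw [cj_inf, e, cj_eq_self_iff.2 hz]
    show cj z U < S ⊓ cj (z * h * z⁻¹) S
    rw [← e1]
    exact lt_of_le_of_ne (cj_mono hlt.le) fun h0 => hlt.ne (cj_inj h0)

theorem fam_cj {S U : Subgroup G} {z : G} (hz : z ∈ normalizer (S : Set G)) (h : Fam p S U) :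
    Fam p S (cj z U) := by
  obtain ⟨h1, ⟨h2, h3⟩, h4⟩ := h
  have hzS : cj z S = S := cj_eq_self_iff.2 hz
  refine ⟨?_, ⟨by rw [← hzS]; exact cj_mono h2, ?_⟩, fun hle => h4 ?_⟩
  · conv_rhs => rw [← hzS]
    exact lt_of_le_of_ne (cj_mono h1.le) fun h0 => h1.ne (cj_inj h0)
  · have := h3.conj z
    rwa [cj_inf, hzS, cj_normalizer] at this
  · rw [← cj_normalizer] at hle
    have h5 : cj z (normalizer (U : Set G)) ≤ cj z (closure (moves S U)) := by
      refine hle.trans ?_
      have h6 := cj_mono (g := z) (moves_cj (S := S) (U := cj z U) (inv_mem hz))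
      rwa [cj_cj_inv, cj_inv_cj] at h6
    have h7 := cj_mono (g := z⁻¹) h5
    rwa [cj_inv_cj, cj_inv_cj] at h7

theorem sc_mono {S D D' : Subgroup G} {X : G} (h : SC p S D X) (hD : D' ≤ D) : SC p S D' X := by
  induction h generalizing D' with
  | nil D => exact SC.nil D'
  | cons D U x X hDU hU hx _ ih => exact SC.cons D' U x X (hD.trans hDU) hU hx (ih (cj_mono hD))

theorem sc_comp {S D : Subgroup G} {X Y : G} (h : SC p S D X) (h' : SC p S (cj X⁻¹ D) Y) :
    SC p S D (X * Y) := by
  induction h with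
  | nil D => rw [inv_one, cj_one] at h'; rw [one_mul]; exact h'
  | cons D U x X hDU hU hx _ ih =>
    rw [mul_assoc]
    refine SC.cons D U x _ hDU hU hx (ih ?_)
    rwa [← cj_mul, ← mul_inv_rev]

theorem sc_inv {S D : Subgroup G} {X : G} (h : SC p S D X) : SC p S (cj X⁻¹ D) X⁻¹ := by
  induction h with
  | nil D => rw [inv_one, cj_one]; exact SC.nil D
  | cons D U x X hDU hU hx _ ih =>
    rw [mul_inv_rev, cj_mul]
    refine sc_comp ih ?_
    rw [inv_inv, cj_cj_inv]
    have h2 : SC p S (cj x⁻¹ D) (x⁻¹ * 1) := SC.cons _ U x⁻¹ 1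
      ((cj_mono hDU).trans (cj_eq_self_iff.2 (inv_mem (stepGroup_le U hx))).le) hU (inv_mem hx) (SC.nil _)
    rwa [mul_one] at h2

theorem sc_conj {S D : Subgroup G} {X y : G} (hy : y ∈ normalizer (S : Set G)) (h : SC p S D X) :
    SC p S (cj y D) (y * X * y⁻¹) := by
  induction h with
  | nil D => rw [mul_one, mul_inv_cancel]; exact SC.nil _
  | cons D U x X hDU hU hx _ ih =>
    rw [show y * (x * X) * y⁻¹ = (y * x * y⁻¹) * (y * X * y⁻¹) by group]
    refine SC.cons _ (cj y U) _ _ (cj_mono hDU) (fam_cj hy hU) (stepGroup_cj y hx) ?_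
    rwa [← cj_mul, show (y * x * y⁻¹)⁻¹ * y = y * x⁻¹ by group, cj_mul]

theorem centralizer_conj' {D : Subgroup G} {g c : G}
    (hc : c ∈ centralizer ((cj g⁻¹ D : Subgroup G) : Set G)) : g * c * g⁻¹ ∈ centralizer (D : Set G) := by
  simpa using CfsgLib.Balance.centralizer_conj (a := g⁻¹) hc

theorem sgood_mono {S D D' : Subgroup G} {g : G} (hD : D' ≤ D) (h : SGood p S D g) : SGood p S D' g := by
  obtain ⟨c, hc, X, hX, y, hy, rfl⟩ := h
  exact ⟨c, centralizer_le hD hc, X, sc_mono hX hD, y, hy, rfl⟩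

theorem cj_eq_of_good {S D : Subgroup G} {c X y : G} (hc : c ∈ centralizer (D : Set G))
    (_hy : y ∈ normalizer (S : Set G)) : cj (c * X * y)⁻¹ D = cj y⁻¹ (cj X⁻¹ D) := by
  rw [show (c * X * y)⁻¹ = y⁻¹ * (X⁻¹ * c⁻¹) by group, cj_mul, cj_mul,
    CfsgLib.Balance.cj_eq_of_centralizer (inv_mem hc)]

theorem sgood_comp {S D : Subgroup G} {g h : G} (hg : SGood p S D g) (hh : SGood p S (cj g⁻¹ D) h) :
    SGood p S D (g * h) := by
  obtain ⟨c, hc, X, hX, y, hy, rfl⟩ := hg
  obtain ⟨c', hc', X', hX', y', hy', rfl⟩ := hh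
  have hcj := cj_eq_of_good (S := S) (X := X) hc hy
  have hX2 := sc_conj hy hX'
  rw [hcj, cj_cj_inv] at hX2
  refine ⟨(c * X * y) * c' * (c * X * y)⁻¹ * c, mul_mem (centralizer_conj' hc') hc,
    X * (y * X' * y⁻¹), sc_comp hX hX2, y * y', mul_mem hy hy', ?_⟩
  group

theorem sgood_inv {S D : Subgroup G} {g : G} (hg : SGood p S D g) : SGood p S (cj g⁻¹ D) g⁻¹ := by
  obtain ⟨c, hc, X, hX, y, hy, rfl⟩ := hg
  have hcj := cj_eq_of_good (S := S) (X := X) hc hy
  have hX2 := sc_conj (inv_mem hy) (sc_inv hX)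
  rw [← hcj, inv_inv] at hX2
  refine ⟨(c * X * y)⁻¹ * c⁻¹ * (c * X * y), ?_, y⁻¹ * X⁻¹ * y, hX2, y⁻¹, inv_mem hy, by group⟩
  have h1 : c⁻¹ ∈ centralizer ((cj (c * X * y) (cj (c * X * y)⁻¹ D) : Subgroup G) : Set G) := by
    rw [cj_cj_inv]; exact inv_mem hc
  exact CfsgLib.Balance.centralizer_conj h1

theorem sgood_one {S D : Subgroup G} : SGood p S D 1 :=
  ⟨1, one_mem _, 1, SC.nil D, 1, one_mem _, by group⟩

theorem sgood_centralizer {S D : Subgroup G} {c : G} (hc : c ∈ centralizer (D : Set G)) :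
    SGood p S D c :=
  ⟨c, hc, 1, SC.nil D, 1, one_mem _, by group⟩

variable [Finite G] [Fact p.Prime]

/-- What membership in the family gives. -/
theorem fam_props (P : Sylow p G) {U : Subgroup G} (h : Fam p (P : Subgroup G) U) :
    (P : Subgroup G) ⊓ centralizer (U : Set G) ≤ U ∧
      (Cfsg.pPrimePCore p ↥(normalizer (U : Set G))).map (normalizer (U : Set G)).subtype =
        U ⊔ centralizer (U : Set G) := by
  obtain ⟨hlt, hfn, hK⟩ := h
  rcases CfsgLib.Balance.tame_or_larger P hfn with hT | ⟨R, hUR, hRP, hR⟩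
  · obtain ⟨-, hC, ⟨hOL, hUL, hcomm, hinf, hsup⟩, -⟩ := hT
    have hUN : U ≤ normalizer (U : Set G) := le_normalizer
    set O := (Cfsg.pPrimeCore p ↥(normalizer (U : Set G))).map (normalizer (U : Set G)).subtype with hOdef
    have hOC : O ≤ centralizer (U : Set G) := fun a ha =>
      mem_centralizer_iff.2 fun b hb => (hcomm a ha b hb).symm
    refine ⟨?_, le_antisymm (hsup ▸ sup_le (hOC.trans le_sup_right) le_sup_left) (sup_le hUL hC)⟩
    intro x hx
    have hxL := hC hx.2
    rw [← hsup] at hxL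
    obtain ⟨o, ho, u, hu, rfl⟩ := (CfsgLib.Solvable.mem_sup_of_le_normalizer
      (show U ≤ normalizer (O : Set G) from fun u hu => centralizer_le_normalizer _
        (mem_centralizer_iff.2 fun a ha => hcomm a ha u hu))).1 hxL
    have hoP : o ∈ (P : Subgroup G) := by
      have := (P : Subgroup G).mul_mem hx.1 ((P : Subgroup G).inv_mem (hlt.le hu))
      simpa using this
    have hOc : (Nat.card ↥O).Coprime p := by
      rw [hOdef, Subgroup.card_map_of_injective (normalizer (U : Set G)).subtype_injective]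
      exact CfsgLib.Solvable.pPrimeCore_card_coprime p _
    have h1 := CfsgLib.PLoc.disjoint_of_pgroup_coprime P.isPGroup' hOc
    have ho1 : o = 1 := by
      rw [← Subgroup.mem_bot, ← h1]; exact ⟨hoP, ho⟩
    rw [ho1, one_mul]; exact hu
  · refine absurd (fun n hn => ?_) hK
    obtain ⟨c, hc, m, hm, rfl⟩ := hR n hn
    refine mul_mem (subset_closure (Or.inl hc)) (subset_closure (Or.inr ⟨?_, ?_⟩))
    · simpa using mul_mem (inv_mem (centralizer_le_normalizer _ hc)) hn
    · exact hUR.trans_le (le_inf hRP ((cj_eq_self_iff.2 hm).ge.trans (cj_mono hRP)))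

theorem inf_normalizer_lt {S U : Subgroup G} (hS : IsPGroup p ↥S) (hlt : U < S) :
    ∀ u ∈ S ⊓ normalizer (U : Set G), u ∈ moves S U := by
  intro u hu
  refine Or.inr ⟨hu.2, ?_⟩
  rw [cj_eq_self_of_mem hu.1, inf_idem]
  exact hlt

theorem over_normalizer (P : Sylow p G) {U : Subgroup G} (h : U < (P : Subgroup G)) :
    Over p U (normalizer (U : Set G)) := by
  refine ⟨le_normalizer, le_rfl, le_normalizer, ?_⟩
  have h1 := lt_inf_normalizer P.isPGroup' h
  have h2 : U.relIndex ((P : Subgroup G) ⊓ normalizer (U : Set G)) ∣ U.relIndex (normalizer (U : Set G)) :=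
    Dvd.intro _ (relIndex_mul_relIndex U _ _ h1.le inf_le_right)
  refine dvd_trans ?_ h2
  have hp : IsPGroup p ↥((P : Subgroup G) ⊓ normalizer (U : Set G)) := P.isPGroup'.to_le inf_le_left
  obtain ⟨n, hn⟩ := hp.exists_card_eq
  obtain ⟨k, -, hk⟩ := (Nat.dvd_prime_pow (Fact.out : p.Prime)).1
    (hn ▸ relIndex_dvd_card (H := U) (K := (P : Subgroup G) ⊓ normalizer (U : Set G)))
  have hk0 : k ≠ 0 := fun h0 => h1.not_ge (relIndex_eq_one.1 (by rw [hk, h0, pow_zero]))
  rw [hk]
  exact dvd_pow_self p hk0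

/-- The quotient of the normalizer of a member of the family has a proper subgroup as in the
hypothesis of `dvd_card_inf_of_classicalSE`. -/
theorem exists_classicalSE (P : Sylow p G) {U : Subgroup G} (h : Fam p (P : Subgroup G) U)
    (N : Subgroup G) (hN : N = normalizer (U : Set G)) [(U.subgroupOf N).Normal] :
    ∃ H : Subgroup (↥N ⧸ U.subgroupOf N), H ≠ ⊤ ∧ p ∣ Nat.card H ∧
      ∀ g, g ∉ H → ¬ p ∣ Nat.card ↥(H ⊓ H.map (MulAut.conj g).toMonoidHom) := by
  have hover := over_normalizer P h.1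
  obtain ⟨hlt, hfn, hnle⟩ := h
  subst hN
  set N := normalizer (U : Set G) with hN
  set K := closure (moves (P : Subgroup G) U) with hK
  have hKN : K ≤ N := (closure_le _).2 fun x hx => hx.elim (fun hx => centralizer_le_normalizer _ hx) And.left
  have hSK : (P : Subgroup G) ⊓ N ≤ K := fun u hu => subset_closure (inf_normalizer_lt P.isPGroup' hlt u hu)
  have hUK : U ≤ K := (le_inf hlt.le le_normalizer).trans hSK
  set π := QuotientGroup.mk' (U.subgroupOf N) with hπ
  have hker : U.subgroupOf N ≤ K.subgroupOf N := fun x hx => hUK hx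
  have hcomap : ((K.subgroupOf N).map π).comap π = K.subgroupOf N := by
    rw [comap_map_eq, hπ, QuotientGroup.ker_mk']; exact sup_eq_left.2 hker
  refine ⟨(K.subgroupOf N).map π, ?_, ?_, ?_⟩
  · intro htop
    apply hnle
    rw [htop, comap_top] at hcomap
    exact subgroupOf_eq_top.1 hcomap.symm
  · have h1 : (U.subgroupOf N).relIndex (K.subgroupOf N) = Nat.card ↥((K.subgroupOf N).map π) := by
      rw [← relIndex_ker, QuotientGroup.ker_mk']
    rw [← h1, relIndex_subgroupOf hKN]
    have h2 := relIndex_mul_relIndex U K N hUK hKN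
    have h3 : ¬ p ∣ K.relIndex N := fun hd => hfn.2.not_dvd (hd.trans (relIndex_dvd_of_le_left N hSK))
    exact ((Fact.out : p.Prime).dvd_mul.1 (h2 ▸ hover.2.2.2)).resolve_right h3
  · intro g hg hdvd
    obtain ⟨g, rfl⟩ := QuotientGroup.mk'_surjective (U.subgroupOf N) g
    apply hg
    obtain ⟨⟨z, hz⟩, hzo⟩ := exists_prime_orderOf_dvd_card' p hdvd
    rw [Subgroup.orderOf_mk] at hzo
    set R0 := (zpowers z).comap π with hR0
    have hR0p : IsPGroup p ↥R0 := by
      have hzp : IsPGroup p ↥(zpowers z) := IsPGroup.of_card (n := 1) (by rw [Nat.card_zpowers, hzo, pow_one])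
      refine IsPGroup.comap_of_ker_isPGroup hzp π ?_
      rw [hπ, QuotientGroup.ker_mk']
      exact (P.isPGroup'.to_le hlt.le).comap_of_injective _ N.subtype_injective
    have hR0K : R0 ≤ K.subgroupOf N := by
      rw [← hcomap]; exact comap_mono (zpowers_le.2 hz.1)
    have hR0g : ∀ r ∈ R0, g⁻¹ * r * g ∈ K.subgroupOf N := by
      intro r hr
      rw [← hcomap, mem_comap]
      have h1 : zpowers z ≤ ((K.subgroupOf N).map π).map (MulAut.conj (π g)).toMonoidHom :=
        zpowers_le.2 hz.2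
      obtain ⟨w, hw, hwr⟩ := h1 hr
      rw [map_mul, map_mul, map_inv, ← hwr]
      simpa [mul_assoc] using hw
    have hUR0 : U.subgroupOf N < R0 := by
      refine lt_of_le_of_ne (fun x hx => ?_) fun e => ?_
      · show π x ∈ zpowers z
        rw [show π x = 1 from (QuotientGroup.eq_one_iff x).2 hx]; exact one_mem _
      · obtain ⟨w, hw⟩ := QuotientGroup.mk'_surjective (U.subgroupOf N) z
        have hwR : w ∈ R0 := by rw [hR0, mem_comap, hπ, hw]; exact mem_zpowers z
        rw [← e] at hwR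
        have hz1 : z = 1 := by rw [← hw]; exact (QuotientGroup.eq_one_iff w).2 hwR
        rw [hz1, orderOf_one] at hzo
        exact (Fact.out : p.Prime).ne_one hzo.symm
    set R := R0.map N.subtype with hR
    have hRp : IsPGroup p ↥R := hR0p.map _
    have hsyl : IsSyl p ((P : Subgroup G) ⊓ N) K := ⟨hSK, P.isPGroup'.to_le inf_le_left, fun hd =>
      hfn.2.not_dvd (hd.trans (Dvd.intro _ (relIndex_mul_relIndex _ K N hSK hKN)))⟩
    have hRK : R ≤ K := by rintro _ ⟨r, hr, rfl⟩; exact hR0K hr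
    have hRgK : cj (g : G)⁻¹ R ≤ K := by
      rintro _ ⟨_, ⟨r, hr, rfl⟩, rfl⟩
      simpa [Subgroup.mem_subgroupOf, mul_assoc] using hR0g r hr
    obtain ⟨k, hk, hkR⟩ := hsyl.exists_cj_le hRp hRK
    obtain ⟨k', hk', hk'R⟩ := hsyl.exists_cj_le (isPGroup_cj hRp) hRgK
    set m := k * (g : G) * k'⁻¹ with hm
    have hUR : U < R := by
      have hU' : (U.subgroupOf N).map N.subtype = U := map_subgroupOf_eq_of_le le_normalizer
      rw [← hU', hR]
      exact map_subtype_lt_map_subtype.2 hUR0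
    have hkU : cj k U = U := cj_eq_self_iff.2 (hKN hk)
    have hle : cj k R ≤ (P : Subgroup G) ⊓ cj m (P : Subgroup G) := by
      refine le_inf (hkR.trans inf_le_left) ?_
      have h2 := cj_mono (g := m) (hk'R.trans inf_le_left)
      rwa [← cj_mul, ← cj_mul, show m * k' * (g : G)⁻¹ = k by rw [hm]; group] at h2
    have hmem : m ∈ moves (P : Subgroup G) U := by
      refine Or.inr ⟨mul_mem (mul_mem (hKN hk) g.2) (inv_mem (hKN hk')), lt_of_lt_of_le ?_ hle⟩
      rw [← hkU]
      exact lt_of_le_of_ne (cj_mono hUR.le) fun h0 => hUR.ne (cj_inj h0)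
    refine ⟨g, ?_, rfl⟩
    show (g : G) ∈ K
    have h3 := mul_mem (mul_mem (inv_mem hk) (subset_closure hmem : m ∈ K)) hk'
    rwa [hm, show k⁻¹ * (k * (g : G) * k'⁻¹) * k' = g by group] at h3

/-- A least normal subgroup over `U` of relative order divisible by p. -/
theorem exists_least_over (P : Sylow p G) {U : Subgroup G} (h : Fam p (P : Subgroup G) U) :
    ∃ X, Over p U X ∧ ∀ Y, Over p U Y → X ≤ Y := by
  haveI : (U.subgroupOf (normalizer (U : Set G))).Normal := normal_in_normalizer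
  obtain ⟨H, hH, hpH, hse⟩ := exists_classicalSE P h _ rfl
  set N := normalizer (U : Set G) with hN
  set π := QuotientGroup.mk' (U.subgroupOf N) with hπ
  have hcard : ∀ Y : Subgroup G, Y ≤ N → Nat.card ↥((Y.subgroupOf N).map π) = U.relIndex Y := by
    intro Y hY
    rw [← relIndex_ker, hπ, QuotientGroup.ker_mk', relIndex_subgroupOf hY]
  have hinf : ∀ X Y, Over p U X → Over p U Y → Over p U (X ⊓ Y) := by
    intro X Y hX hY
    have hn : N ≤ normalizer ((X ⊓ Y : Subgroup G) : Set G) := fun n hn => by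
      rw [← cj_eq_self_iff, cj_inf, cj_eq_self_iff.2 (hX.2.2.1 hn), cj_eq_self_iff.2 (hY.2.2.1 hn)]
    refine ⟨le_inf hX.1 hY.1, inf_le_left.trans hX.2.1, hn, ?_⟩
    haveI : (X.subgroupOf N).Normal := (normal_subgroupOf_iff_le_normalizer hX.2.1).2 hX.2.2.1
    haveI : (Y.subgroupOf N).Normal := (normal_subgroupOf_iff_le_normalizer hY.2.1).2 hY.2.2.1
    haveI := Normal.map (inferInstance : (X.subgroupOf N).Normal) π (QuotientGroup.mk'_surjective _)
    haveI := Normal.map (inferInstance : (Y.subgroupOf N).Normal) π (QuotientGroup.mk'_surjective _)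
    have h1 := dvd_card_inf_of_classicalSE hse hH hpH ((X.subgroupOf N).map π) ((Y.subgroupOf N).map π)
      (by rw [hcard X hX.2.1]; exact hX.2.2.2) (by rw [hcard Y hY.2.1]; exact hY.2.2.2)
    have e : ((X ⊓ Y).subgroupOf N).map π = (X.subgroupOf N).map π ⊓ (Y.subgroupOf N).map π := by
      refine le_antisymm (le_inf (map_mono fun x hx => hx.1) (map_mono fun x hx => hx.2)) ?_
      rintro q ⟨⟨x, hx, rfl⟩, y, hy, hxy⟩
      refine ⟨x, ⟨hx, ?_⟩, rfl⟩
      have hu : y⁻¹ * x ∈ U.subgroupOf N := QuotientGroup.eq.1 hxy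
      have := Y.mul_mem hy (hY.1 hu)
      simpa using this
    rw [← hcard (X ⊓ Y) (inf_le_left.trans hX.2.1), e]
    exact h1
  obtain ⟨X, hX, hmin⟩ := Set.exists_min_image {Y | Over p U Y} (fun Y => Nat.card ↥Y) (Set.toFinite _)
    ⟨N, over_normalizer P h.1⟩
  exact ⟨X, hX, fun Y hY => inf_eq_left.1 (eq_of_le_of_card_ge inf_le_left (hmin _ (hinf X Y hX hY)))⟩

/-- The steps are the p-residual of the least such subgroup. -/
theorem stepGroup_eq {U X : Subgroup G} (hX : Over p U X) (hmin : ∀ Y, Over p U Y → X ≤ Y) :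
    stepGroup p U = resOf p X := by
  apply le_antisymm
  · exact closure_mono fun x hx => ⟨hx.2.2 X hX, hx.2.1⟩
  · exact closure_mono fun x hx => ⟨hX.2.1 hx.1, hx.2, fun Y hY => hmin Y hY hx.1⟩

/-- Frattini: the normalizer is generated by the moves and the steps. -/
theorem normalizer_le_sup (P : Sylow p G) {U X : Subgroup G} (h : Fam p (P : Subgroup G) U)
    (hX : Over p U X) :
    normalizer (U : Set G) ≤ closure (moves (P : Subgroup G) U) ⊔ resOf p X := by
  obtain ⟨hlt, hfn, -⟩ := h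
  obtain ⟨hUX, hXN, hXn, hpX⟩ := hX
  set N := normalizer (U : Set G)
  set R := (P : Subgroup G) ⊓ N ⊓ X with hR
  have hidx : ¬ p ∣ R.relIndex X := by
    intro hd
    rw [hR, inf_relIndex_right] at hd
    exact hfn.2.not_dvd (hd.trans (relIndex_dvd_of_le_normalizer inf_le_right hXN hXn))
  have hsyl : IsSyl p R X := ⟨inf_le_right, P.isPGroup'.to_le (inf_le_left.trans inf_le_left), hidx⟩
  have hUR : U < R := by
    refine lt_of_le_of_ne (le_inf (le_inf hlt.le le_normalizer) hUX) fun e => hidx ?_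
    rw [← e]; exact hpX
  have hRK : R ≤ closure (moves (P : Subgroup G) U) := fun r hr =>
    subset_closure (inf_normalizer_lt P.isPGroup' hlt r (inf_le_left (a := (P : Subgroup G) ⊓ N) hr))
  intro n hn
  have hcj : IsSyl p (cj n R) X := by
    have := hsyl.conj n
    rwa [cj_eq_self_iff.2 (hXn hn)] at this
  obtain ⟨x, hx, hxR⟩ := hcj.exists_cj_eq hsyl
  rw [← cj_mul] at hxR
  have hm : x * n ∈ moves (P : Subgroup G) U := Or.inr ⟨mul_mem (hXN hx) hn,
    hUR.trans_le (le_inf (inf_le_left.trans inf_le_left) (hxR.ge.trans (cj_mono (inf_le_left.trans inf_le_left))))⟩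
  have hxmem : x ∈ closure (moves (P : Subgroup G) U) ⊔ resOf p X := by
    rw [← resOf_sup_eq (inf_le_right : R ≤ X) hidx] at hx
    exact (sup_le le_sup_right (hRK.trans le_sup_left)) hx
  have := mul_mem (inv_mem hxmem) (le_sup_left (b := resOf p X) (subset_closure hm : x * n ∈ _))
  rwa [inv_mul_cancel_left] at this

/-- Every fusion inside `P` is of the strong form. -/
theorem sgood_all (P : Sylow p G) : ∀ (D : Subgroup G) (g : G), D ≤ (P : Subgroup G) →
    cj g⁻¹ D ≤ (P : Subgroup G) → SGood p (P : Subgroup G) D g := by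
  suffices H : ∀ (k : ℕ) (D : Subgroup G) (g : G), Nat.card G < Nat.card ↥D + k → D ≤ (P : Subgroup G) →
      cj g D ≤ (P : Subgroup G) → SGood p (P : Subgroup G) D g⁻¹ by
    intro D g hD hg
    simpa using H (Nat.card G + 1) D g⁻¹ (by omega) hD hg
  intro k
  induction k with
  | zero => intro D g hk; exact absurd (Subgroup.card_le_card_group D) (by omega)
  | succ k ih =>
  intro D g hk hD hg
  refine alperin_induction P {U | FullyNorm p (P : Subgroup G) U} (exists_rep_fullyNorm P)
    (fun D g => Nat.card G < Nat.card ↥D + (k + 1) → SGood p (P : Subgroup G) D g⁻¹)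
    ?_ ?_ ?_ ?_ D g hD hg hk
  · intro D D' g hle _ _ h hk'
    exact sgood_mono hle (h (by have := Subgroup.card_le_of_le hle; omega))
  · intro D g h _ _ _ h1 h2 hk'
    rw [mul_inv_rev]
    exact sgood_comp (h1 hk') (by rw [inv_inv]; exact h2 (by rwa [card_cj]))
  · intro D g _ _ h hk'
    have h1 := sgood_inv (h (by rwa [card_cj] at hk'))
    simp only [inv_inv] at h1
    simpa using h1
  · intro U _ hfn D n hDU hn hk'
    refine sgood_mono hDU ?_
    have hkU : Nat.card G < Nat.card ↥U + (k + 1) := by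
      have := Subgroup.card_le_of_le hDU; omega
    set N := normalizer (U : Set G) with hN
    let good : Subgroup G :=
      { carrier := {m | m ∈ N ∧ SGood p (P : Subgroup G) U m}
        one_mem' := ⟨one_mem _, sgood_one⟩
        mul_mem' := fun {a b} ha hb => ⟨mul_mem ha.1 hb.1,
          sgood_comp ha.2 (by rw [cj_eq_self_iff.2 (inv_mem ha.1)]; exact hb.2)⟩
        inv_mem' := fun {a} ha => ⟨inv_mem ha.1, by
          have := sgood_inv ha.2
          rwa [cj_eq_self_iff.2 (inv_mem ha.1)] at this⟩ }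
    suffices hall : N ≤ good from (hall (inv_mem hn)).2
    by_cases hUP : U = (P : Subgroup G)
    · intro m hm
      exact ⟨hm, 1, one_mem _, 1, SC.nil _, m, hUP ▸ hm, by group⟩
    have hlt : U < (P : Subgroup G) := lt_of_le_of_ne hfn.1 hUP
    have hmoves : closure (moves (P : Subgroup G) U) ≤ good := by
      refine (closure_le _).2 ?_
      rintro m (hm | ⟨hmN, hm⟩)
      · exact ⟨centralizer_le_normalizer _ hm, sgood_centralizer hm⟩
      · refine ⟨hmN, sgood_mono hm.le ?_⟩
        have hcard : Nat.card ↥U < Nat.card ↥((P : Subgroup G) ⊓ cj m (P : Subgroup G)) :=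
          (Subgroup.card_le_of_le hm.le).lt_of_ne fun e => hm.ne (eq_of_le_of_card_ge hm.le e.ge)
        simpa using ih _ m⁻¹ (by omega) inf_le_left
          ((cj_mono inf_le_right).trans (cj_inv_cj _ _).le)
    by_cases hK : N ≤ closure (moves (P : Subgroup G) U)
    · exact hK.trans hmoves
    have hfam : Fam p (P : Subgroup G) U := ⟨hlt, hfn, hK⟩
    obtain ⟨X, hX, hmin⟩ := exists_least_over P hfam
    refine (normalizer_le_sup P hfam hX).trans (sup_le hmoves fun x hx => ?_)
    rw [← stepGroup_eq hX hmin] at hx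
    exact ⟨stepGroup_le U hx, 1, one_mem _, x * 1, SC.cons U U x 1 le_rfl hfam hx (SC.nil _), 1, one_mem _,
      by group⟩

end CfsgLib.LocEven.StrongAlperin
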