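import Cfsg.Prelude.Def_SylowChains
import Cfsg.Agent.Lib.LocEven.StronglyEmbedded
import Mathlib.Logic.Relation
import Mathlib.Data.Fin.Tuple.Basic

/-!
The graph on Sylow `p`-subgroups (nontrivial intersections) and strongly p-embedded subgroups.
-/

set_option autoImplicit false

open scoped Pointwise

namespace CfsgLib.LocEven

variable {G : Type*} [Group G]

/-- Adjacency in the intersection graph of Sylow subgroups. -/
def SylowMeet (p : ℕ) (S T : Sylow p G) : Prop :=
  S ≠ T ∧ (S : Subgroup G) ⊓ (T : Subgroup G) ≠ ⊥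

theorem sylowMeet_symm {p : ℕ} {S T : Sylow p G} (h : SylowMeet p S T) : SylowMeet p T S :=
  ⟨h.1.symm, by rw [inf_comm]; exact h.2⟩

theorem sylowReach_symm {p : ℕ} {S T : Sylow p G}
    (h : Relation.ReflTransGen (SylowMeet p) S T) : Relation.ReflTransGen (SylowMeet p) T S := by
  induction h with
  | refl => exact Relation.ReflTransGen.refl
  | tail _ h' ih => exact Relation.ReflTransGen.head (sylowMeet_symm h') ih

theorem sylowMeet_smul {p : ℕ} {S T : Sylow p G} (g : G) (h : SylowMeet p S T) :
    SylowMeet p (g • S) (g • T) := by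
  refine ⟨fun e => h.1 (smul_left_cancel g e), fun e => h.2 ?_⟩
  rw [Sylow.coe_subgroup_smul, Sylow.coe_subgroup_smul] at e
  have e' : ((S : Subgroup G) ⊓ (T : Subgroup G)).map (MulAut.conj g).toMonoidHom = ⊥ := by
    rw [Subgroup.map_inf _ _ _ (MulAut.conj g).injective]
    exact e
  exact (Subgroup.map_eq_bot_iff_of_injective _ (MulAut.conj g).injective).mp e'

theorem chainConnected_iff_reach {p : ℕ} :
    Cfsg.IsSylowChainConnected p G ↔
      ∀ S T : Sylow p G, Relation.ReflTransGen (SylowMeet p) S T := by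
  constructor
  · intro h S T
    obtain ⟨n, c, h0, hn, -, hstep⟩ := h S T
    suffices ∀ i : Fin (n + 1), Relation.ReflTransGen (SylowMeet p) (c 0) (c i) by
      have := this (Fin.last n)
      rwa [h0, hn] at this
    intro i
    induction i using Fin.induction with
    | zero => exact Relation.ReflTransGen.refl
    | succ i ih => exact ih.tail (hstep i)
  · intro h S T
    by_cases hST : S = T
    · exact ⟨0, fun _ => S, rfl, hST, fun _ => inf_le_left, fun i => i.elim0⟩
    by_cases hbot : (S : Subgroup G) ⊓ (T : Subgroup G) = ⊥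
    · have key : ∀ U, Relation.ReflTransGen (SylowMeet p) S U →
          ∃ (n : ℕ) (c : Fin (n + 1) → Sylow p G), c 0 = S ∧ c (Fin.last n) = U ∧
            ∀ i : Fin n, c i.castSucc ≠ c i.succ ∧
              (c i.castSucc : Subgroup G) ⊓ (c i.succ : Subgroup G) ≠ ⊥ := by
        intro U hU
        induction hU with
        | refl => exact ⟨0, fun _ => S, rfl, rfl, fun i => i.elim0⟩
        | @tail U V _ hstep ih =>
          obtain ⟨n, c, h0, hn, hi⟩ := ih
          refine ⟨n + 1, Fin.snoc c V, ?_, Fin.snoc_last _ _, ?_⟩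
          · rw [← Fin.castSucc_zero, Fin.snoc_castSucc, h0]
          · intro i
            induction i using Fin.lastCases with
            | last =>
              rw [Fin.succ_last, Fin.snoc_last, Fin.snoc_castSucc, hn]
              exact hstep
            | cast j =>
              rw [Fin.succ_castSucc, Fin.snoc_castSucc, Fin.snoc_castSucc]
              exact hi j
      obtain ⟨n, c, h0, hn, hi⟩ := key T (h S T)
      exact ⟨n, c, h0, hn, fun _ => hbot ▸ bot_le, hi⟩
    · refine ⟨1, ![S, T], rfl, rfl, ?_, ?_⟩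
      · intro i
        match i with
        | 0 => exact inf_le_left
        | 1 => exact inf_le_right
      · intro i
        match i with
        | 0 => exact ⟨hST, hbot⟩

variable [Finite G] {p : ℕ} [Fact p.Prime]

theorem exists_classicalSE_of_not_connected (hnc : ¬ Cfsg.IsSylowChainConnected p G) :
    ∃ H : Subgroup G, H ≠ ⊤ ∧ p ∣ Nat.card H ∧
      ∀ g : G, g ∉ H → ¬ p ∣ Nat.card ↥(H ⊓ H.map (MulAut.conj g).toMonoidHom) := by
  rw [chainConnected_iff_reach] at hnc
  obtain ⟨S, T, hST⟩ : ∃ S T : Sylow p G, ¬ Relation.ReflTransGen (SylowMeet p) S T := by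
    by_contra h
    push_neg at h
    exact hnc h
  set R := Relation.ReflTransGen (SylowMeet (G := G) p) with hR
  have hsymm : ∀ {A B : Sylow p G}, R A B → R B A := fun h => sylowReach_symm h
  have hsmul : ∀ (g : G) {A B : Sylow p G}, R A B → R (g • A) (g • B) :=
    fun g A B h => by
      induction h with
      | refl => exact Relation.ReflTransGen.refl
      | tail _ h' ih => exact ih.tail (sylowMeet_smul g h')
  let H : Subgroup G :=
    { carrier := {g | R S (g • S)}
      one_mem' := by
        show R S ((1 : G) • S)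
        rw [one_smul]
      mul_mem' := fun {g h} hg hh => by
        show R S ((g * h) • S)
        rw [mul_smul]
        exact Relation.ReflTransGen.trans hg (hsmul g hh)
      inv_mem' := fun {g} hg => by
        show R S (g⁻¹ • S)
        have h' := hsmul g⁻¹ hg
        rw [inv_smul_smul] at h'
        exact hsymm h' }
  have hSH : (S : Subgroup G) ≤ H := fun s hs => by
    show R S (s • S)
    rw [Sylow.smul_eq_iff_mem_normalizer.mpr (Subgroup.le_normalizer hs)]
  have hp : p ∣ Nat.card S := by
    by_contra hnd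
    obtain ⟨n, hn⟩ := S.isPGroup'.exists_card_eq
    have hn0 : n = 0 := by
      by_contra h0
      exact hnd (hn ▸ dvd_pow_self p h0)
    rw [hn0, pow_zero] at hn
    apply hST
    obtain ⟨g, hg⟩ := MulAction.exists_smul_eq G S T
    have hS : (S : Subgroup G) = ⊥ := Subgroup.eq_bot_of_card_eq _ hn
    have : T = S := Sylow.ext (by
      rw [← hg, Sylow.coe_subgroup_smul, hS]
      simp)
    rw [this]
  refine ⟨H, ?_, hp.trans (Subgroup.card_dvd_of_le hSH), ?_⟩
  · intro htop
    obtain ⟨g, hg⟩ := MulAction.exists_smul_eq G S T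
    exact hST (hg ▸ (show g ∈ H from htop ▸ Subgroup.mem_top g))
  · intro g hg hdvd
    obtain ⟨⟨x, hx⟩, hxo⟩ := exists_prime_orderOf_dvd_card' p hdvd
    obtain ⟨hxH, y, hyH, hyx⟩ := Subgroup.mem_inf.mp hx
    have hxo' : orderOf x = p := by rw [← hxo, ← Subgroup.orderOf_coe]
    have hyo : orderOf y = p := by
      rw [← hxo', ← hyx]
      exact (orderOf_injective (MulAut.conj g).toMonoidHom (MulAut.conj g).injective y).symm
    -- a Sylow subgroup in the component containing a given element of order `p` of `H`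
    have hfind : ∀ z ∈ H, orderOf z = p → ∃ U : Sylow p G, R S U ∧ z ∈ (U : Subgroup G) := by
      intro z hz hzo
      have hzp : IsPGroup p (Subgroup.zpowers (⟨z, hz⟩ : H)) :=
        IsPGroup.of_card (n := 1) (by
          rw [Nat.card_zpowers, pow_one, ← Subgroup.orderOf_coe]; exact hzo)
      obtain ⟨Q, hQ⟩ := hzp.exists_le_sylow
      obtain ⟨h, hh⟩ := MulAction.exists_smul_eq H (S.subtype hSH) Q
      refine ⟨(h : G) • S, h.2, ?_⟩
      have hzQ : (⟨z, hz⟩ : H) ∈ (Q : Subgroup H) := hQ (Subgroup.mem_zpowers _)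
      rw [← hh, Sylow.smul_subtype, Sylow.coe_subtype, Subgroup.mem_subgroupOf] at hzQ
      exact hzQ
    obtain ⟨U, hU, hxU⟩ := hfind x hxH hxo'
    obtain ⟨V, hV, hyV⟩ := hfind y hyH hyo
    have hxV : x ∈ ((g • V : Sylow p G) : Subgroup G) := by
      rw [Sylow.coe_subgroup_smul, ← hyx]
      exact ⟨y, hyV, rfl⟩
    have hUV : R U (g • V) := by
      by_cases he : U = g • V
      · rw [← he]
      · refine Relation.ReflTransGen.single ⟨he, fun e => ?_⟩
        have : x ∈ (⊥ : Subgroup G) := e ▸ Subgroup.mem_inf.mpr ⟨hxU, hxV⟩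
        rw [Subgroup.mem_bot.mp this, orderOf_one] at hxo'
        exact (Fact.out : p.Prime).ne_one hxo'.symm
    exact hg ((hU.trans hUV).trans (hsymm (hsmul g hV)))

theorem classicalSE_sylow_le_of_inf_ne_bot {H : Subgroup G}
    (hse : ∀ g : G, g ∉ H → ¬ p ∣ Nat.card ↥(H ⊓ H.map (MulAut.conj g).toMonoidHom))
    {P : Sylow p G} (h : (P : Subgroup G) ⊓ H ≠ ⊥) : (P : Subgroup G) ≤ H := by
  by_contra hle
  set Q := (P : Subgroup G) ⊓ H with hQ
  have hQd : p ∣ Nat.card Q := by
    obtain ⟨n, hn⟩ := (P.isPGroup'.to_le (inf_le_left : Q ≤ P)).exists_card_eq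
    rw [hn]
    exact dvd_pow_self p fun h0 => h (Subgroup.eq_bot_of_card_eq _ (by rw [hn, h0, pow_zero]))
  haveI : Group.IsNilpotent (P : Subgroup G) := P.isPGroup'.isNilpotent
  have hlt : Q.subgroupOf P < ⊤ :=
    lt_top_iff_ne_top.mpr fun e => hle ((Subgroup.subgroupOf_eq_top.mp e).trans inf_le_right)
  obtain ⟨⟨x, hxP⟩, hxN, hxQ⟩ :=
    SetLike.exists_of_lt (Group.normalizerCondition_of_isNilpotent _ hlt)
  apply hxQ
  rw [Subgroup.mem_subgroupOf]
  refine Subgroup.mem_inf.mpr ⟨hxP, classicalSE_normalizer_le hse inf_le_right hQd ?_⟩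
  rw [Subgroup.mem_normalizer_iff]
  intro n
  constructor
  · intro hn
    exact Subgroup.mem_subgroupOf.mp ((Subgroup.mem_normalizer_iff.mp hxN
      ⟨n, (Subgroup.mem_inf.mp hn).1⟩).mp (Subgroup.mem_subgroupOf.mpr hn))
  · intro hn
    have hnP : n ∈ (P : Subgroup G) := by
      have := mul_mem (mul_mem (inv_mem hxP) (Subgroup.mem_inf.mp hn).1) hxP
      simpa [mul_assoc] using this
    exact Subgroup.mem_subgroupOf.mp ((Subgroup.mem_normalizer_iff.mp hxN ⟨n, hnP⟩).mpr
      (Subgroup.mem_subgroupOf.mpr hn))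

theorem not_connected_of_classicalSE {H : Subgroup G} (hH : H ≠ ⊤) (hpH : p ∣ Nat.card H)
    (hse : ∀ g : G, g ∉ H → ¬ p ∣ Nat.card ↥(H ⊓ H.map (MulAut.conj g).toMonoidHom)) :
    ¬ Cfsg.IsSylowChainConnected p G := by
  rw [chainConnected_iff_reach]
  intro hconn
  obtain ⟨S, hS⟩ := classicalSE_exists_sylow_le hse hpH
  obtain ⟨g, -, hg⟩ := SetLike.exists_of_lt (lt_top_iff_ne_top.mpr hH)
  have hall : ∀ T : Sylow p G, (T : Subgroup G) ≤ H := by
    intro T
    induction hconn S T with
    | refl => exact hS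
    | @tail U V _ hUV ih =>
      refine classicalSE_sylow_le_of_inf_ne_bot hse fun e => hUV.2 ?_
      rw [eq_bot_iff]
      exact le_trans (le_inf inf_le_right (inf_le_left.trans ih)) e.le
  have hpS : p ∣ Nat.card S := S.dvd_card_of_dvd_card (hpH.trans (Subgroup.card_subgroup_dvd_card H))
  refine hse g hg (dvd_trans ?_ (Subgroup.card_dvd_of_le (le_inf (hall (g • S)) ?_)))
  · rw [Sylow.coe_subgroup_smul]
    exact hpS.trans (
      (Subgroup.card_map_of_injective (K := (S : Subgroup G)) (f := (MulAut.conj g).toMonoidHom)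
        (MulAut.conj g).injective).symm.dvd)
  · rw [Sylow.coe_subgroup_smul]
    exact Subgroup.map_mono hS

end CfsgLib.LocEven
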